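import Cfsg.Agent.INV.L4.Defs
import Cfsg.Agent.CHEV.CTRecog
import Cfsg.Agent.KSG.ShortSt

set_option autoImplicit false

namespace CL.L4

open Matrix Subgroup Cfsg CL.ABG CL.R2 CL.L4.LL
open scoped MatrixGroups commutatorElement

namespace A2

variable {G F : Type*} [Group G] [Field F] (α : SL(2, F) →* G)

/-- The root element `k α(up r) k⁻¹`. -/
def R (k : G) (r : F) : G := k * α (up r) * k⁻¹
/-- Membership in a root group. -/
def In (k x : G) : Prop := ∃ r, x = R α k r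
/-- Commuting root groups. -/
def Cm (k l : G) : Prop := ∀ x y, In α k x → In α l y → Commute x y
/-- `[X k, X l] ≤ X m`. -/
def Km (k l m : G) : Prop := ∀ x y, In α k x → In α l y → In α m ⁅x, y⁆
/-- Disjoint root groups. -/
def Ds (k l : G) : Prop := ∀ x, In α k x → In α l x → x = 1

variable {α} {k l m n x y z : G}

theorem R_add (k : G) (r s : F) : R α k (r + s) = R α k r * R α k s := by
  rw [R, R, R, up_add, map_mul]; group

theorem R_zero (k : G) : R α k 0 = 1 := by rw [R, up_zero, map_one, mul_one, mul_inv_cancel]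

theorem R_neg (k : G) (r : F) : R α k (-r) = (R α k r)⁻¹ := by
  rw [eq_inv_iff_mul_eq_one, ← R_add, neg_add_cancel, R_zero]

theorem R_cj (m k : G) (r : F) : R α (m * k) r = m * R α k r * m⁻¹ := by rw [R, R]; group

theorem R_one (r : F) : R α 1 r = α (up r) := by rw [R, one_mul, inv_one, mul_one]

theorem R_comm (k : G) (r s : F) : Commute (R α k r) (R α k s) := by
  rw [Commute, SemiconjBy, ← R_add, add_comm, R_add]

theorem R_inj (hα : Function.Injective α) {r s : F} (h : R α k r = R α k s) : r = s :=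
  up_inj.1 (hα (mul_left_cancel (mul_right_cancel h)))

theorem mem (k : G) (r : F) : In α k (R α k r) := ⟨r, rfl⟩

theorem In.mul (h : In α k x) (h' : In α k y) : In α k (x * y) := by
  obtain ⟨r, rfl⟩ := h
  obtain ⟨s, rfl⟩ := h'
  exact ⟨r + s, (R_add k r s).symm⟩

theorem In.inv (h : In α k x) : In α k x⁻¹ := by
  obtain ⟨r, rfl⟩ := h
  exact ⟨-r, (R_neg k r).symm⟩

theorem In.conj (h : In α k x) (m : G) : In α (m * k) (m * x * m⁻¹) := by
  obtain ⟨r, rfl⟩ := h
  exact ⟨r, (R_cj m k r).symm⟩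

theorem In.ex (h : In α (m * k) x) : ∃ y, In α k y ∧ x = m * y * m⁻¹ := by
  obtain ⟨r, rfl⟩ := h
  exact ⟨_, mem k r, R_cj m k r⟩

theorem Cm.conj (h : Cm α k l) (m : G) : Cm α (m * k) (m * l) := fun _ _ hx hy => by
  obtain ⟨x, h1, rfl⟩ := hx.ex
  obtain ⟨y, h2, rfl⟩ := hy.ex
  exact (h x y h1 h2).map (MulAut.conj m)

theorem Cm.symm (h : Cm α k l) : Cm α l k := fun x y hx hy => (h y x hy hx).symm

theorem Km.conj (h : Km α k l n) (m : G) : Km α (m * k) (m * l) (m * n) := fun _ _ hx hy => by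
  obtain ⟨x, h1, rfl⟩ := hx.ex
  obtain ⟨y, h2, rfl⟩ := hy.ex
  rw [← conjugate_commutatorElement]
  exact (h x y h1 h2).conj m

theorem Km.symm (h : Km α k l n) : Km α l k n := fun x y hx hy => by
  rw [← commutatorElement_inv]
  exact (h y x hy hx).inv

theorem Ds.conj (h : Ds α k l) (m : G) : Ds α (m * k) (m * l) := fun _ hx hy => by
  obtain ⟨x, h1, rfl⟩ := hx.ex
  obtain ⟨y, h2, e⟩ := hy.ex
  rw [h x h1 (mul_left_cancel (mul_right_cancel e) ▸ h2), mul_one, mul_inv_cancel]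

theorem Ds.symm (h : Ds α k l) : Ds α l k := fun x h1 h2 => h x h2 h1

/-- The module lemma. -/
theorem modl {p : G} (hx : In α m x) (hy : In α n y) (hp : In α k p) (c : Cm α n k) (k1 : Km α m k l)
    (k2 : Km α l n k) (d : Ds α k l) (h : In α l (y * x * y * p * (y * x * y)⁻¹)) :
    ⁅x, p⁆ = y * x * y * p * (y * x * y)⁻¹ := by
  have q := k1 x p hx hp
  have e := (c y p hy hp).eq
  have e1 : ⁅x, p⁆⁻¹ * (y * x * y * p * (y * x * y)⁻¹) = ⁅⁅x, p⁆⁻¹, y⁆ * p := by
    calc _ = ⁅x, p⁆⁻¹ * (y * x * (y * p) * (y * x * y)⁻¹) := by group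
      _ = ⁅⁅x, p⁆⁻¹, y⁆ * (y * p * y⁻¹) := by
        conv_lhs => rw [e]
        simp only [commutatorElement_def]
        group
      _ = _ := by rw [e, mul_inv_cancel_right]
  exact inv_mul_eq_one.1 (d _ (e1 ▸ (k2 _ _ q.inv hy).mul hp) (q.inv.mul h))

theorem n1 (c : Fˣ) : lo (-((c⁻¹ : Fˣ) : F)) * up (c : F) * lo (-((c⁻¹ : Fˣ) : F)) = dg c * nn := by
  simp only [up, lo, dg, nn, mkS_mul, mkS_inj]
  refine ⟨?_, ?_, ?_, ?_⟩ <;> simp

theorem n2 (c : Fˣ) : up (c : F) * lo (-((c⁻¹ : Fˣ) : F)) * up (c : F) = dg c * nn := by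
  simp only [up, lo, dg, nn, mkS_mul, mkS_inj]
  refine ⟨?_, ?_, ?_, ?_⟩ <;> simp

theorem nn_up (r : F) : (nn * up r * nn⁻¹ : SL(2, F)) = lo (-r) := by rw [lo_eq, neg_neg]

theorem nn_lo (r : F) : (nn * lo r * nn⁻¹ : SL(2, F)) = up (-r) := by
  rw [mul_inv_eq_iff_eq_mul]
  simp only [up, lo, nn, mkS_mul, mkS_inj]
  refine ⟨?_, ?_, ?_, ?_⟩ <;> ring

theorem R_nn (k : G) (r : F) : R α (k * α nn) r = k * α (lo (-r)) * k⁻¹ := by
  rw [R_cj, R, ← map_inv, ← map_mul, ← map_mul, nn_up]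

theorem R_u (r : F) : R α (α nn) r = α (lo (-r)) := by simpa using R_nn (α := α) 1 r

end A2

namespace A2H

open A2

variable {G F : Type*} [Group G] [Field F] {α : SL(2, F) →* G} {T : Subgroup G} {g : G}
  (h : A2H α T g) {k l m x τ : G}
include h

theorem eqv (e : k⁻¹ * l ∈ T) : In α k = In α l := by
  have key : ∀ {k l : G}, k⁻¹ * l ∈ T → ∀ x, In α l x → In α k x := fun {k l} e x ⟨r, hr⟩ => by
    obtain ⟨c, hc⟩ := h.act _ e
    exact ⟨c * r, by rw [hr, R, R, ← (hc r).1]; group⟩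
  exact funext fun x => propext ⟨key (by simpa using inv_mem e) x, key e x⟩

omit h in
theorem cjT (hk : k ∈ normalizer (T : Set G)) (hτ : τ ∈ T) : k⁻¹ * τ * k ∈ T := by
  simpa using (mem_normalizer_iff.1 (inv_mem hk) τ).1 hτ

theorem eqv' (hk : k ∈ normalizer (T : Set G)) (hτ : τ ∈ T) : In α (τ * k) = In α k :=
  (h.eqv (by rw [← mul_assoc]; exact cjT hk hτ)).symm

omit h in
theorem uu : α nn * α nn = α (-1) := by rw [← map_mul, nn_mul_nn]

theorem zT : α (-1) ∈ T := dg_neg_one (F := F) ▸ h.dg (-1)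

theorem uT : α nn * α nn ∈ T := uu (α := α) ▸ h.zT

theorem e_uu (hk : k ∈ normalizer (T : Set G)) : In α (α nn * (α nn * k)) = In α k := by
  rw [← mul_assoc]; exact h.eqv' hk h.uT

theorem e_gg (hk : k ∈ normalizer (T : Set G)) : In α (g * (g * k)) = In α k := by
  rw [← mul_assoc]; exact h.eqv' hk h.gg

theorem e_u : In α (α nn * α nn) = In α 1 := by simpa using h.e_uu (one_mem _)

theorem e_g : In α (g * g) = In α 1 := by simpa using h.e_gg (one_mem _)

theorem e_br : In α (g * (α nn * g)) = In α (α nn * (g * α nn)) := by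
  refine (h.eqv ?_).symm
  have h1 := mul_mem (cjT (inv_mem h.nT) (mul_mem (cjT (inv_mem h.gT) h.uT) h.gg)) h.uT
  have h2 := cjT (mul_mem h.nT (mul_mem h.gT h.nT)) h.br
  convert mul_mem h2 (inv_mem h1) using 1
  simp only [pow_succ, pow_zero]
  group

theorem e_br' : In α (g * (α nn * (g * α nn))) = In α (α nn * g) := by
  have e := h.e_gg (mul_mem h.nT h.gT)
  refine funext fun x => propext ⟨fun hx => ?_, fun hx => ?_⟩
  · obtain ⟨y, hy, rfl⟩ := hx.ex
    exact e ▸ (h.e_br ▸ hy).conj g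
  · obtain ⟨y, hy, rfl⟩ := (e ▸ hx).ex
    exact (h.e_br ▸ hy).conj g

theorem c12_32 : Cm α 1 g := by
  rintro _ _ ⟨a, rfl⟩ ⟨b, rfl⟩
  rw [R_one]; exact h.c1 a b

theorem c21_23 : Cm α (α nn) (g * α nn) := by
  rintro _ _ ⟨a, rfl⟩ ⟨b, rfl⟩
  rw [R_u, R_nn]; exact h.c2 _ _

theorem c21_31 : Cm α (α nn) (α nn * g) := by simpa using h.c12_32.conj (α nn)

theorem c12_13 : Cm α 1 (α nn * (g * α nn)) := by
  have := h.c21_23.conj (α nn)
  rwa [Cm, h.e_u] at this

theorem c23_13 : Cm α (g * α nn) (α nn * (g * α nn)) := by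
  have := h.c21_31.conj g
  rwa [Cm, h.e_br] at this

theorem c32_31 : Cm α g (α nn * g) := by
  have := h.c12_13.conj g
  rwa [Cm, h.e_br', mul_one] at this

theorem k12_31 : Km α 1 (α nn * g) g := by
  rintro _ _ ⟨a, rfl⟩ ⟨b, rfl⟩
  obtain ⟨c, hc⟩ := h.c3 a b
  rw [R_one, commutatorElement_def, R, hc]
  exact ⟨c, mul_inv_eq_iff_eq_mul.2 (h.c32_31 _ _ (mem g c) (mem _ b)).eq.symm⟩

theorem k21_32 : Km α (α nn) g (α nn * g) := by
  have := h.k12_31.conj (α nn)
  rwa [Km, h.e_uu h.gT, mul_one] at this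

theorem k32_13 : Km α g (α nn * (g * α nn)) 1 := by
  have := h.k12_31.conj g
  rwa [Km, h.e_br, h.e_g, mul_one] at this

theorem k23_12 : Km α (g * α nn) 1 (α nn * (g * α nn)) := by
  have := h.k21_32.conj g
  rwa [Km, h.e_br, h.e_g] at this

theorem k31_23 : Km α (α nn * g) (g * α nn) (α nn) := by
  have := h.k32_13.conj (α nn)
  rwa [Km, h.e_uu (mul_mem h.gT h.nT), mul_one] at this

theorem k13_21 : Km α (α nn * (g * α nn)) (α nn) (g * α nn) := by
  have := h.k23_12.conj (α nn)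
  rwa [Km, h.e_uu (mul_mem h.gT h.nT), mul_one] at this

/-- `T` acts on opposite root groups by inverse scalars. -/
theorem sc (hk : k ∈ normalizer (T : Set G)) (hτ : τ ∈ T) : ∃ c : Fˣ, ∀ r,
    τ * R α k r * τ⁻¹ = R α k (c * r) ∧ τ * R α (k * α nn) r * τ⁻¹ = R α (k * α nn) ((c⁻¹ : Fˣ) * r) := by
  obtain ⟨c, hc⟩ := h.act _ (cjT hk hτ)
  refine ⟨c, fun r => ⟨?_, ?_⟩⟩
  · rw [R, R, ← (hc r).1]; group
  · rw [R_nn, R_nn, ← mul_neg, ← (hc (-r)).2]; group

theorem i32 (r : F) : α (-1) * R α g r * (α (-1))⁻¹ = R α g (-r) := h.neg r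

theorem i23 (r : F) : α (-1) * R α (g * α nn) r * (α (-1))⁻¹ = R α (g * α nn) (-r) := by
  obtain ⟨c, hc⟩ := h.sc h.gT h.zT
  have e : c = -1 := Units.ext (by simpa using R_inj h.inj ((hc 1).1.symm.trans (h.i32 1)))
  simpa [e] using (hc r).2

omit h in
theorem z_comm (s : SL(2, F)) : α (-1) * α s = α s * α (-1) := by rw [← map_mul, ← map_mul]; simp

omit h in
theorem i_u {r s : F} (e : α (-1) * R α k r * (α (-1))⁻¹ = R α k s) :
    α (-1) * R α (α nn * k) r * (α (-1))⁻¹ = R α (α nn * k) s := by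
  rw [R_cj, R_cj, ← e, ← mul_assoc, ← mul_assoc, z_comm, mul_assoc _ (α nn)⁻¹, ← _root_.mul_inv_rev,
    z_comm, _root_.mul_inv_rev]
  group

theorem ds (h2 : (2 : F) ≠ 0) (h1 : ∀ x, In α k x → α (-1) * x = x * α (-1))
    (h3 : ∀ r, α (-1) * R α l r * (α (-1))⁻¹ = R α l (-r)) : Ds α k l := by
  rintro _ hx ⟨r, rfl⟩
  have e := h3 r
  rw [h1 _ hx, mul_inv_cancel_right] at e
  have := R_inj h.inj e
  rw [show r = 0 from mul_left_cancel₀ h2 (by linear_combination this), R_zero]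

variable (h2 : (2 : F) ≠ 0)
include h2

theorem d12_13 : Ds α 1 (α nn * (g * α nn)) :=
  h.ds h2 (by rintro _ ⟨r, rfl⟩; rw [R_one, z_comm]) fun r => i_u (h.i23 r)

theorem d21_31 : Ds α (α nn) (α nn * g) :=
  h.ds h2 (by rintro _ ⟨r, rfl⟩; rw [R_u, z_comm]) fun r => i_u (h.i32 r)

theorem d32_31 : Ds α g (α nn * g) := by
  have := (h.d12_13 h2).conj g
  rwa [Ds, h.e_br', mul_one] at this

theorem d23_13 : Ds α (g * α nn) (α nn * (g * α nn)) := by
  have := (h.d21_31 h2).conj g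
  rwa [Ds, h.e_br] at this

/-- The scalar by which `α (dg c)` acts on `X13`. -/
theorem exists_sc (c : Fˣ) : ∃ s : Fˣ, ∀ b,
    α (ABG.dg c) * R α (α nn * (g * α nn)) b * (α (ABG.dg c))⁻¹ = R α (α nn * (g * α nn)) (s * b) ∧
    ⁅α (up (c : F)), R α (g * α nn) b⁆ = R α (α nn * (g * α nn)) (s * b) ∧
    ⁅α (lo (-((c⁻¹ : Fˣ) : F))), R α g b⁆ = R α (α nn * g) ((s⁻¹ : Fˣ) * b) := by
  obtain ⟨s, hs⟩ := h.sc (mul_mem h.nT h.gT) (h.dg c)
  simp only [mul_assoc (α nn) g] at hs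
  have m1 : In α 1 (α (up (c : F))) := ⟨c, (R_one _).symm⟩
  have m2 : In α (α nn) (α (lo (-((c⁻¹ : Fˣ) : F)))) := ⟨_, (R_u _).symm⟩
  refine ⟨s⁻¹, fun b => ⟨(hs b).2, ?_, ?_⟩⟩
  · have e : α (lo (-((c⁻¹ : Fˣ) : F))) * α (up (c : F)) * α (lo (-((c⁻¹ : Fˣ) : F))) * R α (g * α nn) b *
        (α (lo (-((c⁻¹ : Fˣ) : F))) * α (up (c : F)) * α (lo (-((c⁻¹ : Fˣ) : F))))⁻¹ =
        R α (α nn * (g * α nn)) ((s⁻¹ : Fˣ) * b) := by
      rw [← map_mul, ← map_mul, n1, map_mul, ← (hs b).2, R_cj (α nn)]; group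
    rw [modl m1 m2 (mem _ b) h.c21_23 h.k23_12.symm h.k13_21 (h.d23_13 h2) (e ▸ mem _ _), e]
  · have e : α (up (c : F)) * α (lo (-((c⁻¹ : Fˣ) : F))) * α (up (c : F)) * R α g b *
        (α (up (c : F)) * α (lo (-((c⁻¹ : Fˣ) : F))) * α (up (c : F)))⁻¹ = R α (α nn * g) (s * b) := by
      rw [← map_mul, ← map_mul, n2, map_mul, ← (hs b).1, R_cj (α nn)]; group
    rw [modl m2 m1 (mem _ b) h.c12_32 h.k21_32 h.k12_31.symm (h.d32_31 h2) (e ▸ mem _ _), e, inv_inv]

theorem exists_σ : ∃ σ : F →+* F, ∀ a b,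
    ⁅α (up a), R α (g * α nn) b⁆ = R α (α nn * (g * α nn)) (σ a * b) ∧
    ⁅α (lo a), R α g b⁆ = R α (α nn * g) (-(σ a * b)) := by
  classical
  choose s hs using h.exists_sc h2
  let σ : F → F := fun a => if e : a = 0 then 0 else s (Units.mk0 a e)
  have s1 : ∀ c : Fˣ, σ c = s c := fun c => by simp [σ]
  have s0 : σ 0 = 0 := by simp [σ]
  have k1 : ∀ a b, ⁅α (up a), R α (g * α nn) b⁆ = R α (α nn * (g * α nn)) (σ a * b) := fun a b => by
    by_cases e : a = 0
    · rw [e, s0, up_zero, map_one, zero_mul, R_zero, commutatorElement_one_left]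
    · simpa [σ, e] using (hs (Units.mk0 a e) b).2.1
  have k2 : ∀ a a', σ (a + a') = σ a + σ a' := fun a a' => by
    have e := (h.c12_13 _ _ ⟨a, (R_one a).symm⟩ (mem _ (σ a' * 1))).eq
    refine R_inj h.inj (k := α nn * (g * α nn)) ?_
    rw [add_comm (σ a), R_add, ← mul_one (σ (a + a')), ← mul_one (σ a), ← mul_one (σ a'), ← k1, ← k1 a,
      ← mul_inv_eq_iff_eq_mul.2 e, ← k1, up_add, map_mul]
    simp only [commutatorElement_def]
    group
  have k3 : ∀ c c' : Fˣ, s (c * c') = s c * s c' := fun c c' => Units.ext (by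
    refine R_inj h.inj (k := α nn * (g * α nn)) ?_
    rw [Units.val_mul, ← (hs c _).1, ← mul_one (s c' : F), ← (hs c' 1).1, ← mul_one (s (c * c') : F),
      ← (hs _ 1).1, dg_mul, map_mul]
    group)
  have k4 : s 1 = 1 := by simpa using k3 1 1
  let σ' : F →+* F :=
    { toFun := σ
      map_one' := by simpa [k4] using s1 1
      map_zero' := s0
      map_add' := k2
      map_mul' := fun a a' => by
        by_cases e : a = 0
        · rw [e, zero_mul, s0, zero_mul]
        by_cases e' : a' = 0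
        · rw [e', mul_zero, s0, mul_zero]
        simpa [k3, ← s1] using s1 (Units.mk0 a e * Units.mk0 a' e') }
  refine ⟨σ', fun a b => ⟨k1 a b, ?_⟩⟩
  by_cases e : a = 0
  · rw [e, map_zero, zero_mul, neg_zero, R_zero, lo_eq, neg_zero, up_zero, mul_one, mul_inv_cancel,
      map_one, commutatorElement_one_left]
  have := (hs (-(Units.mk0 a e)⁻¹) b).2.2
  rw [Units.val_inv_eq_inv_val, Units.val_inv_eq_inv_val, ← s1] at this
  change _ = R α _ ((σ' _)⁻¹ * b) at this
  simpa [inv_neg] using this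

omit h2 in
theorem z' (hx : In α 1 x ∨ In α (α nn) x) : g * α (-1) * g⁻¹ * x * (g * α (-1) * g⁻¹)⁻¹ = x⁻¹ := by
  rcases hx with hx | hx
  · obtain ⟨_, ⟨r, rfl⟩, rfl⟩ := (h.e_g ▸ hx).ex
    rw [_root_.mul_inv_rev (g * R α g r), _root_.mul_inv_rev g, ← R_neg, ← h.i32]; group
  · obtain ⟨_, ⟨r, rfl⟩, rfl⟩ := (h.e_gg h.nT ▸ hx).ex
    rw [_root_.mul_inv_rev (g * R α _ r), _root_.mul_inv_rev g, ← R_neg, ← h.i23]; group

theorem v12 (hx : In α 1 x) :
    ⁅R α (g * α nn) 1, x⁆ = g * α nn * g⁻¹ * x * (g * α nn * g⁻¹)⁻¹ := by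
  have e : R α g 1 * R α (g * α nn) 1 * R α g 1 = g * α nn * g⁻¹ := by
    rw [R_nn, R, nn_eq_ulu, map_mul, map_mul]; group
  have e1 : In α (g * α nn * g⁻¹ * 1) = In α (α nn * (g * α nn)) :=
    (h.eqv (by convert h.gg using 1; group)).trans h.e_br
  rw [← e]
  exact modl (mem _ 1) (mem _ 1) hx h.c12_32.symm h.k23_12 h.k32_13.symm (h.d12_13 h2)
    (by rw [e, ← e1]; exact hx.conj _)

theorem v21 (hx : In α (α nn) x) : ⁅R α g 1, x⁆ = g * α nn * g⁻¹ * x * (g * α nn * g⁻¹)⁻¹ := by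
  have e : R α (g * α nn) 1 * R α g 1 * R α (g * α nn) 1 = g * α nn * g⁻¹ := by
    have := n1 (1 : Fˣ)
    rw [dg_one, one_mul, inv_one, Units.val_one] at this
    rw [R_nn, R, ← this, map_mul, map_mul]; group
  have e1 : In α (g * α nn * g⁻¹ * α nn) = In α (α nn * g) :=
    (h.eqv (by convert cjT h.nT h.gg using 1; group)).trans h.e_br'
  rw [← e]
  exact modl (mem _ 1) (mem _ 1) hx h.c21_23.symm h.k21_32.symm h.k31_23 (h.d21_31 h2)
    (by rw [e, ← e1]; exact hx.conj _)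

end A2H

open A2 A2H in
/-- BLOCK A2.  Labels: `x12 = α up`, `x21 = α lo`, `x32 b = g α (up b) g⁻¹`, `x23 b = g α (lo b) g⁻¹`,
`u = α nn`, `x13 = u x23 u⁻¹`, `x31 = u x32 u⁻¹`; the module lemma `A2.modl` gives the six relations of
Steinberg's presentation of `SL₃`. -/
theorem A2H.compat {G F : Type*} [Group G] [Field F] [Finite F] (h2 : (2 : F) ≠ 0) {α : SL(2, F) →* G}
    {T : Subgroup G} {g : G} (h : A2H α T g) :
    ∃ α' β' : SL(2, F) →* G, Function.Injective α' ∧ Function.Injective β' ∧ α'.range = α.range ∧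
      β'.range = ((MulAut.conj g).toMonoidHom.comp α).range ∧ Chev.CTM.Compat α' β' := by
  obtain ⟨σ, hσ⟩ := h.exists_σ h2
  let e : F ≃+* F := RingEquiv.ofBijective σ (Finite.injective_iff_bijective.1 σ.injective)
  have he : ∀ a, σ (e.symm a) = a := e.apply_symm_apply
  let μ : (F ≃+* F) → (SL(2, F) →* SL(2, F)) := fun f => SpecialLinearGroup.map f.toRingHom
  have μu : ∀ f r, μ f (up r) = up (f r) := fun f r => Subtype.ext (by
    change f.toRingHom.mapMatrix !![1, r; 0, 1] = !![1, f r; 0, 1]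
    ext i j; fin_cases i <;> fin_cases j <;> simp)
  have μl : ∀ f r, μ f (lo r) = lo (f r) := fun f r => Subtype.ext (by
    change f.toRingHom.mapMatrix !![1, 0; r, 1] = !![1, 0; f r, 1]
    ext i j; fin_cases i <;> fin_cases j <;> simp)
  have μμ : ∀ f s, μ f (μ f.symm s) = s := fun f s => Subtype.ext (by
    ext i j; simp [μ])
  let x : Fin 3 → Fin 3 → F → G :=
    ![![fun _ => 1, fun a => R α 1 (e.symm a), R α (α nn * (g * α nn))],
      ![fun a => R α (α nn) (-e.symm a), fun _ => 1, R α (g * α nn)],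
      ![fun a => R α (α nn * g) (-a), fun a => R α g (-a), fun _ => 1]]
  have r012 : ∀ s t, ⁅R α 1 (e.symm s), R α (g * α nn) t⁆ = R α (α nn * (g * α nn)) (s * t) :=
    fun s t => by rw [R_one, (hσ _ _).1, he]
  have r210 : ∀ s t, ⁅R α g (-s), R α (α nn) (-e.symm t)⁆ = R α (α nn * g) (-(s * t)) := fun s t => by
    rw [← commutatorElement_inv, R_u, neg_neg, (hσ _ _).2, he, ← R_neg]
    congr 1; ring
  have r102 : ∀ s t, ⁅R α (α nn) (-e.symm s), R α (α nn * (g * α nn)) t⁆ = R α (g * α nn) (s * t) :=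
    fun s t => by
      have := congrArg (fun y => α nn * y * (α nn)⁻¹) (r012 (-s) t)
      simp only [conjugate_commutatorElement, ← R_cj, mul_one, map_neg, ← mul_assoc (α nn) (α nn), uu] at this
      rw [this, R_cj, h.i23, neg_mul, neg_neg]
  have r201 : ∀ s t, ⁅R α (α nn * g) (-s), R α 1 (e.symm t)⁆ = R α g (-(s * t)) := fun s t => by
    have := congrArg (fun y => α nn * y * (α nn)⁻¹) (r210 s (-t))
    simp only [conjugate_commutatorElement, ← R_cj, map_neg, neg_neg, ← mul_assoc (α nn) (α nn), uu] at this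
    have e1 : ∀ r, R α (α (-1)) r = R α 1 r := fun r => by rw [R, z_comm, mul_inv_cancel_right, R_one]
    rwa [R_cj (α (-1)) g, h.i32, mul_neg, neg_neg, e1] at this
  have vv : ∀ y, g * α nn * g⁻¹ * (g * α nn * g⁻¹ * y * (g * α nn * g⁻¹)⁻¹) * (g * α nn * g⁻¹)⁻¹ =
      g * α (-1) * g⁻¹ * y * (g * α (-1) * g⁻¹)⁻¹ := fun y => by rw [← uu]; group
  have v1 : ∀ s, g * α nn * g⁻¹ * R α 1 (e.symm (-s)) * (g * α nn * g⁻¹)⁻¹ =
      R α (α nn * (g * α nn)) s := fun s => by
    rw [← h.v12 h2 (mem _ _), ← commutatorElement_inv, r012, ← R_neg, mul_one, neg_neg]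
  have v2 : ∀ s, g * α nn * g⁻¹ * R α (α nn) (-e.symm (-s)) * (g * α nn * g⁻¹)⁻¹ =
      R α (α nn * g) (-s) := fun s => by
    have := r210 (-1) (-s)
    rw [neg_neg, neg_mul_neg, one_mul] at this
    rw [← h.v21 h2 (mem _ _), this]
  have v3 : ∀ s, g * α nn * g⁻¹ * R α g s * (g * α nn * g⁻¹)⁻¹ = R α (g * α nn) s := fun s => by
    rw [R, R]; group
  have v4 : ∀ s, g * α nn * g⁻¹ * R α (g * α nn) s * (g * α nn * g⁻¹)⁻¹ = R α g s := fun s => by
    rw [R_nn, R, ← neg_neg s, ← nn_lo, neg_neg, map_mul, map_mul, map_inv]; group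
  have r021 : ∀ s t, ⁅R α (α nn * (g * α nn)) s, R α g (-t)⁆ = R α 1 (e.symm (s * t)) := fun s t => by
    have := congrArg (fun y => g * α nn * g⁻¹ * y * (g * α nn * g⁻¹)⁻¹) (r012 (-s) (-t))
    simp only [conjugate_commutatorElement, v1, v4] at this
    rw [this, neg_mul_neg, ← v1, vv, h.z' (Or.inl (mem _ _)), ← R_neg, map_neg, neg_neg]
  have r120 : ∀ s t, ⁅R α (g * α nn) s, R α (α nn * g) (-t)⁆ = R α (α nn) (-e.symm (s * t)) :=
    fun s t => by
      have := congrArg (fun y => g * α nn * g⁻¹ * y * (g * α nn * g⁻¹)⁻¹) (r210 (-s) (-t))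
      simp only [conjugate_commutatorElement, v2, v3] at this
      rw [neg_neg] at this
      rw [this, neg_mul_neg, ← v2, vv, h.z' (Or.inr (mem _ _)), ← R_neg, map_neg, neg_neg]
  obtain ⟨π, hπ⟩ := Chev.Cl.exists_hom_SL (m := 3) le_rfl x
    (fun i j hij s t => by
      fin_cases i <;> fin_cases j <;> first
        | exact absurd rfl hij
        | simp [x, ← R_add, add_comm])
    (fun i j k l h1 h3 h4 h5 s t => by
      have c1 := h.c12_32
      have c2 := h.c21_23
      have c3 := h.c21_31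
      have c4 := h.c12_13
      have c5 := h.c23_13
      have c6 := h.c32_31
      fin_cases i <;> fin_cases j <;> fin_cases k <;> fin_cases l <;> first
        | exact absurd rfl h1
        | exact absurd rfl h3
        | exact absurd rfl h4
        | exact absurd rfl h5
        | exact R_comm _ _ _
        | exact c1 _ _ (mem _ _) (mem _ _)
        | exact c2 _ _ (mem _ _) (mem _ _)
        | exact c3 _ _ (mem _ _) (mem _ _)
        | exact c4 _ _ (mem _ _) (mem _ _)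
        | exact c5 _ _ (mem _ _) (mem _ _)
        | exact c6 _ _ (mem _ _) (mem _ _)
        | exact c1.symm _ _ (mem _ _) (mem _ _)
        | exact c2.symm _ _ (mem _ _) (mem _ _)
        | exact c3.symm _ _ (mem _ _) (mem _ _)
        | exact c4.symm _ _ (mem _ _) (mem _ _)
        | exact c5.symm _ _ (mem _ _) (mem _ _)
        | exact c6.symm _ _ (mem _ _) (mem _ _))
    (fun i j l h1 h3 h4 s t => by
      fin_cases i <;> fin_cases j <;> fin_cases l <;> first
        | exact absurd rfl h1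
        | exact absurd rfl h3
        | exact absurd rfl h4
        | exact r012 s t
        | exact r021 s t
        | exact r102 s t
        | exact r120 s t
        | exact r201 s t
        | exact r210 s t)
  refine ⟨α.comp (μ e.symm), ((MulAut.conj g).toMonoidHom.comp α).comp (MulAut.conj nn).toMonoidHom,
    h.inj.comp (Function.LeftInverse.injective (μμ e)),
    ((MulAut.conj g).injective.comp h.inj).comp (MulAut.conj nn).injective, ?_, ?_, π, ?_, ?_⟩
  · rw [MonoidHom.range_comp, MonoidHom.range_eq_top.2 (Function.RightInverse.surjective (μμ e.symm)),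
      ← MonoidHom.range_eq_map]
  · rw [MonoidHom.range_comp, MonoidHom.range_eq_top.2 (MulAut.conj nn).surjective,
      ← MonoidHom.range_eq_map]
  · refine Chev.CTM.hom_ext2 (fun t => ?_) fun t => ?_
    · refine (congrArg π (Subtype.ext ?_)).trans ((hπ 0 1 (by decide) t).trans
        ((R_one _).trans (congrArg α (μu _ t).symm)))
      rw [Chev.CTM.coe_i1_upper, SpecialLinearGroup.transvection_coe]
      ext i j; fin_cases i <;> fin_cases j <;> simp
    · refine (congrArg π (Subtype.ext ?_)).trans ((hπ 1 0 (by decide) t).trans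
        ((R_u _).trans (congrArg α ((congrArg lo (neg_neg _)).trans (μl _ t).symm))))
      rw [Chev.CTM.coe_i1_lower, SpecialLinearGroup.transvection_coe]
      ext i j; fin_cases i <;> fin_cases j <;> simp
  · refine Chev.CTM.hom_ext2 (fun t => ?_) fun t => ?_
    · refine (congrArg π (Subtype.ext ?_)).trans ((hπ 1 2 (by decide) t).trans
        ((R_nn g t).trans (congrArg (fun y => g * α y * g⁻¹) (nn_up t).symm)))
      rw [Chev.CTM.coe_i2_upper, SpecialLinearGroup.transvection_coe]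
      ext i j; fin_cases i <;> fin_cases j <;> simp
    · refine (congrArg π (Subtype.ext ?_)).trans ((hπ 2 1 (by decide) t).trans
        (congrArg (fun y => g * α y * g⁻¹) (nn_lo t).symm))
      rw [Chev.CTM.coe_i2_lower, SpecialLinearGroup.transvection_coe]
      ext i j; fin_cases i <;> fin_cases j <;> simp

end CL.L4
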