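import Mathlib.GroupTheory.SpecificGroups.Alternating

/-!
Centralisers of involutions in alternating groups have a normal elementary abelian subgroup of order at least four.
-/

set_option autoImplicit false

namespace CL.L4

open Equiv Equiv.Perm

variable {α : Type*} [DecidableEq α] {t : Perm α}

theorem swap_conj (c : Perm α) (x y : α) : c * swap x y * c⁻¹ = swap (c x) (c y) := (swap_apply_apply c x y).symm

theorem swap_comm_inv (h : ∀ z, t (t z) = z) (x y : α) : Commute (swap x (t x)) (swap y (t y)) := by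
  refine mul_inv_eq_iff_eq_mul.1 ((swap_conj _ _ _).trans ?_)
  by_cases h1 : y = x
  · rw [h1, swap_apply_left, swap_apply_right, swap_comm]
  by_cases h2 : y = t x
  · rw [h2, h, swap_apply_left, swap_apply_right, swap_comm]
  rw [swap_apply_of_ne_of_ne h1 h2, swap_apply_of_ne_of_ne (fun e => h2 (by rw [← e, h])) (t.injective.ne h1)]

theorem swap_comm_ne {a b c d : α} (h1 : c ≠ a) (h2 : c ≠ b) (h3 : d ≠ a) (h4 : d ≠ b) :
    Commute (swap a b) (swap c d) := mul_inv_eq_iff_eq_mul.1 (by
  rw [swap_conj, swap_apply_of_ne_of_ne h1 h2, swap_apply_of_ne_of_ne h3 h4])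

theorem swap_sq {a b c d : α} (h : Commute (swap a b) (swap c d)) :
    swap a b * swap c d * (swap a b * swap c d) = 1 := by
  rw [h.symm.mul_mul_mul_comm, swap_mul_self, swap_mul_self, one_mul]

theorem perm_four [Fintype α] (h : ∀ z, t (t z) = z) (h1 : t ≠ 1) (hs : sign t = 1) :
    ∃ v : Perm α, sign v = 1 ∧ v * v = 1 ∧ v ≠ 1 ∧ v ≠ t ∧ Commute v t ∧
      ∀ c, Commute c t → Commute v (c * v * c⁻¹) := by
  obtain ⟨a, ha⟩ : ∃ a, t a ≠ a := not_forall.1 fun e => h1 (Equiv.ext e)
  obtain ⟨b, hb⟩ : ∃ b, t b ≠ swap a (t a) b := not_forall.1 fun e => by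
    have := sign_swap ha.symm
    rw [← Equiv.ext e, hs] at this
    exact absurd this (by decide)
  have ba : b ≠ a := by rintro rfl; exact hb (swap_apply_left _ _).symm
  have bta : b ≠ t a := by rintro rfl; exact hb (by rw [h, swap_apply_right])
  have hb' : t b ≠ b := by rwa [swap_apply_of_ne_of_ne ba bta] at hb
  have tba : t b ≠ a := fun e => bta (by rw [← e, h])
  have tbta : t b ≠ t a := t.injective.ne ba
  have sc : ∀ c, Commute c t → ∀ x, c (t x) = t (c x) := fun c hc x => DFunLike.congr_fun hc x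
  have cm : ∀ c x y : Perm α, c * (x * y) * c⁻¹ = c * x * c⁻¹ * (c * y * c⁻¹) := fun c x y => by group
  by_cases e : swap a (t a) * swap b (t b) = t
  · have c0 : Commute (swap a b) (swap (t a) (t b)) := swap_comm_ne ha bta.symm tba hb'
    have mv : ∀ z, t z ≠ z → z = a ∨ z = t a ∨ z = b ∨ z = t b := fun z hz => by
      by_contra hn
      simp only [not_or] at hn
      exact hz (by rw [← e, mul_apply, swap_apply_of_ne_of_ne hn.2.2.1 hn.2.2.2,
        swap_apply_of_ne_of_ne hn.1 hn.2.1])
    set v := swap a b * swap (t a) (t b) with hv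
    have vt : Commute v t := (mul_inv_eq_iff_eq_mul.1 (by rw [hv, cm, swap_conj, swap_conj, h, h, c0.eq])).symm
    have v2 : v * v = 1 := swap_sq c0
    have va : v a = b := by rw [hv, mul_apply, swap_apply_of_ne_of_ne ha.symm tba.symm, swap_apply_left]
    have vv : ∀ z, v (v z) = z := fun z => DFunLike.congr_fun v2 z
    have vb : v b = a := by rw [← va, vv]
    have nz : ∀ z, t z ≠ z → v z ≠ z ∧ v z ≠ t z := fun z hz => by
      rcases mv z hz with rfl | rfl | rfl | rfl
      · rw [va]; exact ⟨ba, bta⟩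
      · rw [sc v vt, va, h]; exact ⟨tbta, tba⟩
      · rw [vb]; exact ⟨ba.symm, tba.symm⟩
      · rw [sc v vt, vb, h]; exact ⟨tbta.symm, bta.symm⟩
    refine ⟨v, by simp [hv, ba.symm, tbta.symm], v2, fun e => ba (by rw [← va, e, one_apply]),
      fun e => bta (by rw [← va, e]), vt, fun c hc => ?_⟩
    have ut : Commute (c * v * c⁻¹) t := (hc.mul_left vt).mul_left hc.inv_left
    have ua : ∀ z, t z ≠ z → (c * v * c⁻¹) z ≠ z ∧ (c * v * c⁻¹) z ≠ t z := fun z hz => by
      obtain ⟨z, rfl⟩ := c.surjective z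
      rw [← sc c hc] at hz ⊢
      simp only [mul_apply, Perm.coe_inv, symm_apply_apply, ne_eq, EmbeddingLike.apply_eq_iff_eq] at hz ⊢
      exact nz z hz
    have uu : ∀ z, (c * v * c⁻¹) ((c * v * c⁻¹) z) = z := fun z => by simp [vv]
    generalize c * v * c⁻¹ = u at ut ua uu
    refine (mul_inv_eq_iff_eq_mul.1 ?_).symm
    rw [hv, cm, swap_conj, swap_conj, sc u ut, sc u ut]
    rcases mv (u a) (by rw [← sc u ut]; exact u.injective.ne ha) with e | e | e | e
    · exact absurd e (ua a ha).1
    · exact absurd e (ua a ha).2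
    · rw [e, ← e, uu, e, swap_comm b, swap_comm (t b)]
    · have : u b = t a := by rw [← h b, ← e, sc u ut, uu]
      rw [e, this, h, h, swap_comm b, swap_comm (t b), c0.eq]
  · have st : ∀ x, Commute (swap x (t x)) t := fun x =>
      (mul_inv_eq_iff_eq_mul.1 (by rw [swap_conj, h, swap_comm])).symm
    refine ⟨_, by simp [ha.symm, hb'.symm], swap_sq (swap_comm_inv h a b), fun e => ha ?_, e,
      (st a).mul_left (st b), fun c hc => ?_⟩
    · simpa [swap_apply_of_ne_of_ne ba.symm tba.symm] using DFunLike.congr_fun e a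
    · rw [cm, swap_conj, swap_conj, sc c hc, sc c hc]
      exact ((swap_comm_inv h _ _).mul_right (swap_comm_inv h _ _)).mul_left
        ((swap_comm_inv h _ _).mul_right (swap_comm_inv h _ _))

end CL.L4
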