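import Cfsg.Agent.INV.L4.Api
import Cfsg.Agent.CHEV.CTRecog
import Cfsg.Agent.CHEV.ClTwU
import Cfsg.Agent.REC.Hay.SL
import Cfsg.Agent.S0249

/-!
The subgroup `PSL₄(q)` generated by `L₁`, `L₂` and `g L₁ g⁻¹`.
-/

set_option autoImplicit false

namespace CL.L4

open Matrix Subgroup Cfsg CL.ABG CL.R2 CL.L4.LL CL.Chev CL.Chev.CTM
open scoped MatrixGroups

theorem comm_of_comm_sq {G F : Type*} [Group G] [Field F] (h2 : (2 : F) ≠ 0) {ι : SL(2, F) →* G}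
    (hι : Function.Injective ι) {v : G} {a : Matrix (Fin 2) (Fin 2) F} (H : Acts ι v a 1)
    (h : ∀ s, ι s * (v * ι s⁻¹ * v⁻¹) * (ι s * (v * ι s⁻¹ * v⁻¹)) = 1) (s : SL(2, F)) : Commute v (ι s) := by
  have key : ∀ s : SL(2, F), s⁻¹.1.trace = 2 → s ∈ (centralizer {v}).comap ι := fun s hs => by
    obtain ⟨s', e1, e2⟩ := H.ex s⁻¹
    have := h s
    rw [e2, ← map_mul, ← map_mul, map_eq_one_iff _ hι] at this
    rw [map_one_equiv] at e1
    rcases Hay.sq_one_sl2 h2 this with e | e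
    · rw [eq_inv_of_mul_eq_one_right e, mul_inv_eq_iff_eq_mul, map_inv] at e2
      exact mem_centralizer_singleton_iff.2 (Commute.inv_right_iff.1 e2).symm
    · obtain rfl : s' = -s⁻¹ := by rw [← inv_mul_cancel_left s s', e]; simp
      have := congrArg (fun x => trace (x * a⁻¹)) e1
      simp only [mul_nonsing_inv_cancel_right _ _ H.det.isUnit] at this
      rw [trace_mul_cycle, nonsing_inv_mul _ H.det.isUnit, one_mul, hs, SpecialLinearGroup.coe_neg, trace_neg,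
        hs] at this
      exact absurd (mul_self_eq_zero.1 (by linear_combination -this)) h2
  exact (mem_centralizer_singleton_iff.1 (mem_of_upper_lower
    (fun t => key _ (by rw [upper_inv]; simp [SL2Hom.coe_upper, one_add_one_eq_two]))
    (fun t => key _ (by rw [lower_inv]; simp [SL2Hom.coe_lower, one_add_one_eq_two])) s)).symm

theorem range_conj {G H : Type*} [Group G] [Group H] [Finite H] {ι ι' : H →* G} (h1 : Function.Injective ι)
    (h2 : Function.Injective ι') {k : G} (h : ∀ s, ∃ s', k * ι s * k⁻¹ = ι' s') :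
    ((MulAut.conj k).toMonoidHom.comp ι).range = ι'.range := by
  have : Finite ι'.range := .of_surjective _ ι'.rangeRestrict_surjective
  refine eq_of_le_of_card_ge (by rintro _ ⟨s, rfl⟩; exact (h s).imp fun _ e => e.symm) ?_
  rw [← Nat.card_congr (MonoidHom.ofInjective h2).toEquiv,
    ← Nat.card_congr (MonoidHom.ofInjective ((MulAut.conj k).injective.comp h1)).toEquiv]

theorem diag_eq_sq {F : Type*} [Field F] {d : SL(4, F)}
    (hd : (d : Matrix (Fin 4) (Fin 4) F) = Matrix.diagonal ![-1, -1, 1, 1]) (h : (0 : Fin 4) ≠ 1) (h' : (1 : Fin 4) ≠ 0) :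
    d = .transvection h 1 * .transvection h' (-1) * .transvection h 1 *
      (.transvection h 1 * .transvection h' (-1) * .transvection h 1) := by
  refine Subtype.ext (hd.trans ?_)
  simp only [Matrix.SpecialLinearGroup.coe_mul, Matrix.SpecialLinearGroup.transvection_coe]
  ext i j
  fin_cases i <;> fin_cases j <;> simp [Matrix.mul_apply, Fin.sum_univ_four, Matrix.one_apply, Matrix.single_apply]

namespace Dat

variable {G F : Type*} [Group G] [Field F] [Fintype F] (Γ : Dat G F)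

theorem eq_of_scal {x : LL F} {a b : F} (h1 : x.A = a • 1) (h2 : x.B = b • 1) (h : a * a = b * b) :
    Γ.ψ x = 1 ∨ Γ.ψ x = Γ.t := by
  rcases mul_self_eq_mul_self_iff.1 h with rfl | rfl
  · exact Or.inl ((Γ.ker x).2 ⟨a, h1, h2⟩)
  · exact Or.inr (Γ.eq_of_smul b (by simp [h1]) (by simpa using h2))

theorem no_four {v : G} (v2 : v * v = 1) (vt : Commute v Γ.t)
    (h : ∀ c, Commute c Γ.t → Commute v (c * v * c⁻¹)) : v = 1 ∨ v = Γ.t := by
  have vi : v⁻¹ = v := inv_eq_of_mul_eq_one_right v2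
  have key : ∀ c, Commute c Γ.t → c * (v * c⁻¹ * v⁻¹) * (c * (v * c⁻¹ * v⁻¹)) = 1 := fun c hc => by
    rw [vi, show c * (v * c⁻¹ * v) = c * v * c⁻¹ * v by group, (h c hc).mul_mul_mul_comm, v2, conj_mul, v2]
    simp
  obtain ⟨x, rfl | rfl⟩ := Γ.comm_iff.1 vt
  · have a1 := ((Γ.acts₁ x).scalar Γ.two.inj₁ (comm_of_comm_sq Γ.two_ne Γ.two.inj₁ (Γ.acts₁ x)
      fun s => by rw [map_inv]; exact key _ (Γ.two.comm₁ s))).2
    have a2 := ((Γ.acts₂ x).scalar Γ.two.inj₂ (comm_of_comm_sq Γ.two_ne Γ.two.inj₂ (Γ.acts₂ x)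
      fun s => by rw [map_inv]; exact key _ (Γ.two.comm₂ s))).2
    obtain ⟨c, c1, c2⟩ := (Γ.ker _).1 ((map_mul _ _ _).trans v2)
    rw [mul_A, a1, smul_mul_smul_comm, one_mul] at c1
    rw [mul_B, a2, smul_mul_smul_comm, one_mul] at c2
    exact Γ.eq_of_scal a1 a2 (smul_one_inj (c1.trans c2.symm))
  · obtain ⟨s, hs⟩ := (Γ.swp_out x).1 (up 1)⁻¹
    have := key _ (Γ.two.comm₁ (up 1))
    rw [← map_inv, hs, (Γ.two.comm _ _).symm.mul_mul_mul_comm, ← map_mul, ← map_mul, mul_eq_one_iff_eq_inv,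
      ← map_inv, ← up_add] at this
    rcases Γ.two.inter _ _ this with e | e
    · exact absurd (one_add_one_eq_two.symm.trans (up_eq_one.1 e)) Γ.two_ne
    · exact absurd (by rw [e, up_zero]) (up_ne_neg Γ.two_ne (1 + 1) 0)

theorem w_eq_ψ : Γ.w = Γ.ψ (LL.i1 nn * LL.i2 nn) := (map_mul Γ.ψ _ _).symm

variable {Γ} {g : G}

theorem Fr.swp (h : Γ.Fr g) : Γ.two.Swp (g * Γ.w * g⁻¹) := by
  obtain ⟨_, ⟨x, -, rfl⟩, e⟩ := h.gw
  rw [e, w_eq_ψ, ← map_mul]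
  exact Γ.swp_out _

theorem Fr.swp' (h : Γ.Fr g) : Γ.two.Swp (g⁻¹ * Γ.w * g) := by
  have : Commute (g * g) Γ.t := mul_inv_eq_iff_eq_mul.1 (by
    rw [show g * g * Γ.t * (g * g)⁻¹ = g * (g * Γ.t * g⁻¹) * g⁻¹ by group, h.gt, h.ge])
  rw [show g⁻¹ * Γ.w * g = (g * g)⁻¹ * (g * Γ.w * g⁻¹) * (g * g) by group]
  obtain ⟨z, e | e⟩ := Γ.comm_iff.1 this <;> rw [e]
  · exact ((Γ.fix_ψ z).inv.mul_swp h.swp).mul_fix (Γ.fix_ψ z)
  · rw [_root_.mul_inv_rev, Γ.n_inv]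
    exact ((Γ.swp_n.mul_fix (Γ.fix_ψ z).inv).mul h.swp).mul_swp (Γ.swp_out z)

theorem Fr.exists_hom (h : Γ.Fr g) {α β : SL(2, F) →* G} (hα : Function.Injective α) (hβ : Function.Injective β)
    (h1 : α.range = Γ.ι₁.range) (h2 : β.range = ((MulAut.conj g).toMonoidHom.comp Γ.ι₁).range)
    (hc : Compat α β) (d : SL(4, F)) (hd : (d : Matrix (Fin 4) (Fin 4) F) = Matrix.diagonal ![-1, -1, 1, 1]) :
    ∃ φ : ProjectiveSpecialLinearGroup (Fin 4) F →* G, Function.Injective φ ∧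
      φ (QuotientGroup.mk d) = Γ.t ∧ ∀ s, g * Γ.ι₁ s * g⁻¹ ∈ φ.range := by
  have αt : α (-1) = Γ.t := eq_neg_one_of_center hα (h1 ▸ ⟨-1, rfl⟩)
    (h1 ▸ by rintro _ ⟨s, rfl⟩; exact Γ.two.comm₁ s) Γ.t_ne
  obtain ⟨τ, hτ, hw⟩ := h.gw
  set c := (MulAut.conj (g * Γ.w * g⁻¹)).toMonoidHom with hcc
  have ci : Function.Injective c := (MulAut.conj _).injective
  have r1 : (c.comp α).range = Γ.ι₂.range := by
    rw [MonoidHom.range_comp, h1, ← MonoidHom.range_comp]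
    exact range_conj Γ.two.inj₁ Γ.two.inj₂ h.swp.1
  have r2 : β.range = (c.comp β).range := by
    have gi := (MulAut.conj g).injective.comp Γ.two.inj₁
    rw [MonoidHom.range_comp, h2, ← MonoidHom.range_comp]
    refine (range_conj gi gi fun s => ?_).symm
    obtain ⟨s', e⟩ := (Γ.fix_ψ (LL.i1 nn * LL.i2 nn)).1 s
    refine ⟨s', ?_⟩
    change _ * (g * Γ.ι₁ s * g⁻¹) * _ = g * Γ.ι₁ s' * g⁻¹
    rw [← e, ← w_eq_ψ]; group
  have ct : c Γ.t = Γ.t := mul_inv_eq_iff_eq_mul.2 (by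
    obtain ⟨x, -, rfl⟩ := hτ
    rw [hw, w_eq_ψ, ← map_mul]; exact Γ.comm_iff.2 ⟨_, Or.inr rfl⟩)
  have hc' : Compat (c.comp α) (c.comp β) := by
    obtain ⟨π, rfl, rfl⟩ := hc
    exact ⟨c.comp π, rfl, rfl⟩
  obtain ⟨γ, hγ, h3, hcγ⟩ := hc'.symm.adjust Γ.two_ne (ci.comp hβ) (ci.comp hα) hβ r2 fun A => by
    rw [MonoidHom.comp_apply, αt, ct, ← αt, hc.symm.conj]
  rw [r1] at h3
  have αγ : ∀ A B, Commute (α A) (γ B) := fun A B => by
    obtain ⟨a, ha⟩ : α A ∈ Γ.ι₁.range := h1 ▸ ⟨A, rfl⟩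
    obtain ⟨b, hb⟩ : γ B ∈ Γ.ι₂.range := h3 ▸ ⟨B, rfl⟩
    exact ha ▸ hb ▸ Γ.two.comm a b
  obtain ⟨S, a1, a2⟩ := exists_stData_simplyLaced (Cl.pslSt_good F 3) Γ.two_ne ![α, β, γ] fun i j hij => by
    simp only [Cl.baseA_A]
    fin_cases i <;> fin_cases j <;> first
      | exact absurd rfl hij
      | exact Or.inr ⟨rfl, rfl, hc⟩ | exact Or.inr ⟨rfl, rfl, hc.symm⟩
      | exact Or.inr ⟨rfl, rfl, hcγ⟩ | exact Or.inr ⟨rfl, rfl, hcγ.symm⟩
      | exact Or.inl ⟨rfl, rfl, αγ⟩ | exact Or.inl ⟨rfl, rfl, fun A B => (αγ B A).symm⟩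
  have gen : ∀ K : Subgroup G, (∀ r t, (S.x r t).2 ∈ K) → ∀ i, (![α, β, γ] i).range ≤ K := by
    rintro K hK i _ ⟨A, rfl⟩
    exact mem_of_upper_lower (K := K.comap _) (fun t => mem_comap.2 ((a2 i t).1 ▸ hK _ t))
      (fun t => mem_comap.2 ((a2 i t).2 ▸ hK _ t)) A
  obtain ⟨φ, hφ⟩ := S.exists_hom_of_prod (a1 ▸ Cl.pslSt_good F 3) (a1 ▸ Cl.pslSt_top F 3) fun x _ hx => by
    have k := gen (centralizer {x}) fun r t => mem_centralizer_singleton_iff.2 (hx r t).symm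
    have k1 : ∀ s, Γ.ι₁ s ∈ centralizer {x} := fun s => k 0 (h1.ge ⟨s, rfl⟩)
    have k2 : ∀ s, Γ.ι₂ s ∈ centralizer {x} := fun s => k 2 (h3.ge ⟨s, rfl⟩)
    have k3 : ∀ s, g * Γ.ι₁ s * g⁻¹ ∈ centralizer {x} := fun s => k 1 (h2.ge ⟨s, rfl⟩)
    have kw : Γ.w ∈ centralizer {x} := mul_mem (k1 _) (k2 _)
    have k4 : g * Γ.w * g⁻¹ ∈ centralizer {x} := by
      obtain ⟨s, e⟩ : Γ.ι₂ nn ∈ _ := (range_conj Γ.two.inj₁ Γ.two.inj₂ h.swp'.1).ge ⟨nn, rfl⟩
      rw [show g * Γ.w * g⁻¹ = g * Γ.ι₁ nn * g⁻¹ * (Γ.w * (g * Γ.ι₁ s * g⁻¹) * Γ.w⁻¹) by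
        nth_rw 1 [w, ← e]; simp [mul_assoc]]
      exact mul_mem (k3 _) (mul_mem (mul_mem kw (k3 _)) (inv_mem kw))
    simp only [mem_centralizer_singleton_iff] at k1 k2
    obtain ⟨y, rfl | rfl⟩ := Γ.comm_iff.1 (k1 (-1)).symm
    · have b1 := ((Γ.acts₁ y).scalar Γ.two.inj₁ fun s => (k1 s).symm).2
      have b2 := ((Γ.acts₂ y).scalar Γ.two.inj₂ fun s => (k2 s).symm).2
      have yT : Γ.ψ y ∈ Γ.T := ⟨y, mem_DD.2 (by rw [b1, b2]; simp), rfl⟩
      have kn : Γ.n ∈ centralizer {Γ.ψ y} := by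
        rwa [hw, mul_mem_cancel_left (mul_mem (mem_centralizer_singleton_iff.2 (Γ.T_comm hτ yT)) kw)] at k4
      obtain ⟨e, e1, e2⟩ := Γ.eq_iff.1 (mul_right_cancel ((Γ.n_mul y).symm.trans
        (mem_centralizer_singleton_iff.1 kn)))
      rw [sw_A, b1, b2, smul_smul] at e1
      rw [sw_B, b1, b2, smul_smul] at e2
      refine (Γ.eq_of_scal b1 b2 (by
        linear_combination y.A 0 0 * smul_one_inj e2 - y.B 0 0 * smul_one_inj e1)).resolve_right fun e => ?_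
      have := hc.symm.conj (SL2Hom.upper 1)
      rw [αt, ← e, ← mem_centralizer_singleton_iff.1 (k 1 ⟨SL2Hom.upper 1, rfl⟩ : β _ ∈ _), mul_inv_cancel_right,
        dc_upper] at this
      exact Γ.two_ne (by linear_combination upper_injective (hβ this))
    · obtain ⟨s, hs⟩ := (Γ.swp_out y).1 (up 1)
      rw [← k1, mul_inv_cancel_right] at hs
      rcases Γ.two.inter _ _ hs with e | e
      · exact absurd (up_eq_one.1 e) one_ne_zero
      · exact absurd (by rw [e, up_zero]) (up_ne_neg Γ.two_ne 1 0)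
  have φd : φ (QuotientGroup.mk d) = Γ.t := by
    have e1 := fun t => (hφ _ t).trans (a2 0 t).1
    have e2 := fun t => (hφ _ t).trans (a2 0 t).2
    have e3 : ∀ r t, (S.x r t).1 = QuotientGroup.mk ((Cl.slSt F 3).x r t) := fun r t =>
      congrArg (fun T => StData.x T r t) a1
    simp only [e3, Cl.slSt_simple, Cl.slSt_neg_simple] at e1 e2
    rw [← αt, neg_one_eq_sq]
    simp only [map_mul]
    erw [← e1 1, ← e2 (-1)]
    simp only [← map_mul, ← QuotientGroup.mk_mul]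
    congr 2
    exact diag_eq_sq hd _ _
  have := Cfsg.Agent.S0249.result (F := F) 4 (by norm_num)
  refine ⟨φ, (MonoidHom.ker_eq_bot_iff φ).1 ((Normal.eq_bot_or_eq_top inferInstance).resolve_right fun e => ?_), φd,
    fun s => gen φ.range (fun r t => ⟨_, hφ r t⟩) 1 (h2.ge ⟨s, rfl⟩)⟩
  exact Γ.t_ne (φd.symm.trans (e.ge (mem_top _)))

end Dat

end CL.L4
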