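import Cfsg.Agent.INV.R2.SwapP3
import Cfsg.Agent.INV.R2.Loc0

/-!
Groups with an involution whose centraliser is that of `diag (-1, -1, 1, 1)` in `PSL₄(q)`: definitions.
-/

set_option autoImplicit false

noncomputable section

namespace CL.L4

open Matrix Subgroup CL.ABG CL.R2
open scoped MatrixGroups

/-- Pairs of matrices whose block sum has determinant one. -/
@[ext] structure LL (F : Type*) [Field F] where
  A : Matrix (Fin 2) (Fin 2) F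
  B : Matrix (Fin 2) (Fin 2) F
  det : A.det * B.det = 1

theorem coe_nn {F : Type*} [Field F] : (nn : SL(2, F)).1 = !![0, 1; -1, 0] := rfl
theorem coe_up {F : Type*} [Field F] (r : F) : (up r).1 = !![1, r; 0, 1] := rfl
theorem coe_lo {F : Type*} [Field F] (r : F) : (lo r).1 = !![1, 0; r, 1] := rfl
theorem coe_dg {F : Type*} [Field F] (c : Fˣ) : (dg c).1 = !![(c : F), 0; 0, (c⁻¹ : Fˣ)] := rfl

namespace LL

variable {F : Type*} [Field F] (x y : LL F)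

theorem detA : x.A.det ≠ 0 := left_ne_zero_of_mul_eq_one x.det
theorem detB : x.B.det ≠ 0 := right_ne_zero_of_mul_eq_one x.det

instance : Group (LL F) where
  mul x y := ⟨x.A * y.A, x.B * y.B, by
    rw [det_mul, det_mul, mul_mul_mul_comm, x.det, y.det, one_mul]⟩
  one := ⟨1, 1, by simp⟩
  inv x := ⟨x.A⁻¹, x.B⁻¹, by
    rw [det_nonsing_inv, det_nonsing_inv, Ring.inverse_eq_inv', ← mul_inv, x.det, inv_one]⟩
  mul_assoc _ _ _ := LL.ext (mul_assoc _ _ _) (mul_assoc _ _ _)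
  one_mul _ := LL.ext (one_mul _) (one_mul _)
  mul_one _ := LL.ext (mul_one _) (mul_one _)
  inv_mul_cancel x := LL.ext (nonsing_inv_mul _ x.detA.isUnit) (nonsing_inv_mul _ x.detB.isUnit)

@[simp] theorem mul_A : (x * y).A = x.A * y.A := rfl
@[simp] theorem mul_B : (x * y).B = x.B * y.B := rfl
@[simp] theorem one_A : (1 : LL F).A = 1 := rfl
@[simp] theorem one_B : (1 : LL F).B = 1 := rfl
@[simp] theorem inv_A : x⁻¹.A = x.A⁻¹ := rfl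
@[simp] theorem inv_B : x⁻¹.B = x.B⁻¹ := rfl
@[simp] theorem pow_A (k : ℕ) : (x ^ k).A = x.A ^ k := by
  induction k with
  | zero => simp
  | succ k ih => rw [pow_succ, pow_succ, mul_A, ih]
@[simp] theorem pow_B (k : ℕ) : (x ^ k).B = x.B ^ k := by
  induction k with
  | zero => simp
  | succ k ih => rw [pow_succ, pow_succ, mul_B, ih]

theorem A_mul_inv : x.A * x.A⁻¹ = 1 := mul_nonsing_inv _ x.detA.isUnit
theorem inv_mul_A : x.A⁻¹ * x.A = 1 := nonsing_inv_mul _ x.detA.isUnit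
theorem B_mul_inv : x.B * x.B⁻¹ = 1 := mul_nonsing_inv _ x.detB.isUnit
theorem inv_mul_B : x.B⁻¹ * x.B = 1 := nonsing_inv_mul _ x.detB.isUnit

/-- Interchange of the blocks. -/
def sw : LL F →* LL F := MonoidHom.mk' (fun x => ⟨x.B, x.A, by rw [mul_comm, x.det]⟩) fun _ _ => rfl
/-- The first block. -/
def i1 : SL(2, F) →* LL F := MonoidHom.mk' (fun s => ⟨s.1, 1, by simp⟩) fun _ _ => LL.ext rfl (by simp)
/-- The second block. -/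
def i2 : SL(2, F) →* LL F := MonoidHom.mk' (fun s => ⟨1, s.1, by simp⟩) fun _ _ => LL.ext (by simp) rfl

@[simp] theorem sw_A : (sw x).A = x.B := rfl
@[simp] theorem sw_B : (sw x).B = x.A := rfl
@[simp] theorem sw_sw : sw (sw x) = x := rfl
@[simp] theorem i1_A (s : SL(2, F)) : (i1 s).A = s.1 := rfl
@[simp] theorem i1_B (s : SL(2, F)) : (i1 s).B = 1 := rfl
@[simp] theorem i2_A (s : SL(2, F)) : (i2 s).A = 1 := rfl
@[simp] theorem i2_B (s : SL(2, F)) : (i2 s).B = s.1 := rfl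
theorem sw_i1 (s : SL(2, F)) : sw (i1 s) = i2 s := rfl
theorem sw_i2 (s : SL(2, F)) : sw (i2 s) = i1 s := rfl

/-- Diagonal elements. -/
def dgl (a b c e : F) (h : a * b * c * e = 1) : LL F :=
  ⟨!![a, 0; 0, b], !![c, 0; 0, e], by simp only [det_fin_two_of]; linear_combination h⟩

@[simp] theorem dgl_A {a b c e : F} (h : a * b * c * e = 1) : (dgl a b c e h).A = !![a, 0; 0, b] := rfl
@[simp] theorem dgl_B {a b c e : F} (h : a * b * c * e = 1) : (dgl a b c e h).B = !![c, 0; 0, e] := rfl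

theorem dgl_mul {a b c e a' b' c' e' : F} (h : a * b * c * e = 1) (h' : a' * b' * c' * e' = 1) :
    dgl a b c e h * dgl a' b' c' e' h' = dgl (a * a') (b * b') (c * c') (e * e')
      (by linear_combination (a' * b' * c' * e') * h + h') := LL.ext (by simp) (by simp)

/-- The diagonal subgroup. -/
def DD (F : Type*) [Field F] : Subgroup (LL F) where
  carrier := {x | ∃ a b c e h, x = dgl a b c e h}
  one_mem' := ⟨1, 1, 1, 1, by simp, LL.ext one_fin_two one_fin_two⟩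
  mul_mem' := by rintro _ _ ⟨a, b, c, e, h, rfl⟩ ⟨a', b', c', e', h', rfl⟩; exact ⟨_, _, _, _, _, dgl_mul h h'⟩
  inv_mem' := by
    rintro _ ⟨a, b, c, e, h, rfl⟩
    refine ⟨b * c * e, a * c * e, a * b * e, a * b * c, by
      linear_combination ((a * b * c * e) ^ 2 + a * b * c * e + 1) * h, inv_eq_of_mul_eq_one_right ?_⟩
    rw [dgl_mul]
    refine LL.ext ?_ ?_ <;> simp only [dgl_A, one_A, dgl_B, one_B, one_fin_two] <;> congr 3 <;>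
      first | linear_combination h | (congr 2; linear_combination h)

theorem mem_DD {x : LL F} : x ∈ DD F ↔ x.A 0 1 = 0 ∧ x.A 1 0 = 0 ∧ x.B 0 1 = 0 ∧ x.B 1 0 = 0 := by
  refine ⟨by rintro ⟨a, b, c, e, h, rfl⟩; simp, fun ⟨h1, h2, h3, h4⟩ => ?_⟩
  have := x.det
  rw [det_fin_two, det_fin_two, h1, h3] at this
  exact ⟨x.A 0 0, x.A 1 1, x.B 0 0, x.B 1 1, by linear_combination this,
    LL.ext (by rw [dgl_A, ← h1]; nth_rw 2 [h1.trans h2.symm]; exact eta_fin_two _)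
      (by rw [dgl_B, ← h3]; nth_rw 2 [h3.trans h4.symm]; exact eta_fin_two _)⟩

/-- Conjugation of the first block. -/
def cj1 (k : LL F) : LL F →* LL F :=
  MonoidHom.mk' (fun x => ⟨k.A * x.A * k.A⁻¹, x.B, by
    rw [det_conj ((isUnit_iff_isUnit_det _).2 k.detA.isUnit), x.det]⟩) fun x y => LL.ext (by
      simp only [mul_A, mul_assoc]; rw [← mul_assoc k.A⁻¹, k.inv_mul_A, one_mul]) rfl

@[simp] theorem cj1_A (k : LL F) : (cj1 k x).A = k.A * x.A * k.A⁻¹ := rfl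
@[simp] theorem cj1_B (k : LL F) : (cj1 k x).B = x.B := rfl

theorem cj1_cj1 (k : LL F) : cj1 k (cj1 k⁻¹ x) = x := LL.ext (by
  change (k * (k⁻¹ * x * k⁻¹⁻¹) * k⁻¹).A = _
  simp only [inv_inv, ← mul_assoc, mul_inv_cancel, one_mul, mul_inv_cancel_right]) rfl

end LL

open LL

/-- The centraliser of `t = ψ (-1, 1)` is the image of the block diagonal matrices extended by `n`. -/
structure Dat (G F : Type*) [Group G] [Field F] [Fintype F] where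
  ψ : LL F →* G
  n : G
  odd : Odd (Fintype.card F)
  ker : ∀ x, ψ x = 1 ↔ ∃ c : F, x.A = c • 1 ∧ x.B = c • 1
  n2 : n * n = 1
  nsw : ∀ x, n * ψ x * n⁻¹ = ψ (sw x)
  out : ∀ x, ψ x ≠ n
  cent : ∀ g, Commute g (ψ (i1 (-1))) → ∃ x, g = ψ x ∨ g = ψ x * n

namespace Dat

variable {G F : Type*} [Group G] [Field F] [Fintype F] (Γ : Dat G F)

include Γ in
theorem two_ne : (2 : F) ≠ 0 := two_ne_zero_of_odd' Γ.odd

theorem eq_iff {x y : LL F} : Γ.ψ x = Γ.ψ y ↔ ∃ c : F, x.A = c • y.A ∧ x.B = c • y.B := by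
  rw [← mul_inv_eq_one, ← map_inv, ← map_mul, Γ.ker]
  refine exists_congr fun c => and_congr ⟨fun h => ?_, fun h => ?_⟩ ⟨fun h => ?_, fun h => ?_⟩
  · simpa [mul_assoc, y.inv_mul_A] using congrArg (· * y.A) h
  · simp [h, y.A_mul_inv]
  · simpa [mul_assoc, y.inv_mul_B] using congrArg (· * y.B) h
  · simp [h, y.B_mul_inv]

theorem eq_of_smul {x y : LL F} (c : F) (h1 : x.A = c • y.A) (h2 : x.B = c • y.B) : Γ.ψ x = Γ.ψ y :=
  Γ.eq_iff.2 ⟨c, h1, h2⟩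

omit [Fintype F] in
theorem smul_one_inj {c c' : F} (h : c • (1 : Matrix (Fin 2) (Fin 2) F) = c' • 1) : c = c' := by
  simpa using congrFun (congrFun h 0) 0

/-- The two subgroups `SL₂`. -/
def two : Two G F F where
  ι₁ := Γ.ψ.comp i1
  ι₂ := Γ.ψ.comp i2
  inj₁ := (injective_iff_map_eq_one _).2 fun s h => by
    obtain ⟨c, h1, h2⟩ := (Γ.ker _).1 h
    obtain rfl := smul_one_inj ((one_smul _ _).trans h2)
    exact Subtype.ext (by simpa using h1)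
  inj₂ := (injective_iff_map_eq_one _).2 fun s h => by
    obtain ⟨c, h1, h2⟩ := (Γ.ker _).1 h
    obtain rfl := smul_one_inj ((one_smul _ _).trans h1)
    exact Subtype.ext (by simpa using h2)
  odd₁ := Γ.odd
  odd₂ := Γ.odd
  comm a b := Commute.map (LL.ext (by simp) (by simp)) Γ.ψ
  neg := Γ.eq_of_smul (-1) (by simp) (by simp)
  inter a b h := by
    obtain ⟨c, h1, h2⟩ := Γ.eq_iff.1 h
    have h3 := a.2
    rw [show a.1 = c • 1 from h1, det_smul, det_one, Fintype.card_fin, mul_one, sq_eq_one_iff] at h3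
    exact h3.imp (fun e => Subtype.ext (by simpa [e] using h1)) fun e => Subtype.ext (by simpa [e] using h1)

/-- The first subgroup `SL₂`. -/
abbrev ι₁ : SL(2, F) →* G := Γ.two.ι₁
/-- The second subgroup `SL₂`. -/
abbrev ι₂ : SL(2, F) →* G := Γ.two.ι₂
/-- The involution. -/
abbrev t : G := Γ.two.j
/-- `diag (1, -1, 1, -1)` -/
def d : G := Γ.ψ (dgl 1 (-1) 1 (-1) (by ring))
/-- The Weyl element of `L₁ L₂`. -/
def w : G := Γ.ι₁ nn * Γ.ι₂ nn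
/-- The diagonal torus. -/
def T : Subgroup G := (DD F).map Γ.ψ

theorem ι₁_eq (s : SL(2, F)) : Γ.ι₁ s = Γ.ψ (i1 s) := rfl
theorem ι₂_eq (s : SL(2, F)) : Γ.ι₂ s = Γ.ψ (i2 s) := rfl
theorem t_eq : Γ.t = Γ.ψ (i1 (-1)) := rfl
theorem dia_eq (s : SL(2, F)) : Γ.two.dia s = Γ.ψ ⟨s.1, s.1, by simp⟩ := by
  rw [Two.dia_apply, ι₁_eq, ι₂_eq, ← map_mul]; congr 1; exact LL.ext (by simp) (by simp)
theorem w_eq : Γ.w = Γ.two.dia nn := rfl

theorem mem_T {g : G} : g ∈ Γ.T ↔ ∃ a b c e h, g = Γ.ψ (dgl a b c e h) :=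
  ⟨by rintro ⟨_, ⟨a, b, c, e, h, rfl⟩, rfl⟩; exact ⟨a, b, c, e, h, rfl⟩,
    by rintro ⟨a, b, c, e, h, rfl⟩; exact ⟨_, ⟨a, b, c, e, h, rfl⟩, rfl⟩⟩

theorem tt : Γ.t * Γ.t = 1 := Γ.two.jj
theorem t_inv : Γ.t⁻¹ = Γ.t := Γ.two.j_inv
theorem t_ne : Γ.t ≠ 1 := Γ.two.j_ne
theorem n_inv : Γ.n⁻¹ = Γ.n := inv_eq_of_mul_eq_one_right Γ.n2
theorem n_mul (x : LL F) : Γ.n * Γ.ψ x = Γ.ψ (sw x) * Γ.n := mul_inv_eq_iff_eq_mul.1 (Γ.nsw x)
theorem n_ι₁ (s : SL(2, F)) : Γ.n * Γ.ι₁ s * Γ.n⁻¹ = Γ.ι₂ s := Γ.nsw _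
theorem n_ι₂ (s : SL(2, F)) : Γ.n * Γ.ι₂ s * Γ.n⁻¹ = Γ.ι₁ s := Γ.nsw _
theorem ψ_t (x : LL F) : Commute (Γ.ψ x) Γ.t := Commute.map (LL.ext (by simp) (by simp)) Γ.ψ
theorem n_t : Commute Γ.n Γ.t := mul_inv_eq_iff_eq_mul.1 ((Γ.n_ι₁ _).trans Γ.two.neg)
theorem n_dia (s : SL(2, F)) : Commute Γ.n (Γ.two.dia s) := by rw [dia_eq]; exact Γ.n_mul _
theorem out' (x y : LL F) : Γ.ψ x ≠ Γ.ψ y * Γ.n := fun h => Γ.out (y⁻¹ * x) (by simp [h])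
theorem n_ne : Γ.n ≠ 1 := fun h => Γ.out 1 (by rw [h, map_one])
theorem n_ne_t : Γ.n ≠ Γ.t := fun h => Γ.out _ h.symm

theorem comm_iff {g : G} : Commute g Γ.t ↔ ∃ x, g = Γ.ψ x ∨ g = Γ.ψ x * Γ.n :=
  ⟨Γ.cent g, by rintro ⟨x, rfl | rfl⟩; exacts [Γ.ψ_t x, (Γ.ψ_t x).mul_left Γ.n_t]⟩

theorem mul_out (x y : LL F) : Γ.ψ x * Γ.n * (Γ.ψ y * Γ.n) = Γ.ψ (x * sw y) := by
  rw [map_mul, ← Γ.nsw, n_inv]; simp only [mul_assoc]

theorem t_mul (x : LL F) : Γ.t * Γ.ψ x = Γ.ψ ⟨-x.A, x.B, by simpa [det_neg] using x.det⟩ := by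
  rw [t_eq, ← map_mul]; congr 1; exact LL.ext (by simp) (by simp)

theorem conj₁ (x : LL F) {s s' : SL(2, F)} (h : s'.1 * x.A = x.A * s.1) :
    Γ.ψ x * Γ.ι₁ s * (Γ.ψ x)⁻¹ = Γ.ι₁ s' := by
  rw [mul_inv_eq_iff_eq_mul, ι₁_eq, ι₁_eq, ← map_mul, ← map_mul]
  congr 1; exact LL.ext h.symm (by simp)

theorem conj₂ (x : LL F) {s s' : SL(2, F)} (h : s'.1 * x.B = x.B * s.1) :
    Γ.ψ x * Γ.ι₂ s * (Γ.ψ x)⁻¹ = Γ.ι₂ s' := by
  rw [mul_inv_eq_iff_eq_mul, ι₂_eq, ι₂_eq, ← map_mul, ← map_mul]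
  congr 1; exact LL.ext (by simp) h.symm

omit [Fintype F] in
theorem exists_conj {a : Matrix (Fin 2) (Fin 2) F} (ha : a.det ≠ 0) (s : SL(2, F)) :
    ∃ s' : SL(2, F), s'.1 * a = a * s.1 :=
  ⟨⟨a * s.1 * a⁻¹, by rw [det_conj ((isUnit_iff_isUnit_det _).2 ha.isUnit), s.2]⟩,
    nonsing_inv_mul_cancel_right _ _ ha.isUnit⟩

theorem acts₁ (x : LL F) : Acts Γ.ι₁ (Γ.ψ x) x.A 1 :=
  ⟨x.detA, fun s => (exists_conj x.detA s).imp fun _ h => ⟨by rwa [map_one_equiv], Γ.conj₁ x h⟩⟩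

theorem acts₂ (x : LL F) : Acts Γ.ι₂ (Γ.ψ x) x.B 1 :=
  ⟨x.detB, fun s => (exists_conj x.detB s).imp fun _ h => ⟨by rwa [map_one_equiv], Γ.conj₂ x h⟩⟩

theorem fix_ψ (x : LL F) : Γ.two.Fix (Γ.ψ x) :=
  ⟨fun s => ((Γ.acts₁ x).ex s).imp fun _ h => h.2, fun s => ((Γ.acts₂ x).ex s).imp fun _ h => h.2⟩

theorem swp_n : Γ.two.Swp Γ.n := ⟨fun s => ⟨s, Γ.n_ι₁ s⟩, fun s => ⟨s, Γ.n_ι₂ s⟩⟩

theorem swp_out (x : LL F) : Γ.two.Swp (Γ.ψ x * Γ.n) := (Γ.fix_ψ x).mul_swp Γ.swp_n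

theorem mem_Y_of_det {x : LL F} {c : F} (h : x.A.det = c * c) (hc : c ^ 4 = 1) : Γ.ψ x ∈ Γ.two.Y := by
  have h1 : x.B.det = c * c := mul_left_cancel₀ x.detA (by rw [x.det, h]; linear_combination -hc)
  refine Γ.two.mem_Y.2 ⟨⟨c ^ 3 • x.A, by rw [det_smul, h, Fintype.card_fin]; linear_combination (c ^ 4 + 1) * hc⟩,
    ⟨c ^ 3 • x.B, by rw [det_smul, h1, Fintype.card_fin]; linear_combination (c ^ 4 + 1) * hc⟩, ?_⟩
  exact (map_mul Γ.ψ _ _).symm.trans (Γ.eq_of_smul (c ^ 3) (mul_one _) (one_mul _))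

theorem T_comm {x y : G} (hx : x ∈ Γ.T) (hy : y ∈ Γ.T) : Commute x y := by
  obtain ⟨a, b, c, e, h, rfl⟩ := Γ.mem_T.1 hx
  obtain ⟨a', b', c', e', h', rfl⟩ := Γ.mem_T.1 hy
  refine Commute.map ?_ Γ.ψ
  change _ * _ = _ * _
  simp only [dgl_mul, mul_comm]

theorem t_eq_dgl : Γ.t = Γ.ψ (dgl (-1) (-1) 1 1 (by ring)) :=
  congrArg Γ.ψ (LL.ext (by ext i j; fin_cases i <;> fin_cases j <;> simp) one_fin_two)

theorem td_eq : Γ.t * Γ.d = Γ.ψ (dgl (-1) 1 1 (-1) (by ring)) := by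
  simp only [t_eq_dgl, d, ← map_mul, dgl_mul, mul_one, mul_neg, neg_neg]

theorem ι₁_dg (c : Fˣ) : Γ.ι₁ (dg c) = Γ.ψ (dgl c (c⁻¹ : Fˣ) 1 1 (by simp)) :=
  congrArg Γ.ψ (LL.ext rfl one_fin_two)

theorem ι₂_dg (c : Fˣ) : Γ.ι₂ (dg c) = Γ.ψ (dgl 1 1 c (c⁻¹ : Fˣ) (by simp)) :=
  congrArg Γ.ψ (LL.ext one_fin_two rfl)

theorem t_mem_T : Γ.t ∈ Γ.T := Γ.mem_T.2 ⟨_, _, _, _, _, Γ.t_eq_dgl⟩
theorem d_mem_T : Γ.d ∈ Γ.T := Γ.mem_T.2 ⟨_, _, _, _, _, rfl⟩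
theorem dg₁_mem_T (c : Fˣ) : Γ.ι₁ (dg c) ∈ Γ.T := Γ.mem_T.2 ⟨_, _, _, _, _, Γ.ι₁_dg c⟩
theorem dg₂_mem_T (c : Fˣ) : Γ.ι₂ (dg c) ∈ Γ.T := Γ.mem_T.2 ⟨_, _, _, _, _, Γ.ι₂_dg c⟩

theorem dgl_eq_iff {a b c e a' b' c' e' : F} {h h'} : Γ.ψ (dgl a b c e h) = Γ.ψ (dgl a' b' c' e' h') ↔
    ∃ k, a = k * a' ∧ b = k * b' ∧ c = k * c' ∧ e = k * e' := by
  rw [eq_iff]
  refine exists_congr fun k => ?_
  simp [and_assoc]

theorem dd : Γ.d * Γ.d = 1 := by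
  rw [d, ← map_mul, dgl_mul]; exact (Γ.ker _).2 ⟨1, by simp [one_fin_two], by simp [one_fin_two]⟩

theorem d_inv : Γ.d⁻¹ = Γ.d := inv_eq_of_mul_eq_one_right Γ.dd
theorem d_t : Commute Γ.d Γ.t := Γ.ψ_t _
theorem n_d : Commute Γ.n Γ.d := Γ.n_mul _

theorem d_ne : Γ.d ≠ 1 := fun h => by
  obtain ⟨c, h1, -⟩ := (Γ.ker _).1 h
  simp [← Matrix.ext_iff, Fin.forall_fin_two] at h1
  exact Γ.two_ne (by linear_combination h1.1 - h1.2)

theorem d_ne_t : Γ.d ≠ Γ.t := fun h => by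
  obtain ⟨k, h1, h2, -⟩ := Γ.dgl_eq_iff.1 (h.trans Γ.t_eq_dgl)
  exact Γ.two_ne (by linear_combination h1 - h2)

theorem dgl_up₁ {a b c e : F} (h : a * b * c * e = 1) (r : F) :
    Γ.ψ (dgl a b c e h) * Γ.ι₁ (up r) * (Γ.ψ (dgl a b c e h))⁻¹ = Γ.ι₁ (up (a * a * c * e * r)) :=
  Γ.conj₁ _ (by
    ext i j; fin_cases i <;> fin_cases j <;> simp [up, mkS]; linear_combination (a * r) * h)

theorem dgl_lo₁ {a b c e : F} (h : a * b * c * e = 1) (r : F) :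
    Γ.ψ (dgl a b c e h) * Γ.ι₁ (lo r) * (Γ.ψ (dgl a b c e h))⁻¹ = Γ.ι₁ (lo (b * b * c * e * r)) :=
  Γ.conj₁ _ (by
    ext i j; fin_cases i <;> fin_cases j <;> simp [lo, mkS]; linear_combination (b * r) * h)

theorem dgl_up₂ {a b c e : F} (h : a * b * c * e = 1) (r : F) :
    Γ.ψ (dgl a b c e h) * Γ.ι₂ (up r) * (Γ.ψ (dgl a b c e h))⁻¹ = Γ.ι₂ (up (a * b * c * c * r)) :=
  Γ.conj₂ _ (by
    ext i j; fin_cases i <;> fin_cases j <;> simp [up, mkS]; linear_combination (c * r) * h)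

theorem dgl_lo₂ {a b c e : F} (h : a * b * c * e = 1) (r : F) :
    Γ.ψ (dgl a b c e h) * Γ.ι₂ (lo r) * (Γ.ψ (dgl a b c e h))⁻¹ = Γ.ι₂ (lo (a * b * e * e * r)) :=
  Γ.conj₂ _ (by
    ext i j; fin_cases i <;> fin_cases j <;> simp [lo, mkS]; linear_combination (e * r) * h)

theorem n₁_dgl {a b c e : F} (h : a * b * c * e = 1) :
    Γ.ι₁ nn * Γ.ψ (dgl a b c e h) * (Γ.ι₁ nn)⁻¹ = Γ.ψ (dgl b a c e (by linear_combination h)) := by
  rw [mul_inv_eq_iff_eq_mul, ι₁_eq, ← map_mul, ← map_mul]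
  congr 1; exact LL.ext (by simp [coe_nn]) (by simp)

theorem n₂_dgl {a b c e : F} (h : a * b * c * e = 1) :
    Γ.ι₂ nn * Γ.ψ (dgl a b c e h) * (Γ.ι₂ nn)⁻¹ = Γ.ψ (dgl a b e c (by linear_combination h)) := by
  rw [mul_inv_eq_iff_eq_mul, ι₂_eq, ← map_mul, ← map_mul]
  congr 1; exact LL.ext (by simp) (by simp [coe_nn])

theorem n_dgl {a b c e : F} (h : a * b * c * e = 1) :
    Γ.n * Γ.ψ (dgl a b c e h) * Γ.n⁻¹ = Γ.ψ (dgl c e a b (by linear_combination h)) := Γ.nsw _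

theorem n₁_d : Γ.ι₁ nn * Γ.d * (Γ.ι₁ nn)⁻¹ = Γ.t * Γ.d := by rw [d, n₁_dgl, ← d, td_eq]

/-- The datum with another outer involution. -/
def tw (k : LL F) (h : Γ.ψ k * Γ.n * (Γ.ψ k * Γ.n) = 1) : Dat G F where
  ψ := Γ.ψ.comp (cj1 k)
  n := Γ.ψ k * Γ.n
  odd := Γ.odd
  ker x := by
    rw [MonoidHom.comp_apply, Γ.ker]
    refine exists_congr fun c => and_congr_left fun _ => ⟨fun e => ?_, fun e => ?_⟩
    · refine left_cancel_of_det k.detA ?_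
      simpa [mul_assoc, k.inv_mul_A] using congrArg (· * k.A) e
    · simp [e, k.A_mul_inv]
  n2 := h
  nsw x := by
    rw [mul_out, Γ.ker] at h
    obtain ⟨c, -, h⟩ := h
    rw [mul_inv_eq_iff_eq_mul, mul_assoc, MonoidHom.comp_apply, n_mul, ← mul_assoc, ← mul_assoc,
      MonoidHom.comp_apply, ← map_mul, ← map_mul]
    congr 2
    refine LL.ext (by simp [mul_assoc, k.inv_mul_A]) (right_cancel_of_det k.detA ?_)
    simp only [mul_B, sw_B, cj1_A, cj1_B, mul_assoc, k.inv_mul_A, mul_one] at h ⊢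
    rw [← mul_assoc, h]; simp
  out x := Γ.out' _ _
  cent g hg := by
    rw [show (Γ.ψ.comp (cj1 k)) (i1 (-1)) = Γ.t from
      congrArg Γ.ψ (LL.ext (by simp [k.A_mul_inv]) rfl)] at hg
    obtain ⟨x, rfl | rfl⟩ := Γ.cent g hg
    · exact ⟨cj1 k⁻¹ x, Or.inl (by simp [cj1_cj1])⟩
    · exact ⟨cj1 k⁻¹ (x * k⁻¹), Or.inr (by rw [MonoidHom.comp_apply, cj1_cj1]; simp)⟩

theorem tw_n (k : LL F) (h) : (Γ.tw k h).n = Γ.ψ k * Γ.n := rfl
theorem tw_ψ (k : LL F) (h) (x : LL F) : (Γ.tw k h).ψ x = Γ.ψ (cj1 k x) := rfl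
theorem tw_t (k : LL F) (h) : (Γ.tw k h).t = Γ.t := congrArg Γ.ψ (LL.ext (by simp [k.A_mul_inv]) rfl)
theorem tw_ι₂ (k : LL F) (h) (s : SL(2, F)) : (Γ.tw k h).ι₂ s = Γ.ι₂ s :=
  congrArg Γ.ψ (LL.ext (by simp [k.A_mul_inv]) rfl)

/-- A frame: `g` extends `N_C(T) / T` to the Weyl group `S₄`. -/
structure Fr (g : G) : Prop where
  gt : g * Γ.t * g⁻¹ = Γ.t * Γ.d
  ge : g * (Γ.t * Γ.d) * g⁻¹ = Γ.t
  gT : g ∈ normalizer (Γ.T : Set G)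
  gw : ∃ τ ∈ Γ.T, g * Γ.w * g⁻¹ = τ * Γ.w * Γ.n

/-- An element of odd order inverted by `t` and centralising the second root group. -/
def Sg : Prop :=
  ∃ x : G, x ≠ 1 ∧ Odd (orderOf x) ∧ Γ.t * x * Γ.t⁻¹ = x⁻¹ ∧ ∀ r, Commute x (Γ.ι₂ (up r))

end Dat

/-- The relations between the root groups of `α` and of `g α g⁻¹` in a group of type `A₂`. -/
structure A2H {G F : Type*} [Group G] [Field F] (α : SL(2, F) →* G) (T : Subgroup G) (g : G) : Prop where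
  inj : Function.Injective α
  act : ∀ τ ∈ T, ∃ c : Fˣ, ∀ r, τ * α (up r) * τ⁻¹ = α (up (c * r)) ∧
    τ * α (lo r) * τ⁻¹ = α (lo ((c⁻¹ : Fˣ) * r))
  dg : ∀ c, α (dg c) ∈ T
  gT : g ∈ normalizer (T : Set G)
  nT : α nn ∈ normalizer (T : Set G)
  gg : g * g ∈ T
  br : (g * α nn) ^ 3 ∈ T
  neg : ∀ r, α (-1) * (g * α (up r) * g⁻¹) * (α (-1))⁻¹ = g * α (up (-r)) * g⁻¹
  c1 : ∀ a b, Commute (α (up a)) (g * α (up b) * g⁻¹)
  c2 : ∀ a b, Commute (α (lo a)) (g * α (lo b) * g⁻¹)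
  c3 : ∀ a b, ∃ c, α (up a) * (α nn * g * α (up b) * (α nn * g)⁻¹) * (α (up a))⁻¹ =
    α nn * g * α (up b) * (α nn * g)⁻¹ * (g * α (up c) * g⁻¹)

end CL.L4
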