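import Cfsg.Agent.INV.GW.Cor
import Cfsg.Agent.INV.GW.DFAut
import Cfsg.Agent.INV.GW.DFactsA7
import Cfsg.Agent.INV.L4.Defs

/-!
A root group inverted by an involution in a group with dihedral Sylow 2-subgroups.
-/

set_option autoImplicit false
set_option linter.unusedSectionVars false

namespace CL.L4

open Subgroup Cfsg CL.GW CL.GW.DF CL.PComp CL.Comp CL.PGL2
open scoped MatrixGroups

namespace DK

theorem arith {q r s m T : ℕ} (hq : q.Prime) (ho : Odd q) (h3 : q ≠ 3) (hr : s ^ m = r) (ro : Odd r)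
    (r3 : 3 < r) (hm : q - 1 ≤ 2 * m) (hT : T = r - 1 ∨ T = r + 1) (hd : q ∣ T)
    (hb : T ≤ 2 * q * (q - 1)) : (q = 5 ∧ T = 10) ∨ (q = 7 ∧ T = 28) := by
  obtain ⟨j, rfl⟩ := ho
  have h1 := hq.one_lt
  have s3 : 3 ≤ s := by
    by_contra! h
    interval_cases s
    · rw [zero_pow (by omega)] at hr; omega
    · rw [one_pow] at hr; omega
    · exact Nat.not_even_iff_odd.2 ro (hr ▸ (Nat.even_pow.2 ⟨even_two, by omega⟩))
  have h4 : 3 ^ m ≤ r := hr ▸ Nat.pow_le_pow_left s3 m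
  have h5 : ∀ i, 8 * (i + 5) ^ 2 + 4 * (i + 5) + 1 < 3 ^ (i + 5) := fun i => by
    induction i with
    | zero => decide
    | succ i ih => rw [show i + 1 + 5 = i + 5 + 1 by omega, pow_succ 3]; nlinarith
  have h6 : r ≤ 8 * j ^ 2 + 4 * j + 1 := by
    rw [Nat.add_sub_cancel] at hb
    have : 2 * (2 * j + 1) * (2 * j) = 8 * j ^ 2 + 4 * j := by ring
    omega
  have h7 : j < 5 := by
    by_contra! h
    obtain ⟨i, rfl⟩ := Nat.exists_eq_add_of_le' h
    have := Nat.pow_le_pow_right (n := 3) (by decide) (show i + 5 ≤ m by omega)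
    have := h5 i
    omega
  have h8 : m < 5 := (Nat.pow_lt_pow_iff_right (a := 3) (by decide)).1 (by nlinarith)
  have h9 : s < 7 ∨ j = 4 := by
    by_contra! h
    have := (Nat.pow_le_pow_left h.1 j).trans (Nat.pow_le_pow_right (by omega) (show j ≤ m by omega))
    interval_cases j <;> omega
  rw [Nat.odd_iff] at ro
  rcases h9 with h9 | rfl
  · interval_cases j <;> interval_cases s <;> interval_cases m <;> omega
  · exact absurd hq (by decide)

variable {G Y F : Type*} [Group G] [Group Y] [Finite G] [Field F] [Fintype F] {K O : Subgroup G}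
  {t n g : G} {a : F → G} {h : Fˣ →* G}

theorem lift (φ : G →* Y) (hU : Odd (Nat.card ↥(K ⊓ φ.ker))) {x y : G} (hx : x ∈ K) (hy : y ∈ K)
    (x2 : orderOf x = 2) (y2 : orderOf y = 2) (e : φ x = φ y) :
    ∃ u ∈ K ⊓ φ.ker, u * x * u⁻¹ = y := by
  have h1 : x * x = 1 := by rw [← sq, ← x2, pow_orderOf_eq_one]
  have h2 : y * y = 1 := by rw [← sq, ← y2, pow_orderOf_eq_one]
  have hw : y * x ∈ K ⊓ φ.ker := ⟨mul_mem hy hx, by
    change φ _ = 1
    rw [map_mul, ← e, ← map_mul, h1, map_one]⟩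
  obtain ⟨m, hm⟩ := odd_orderOf_of_mem hU hw
  have h3 : x * (y * x)⁻¹ * x⁻¹ = y * x := by
    rw [mul_inv_rev, inv_eq_of_mul_eq_one_right h1, inv_eq_of_mul_eq_one_right h2, ← mul_assoc, h1,
      one_mul]
  refine ⟨_, pow_mem hw (m + 1), ?_⟩
  calc _ = (y * x) ^ (m + 1) * (x * (y * x)⁻¹ * x⁻¹) ^ (m + 1) * x := by rw [conj_pow, inv_pow]; group
    _ = y := by
      rw [h3, ← pow_add, show m + 1 + (m + 1) = orderOf (y * x) + 1 by omega, pow_succ,
        pow_orderOf_eq_one, one_mul, mul_assoc, h1, mul_one]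

theorem ord (φ : G →* Y) (hU : Odd (Nat.card ↥(K ⊓ φ.ker))) {x : G} (hx : x ∈ K)
    (x2 : orderOf x = 2) : orderOf (φ x) = 2 :=
  orderOf_eq_prime (by rw [← map_pow, ← x2, pow_orderOf_eq_one, map_one]) fun e =>
    absurd (x2 ▸ odd_orderOf_of_mem hU ⟨hx, e⟩) (by decide)

/-- the hypotheses -/
structure Hy (K O : Subgroup G) (t n g : G) (a : F → G) (h : Fˣ →* G) : Prop where
  odd : Odd (Fintype.card F)
  h3 : Fintype.card F ≠ 3
  d2 : D2 K
  tK : t ∈ K
  nK : n ∈ K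
  t2 : orderOf t = 2
  n2 : orderOf n = 2
  tn : Commute t n
  ne : n ≠ t
  aK : ∀ r, a r ∈ K
  add : ∀ r s, a (r + s) = a r * a s
  ta : ∀ r, Commute t (a r)
  na : ∀ r, n * a r * n⁻¹ = (a r)⁻¹
  ht : ∀ c, Commute (h c) t
  hn : ∀ c, Commute (h c) n
  ha : ∀ c r, h c * a r * (h c)⁻¹ = a (c * c * r)
  gt : g * t * g⁻¹ = n
  hC : ∃ I : Set G, I.ncard ≤ 2 * Fintype.card F * (Fintype.card F - 1) ∧
    ∀ k ∈ K, Commute k t → ∃ u ∈ O, ∃ i ∈ I, k = u * i
  h1 : IsSquare (-1 : F) → (Fintype.card F).Prime →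
    ∃ ρ ∈ K, (∀ c, Commute ρ (h c)) ∧ ρ * t * ρ⁻¹ = n ∧ ρ * n * ρ⁻¹ = n * t
  h2 : ¬ IsSquare (-1 : F) → ∀ k ∈ K, k * t * k⁻¹ ≠ n * t

namespace Hy

variable (s : Hy K O t n g a h)
include s

theorem tt : t * t = 1 := by rw [← sq, ← s.t2, pow_orderOf_eq_one]

theorem nt : orderOf (n * t) = 2 :=
  orderOf_eq_prime (by rw [s.tn.symm.mul_pow, ← s.n2, pow_orderOf_eq_one, s.n2, sq, s.tt, one_mul])
    fun e => s.ne (mul_right_cancel (e.trans s.tt.symm))

theorem red (φ : G →* Y) (hU : Odd (Nat.card ↥(K ⊓ φ.ker))) (hO : O ≤ φ.ker) :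
    Hy (K.map φ) ⊥ (φ t) (φ n) (φ g) (fun r => φ (a r)) (φ.comp h) := by
  have cj : ∀ {k}, orderOf (k * t * k⁻¹) = 2 := fun {k} =>
    (orderOf_injective (MulAut.conj k).toMonoidHom (MulAut.conj k).injective t).trans s.t2
  have cK : ∀ {k}, k ∈ K → k * t * k⁻¹ ∈ K := fun hk => mul_mem (mul_mem hk s.tK) (inv_mem hk)
  refine ⟨s.odd, s.h3, s.d2.of_surjective _ (φ.subgroupMap_surjective K), mem_map_of_mem _ s.tK,
    mem_map_of_mem _ s.nK, ord φ hU s.tK s.t2, ord φ hU s.nK s.n2, s.tn.map φ, fun e => ?_,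
    fun r => mem_map_of_mem _ (s.aK r), fun r r' => by rw [s.add, map_mul], fun r => (s.ta r).map φ,
    fun r => by rw [← map_inv, ← map_mul, ← map_mul, s.na, map_inv], fun c => (s.ht c).map φ,
    fun c => (s.hn c).map φ, fun c r => by
      rw [MonoidHom.comp_apply, ← map_inv, ← map_mul, ← map_mul, s.ha],
    by rw [← map_inv, ← map_mul, ← map_mul, s.gt], ?_, fun e1 e2 => ?_, fun e1 => ?_⟩
  · have := ord φ hU (mul_mem s.nK s.tK) s.nt
    rw [map_mul, e, ← map_mul, s.tt, map_one, orderOf_one] at this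
    omega
  · obtain ⟨I, h1, h2⟩ := s.hC
    refine ⟨φ '' I, (Set.ncard_image_le I.toFinite).trans h1, ?_⟩
    rintro _ ⟨k, hk, rfl⟩ hc
    obtain ⟨u, hu, e⟩ := lift φ hU (cK hk) s.tK cj s.t2 (by
      rw [map_mul, map_mul, hc.eq, map_inv, mul_inv_cancel_right])
    obtain ⟨v, hv, i, hi, e'⟩ := h2 _ (mul_mem hu.1 hk) (mul_inv_eq_iff_eq_mul.1
      (.trans (by group) e) : u * k * t = t * (u * k))
    refine ⟨1, one_mem _, _, ⟨i, hi, rfl⟩, ?_⟩
    simpa [show φ u = 1 from hu.2, show φ v = 1 from hO hv] using congrArg φ e'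
  · obtain ⟨ρ, h1, h2, h3, h4⟩ := s.h1 e1 e2
    exact ⟨_, mem_map_of_mem _ h1, fun c => (h2 c).map φ, by rw [← h3, map_mul, map_mul, map_inv],
      by rw [← map_mul φ n, ← h4, map_mul, map_mul, map_inv]⟩
  · rintro _ ⟨k, hk, rfl⟩ e
    obtain ⟨u, hu, e'⟩ := lift φ hU (cK hk) (mul_mem s.nK s.tK) cj s.nt (by
      rw [map_mul, map_mul, map_mul, map_inv, e])
    exact s.h2 e1 _ (mul_mem hu.1 hk) (by rw [← e']; group)

theorem zero : a 0 = 1 := by simpa using s.add 0 0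

/-- the root group as a homomorphism -/
def f : Multiplicative F →* K :=
  MonoidHom.mk' (fun r => ⟨a r.toAdd, s.aK _⟩) fun _ _ => Subtype.ext (s.add _ _)

theorem inj {r : F} (hr : a r ≠ 1) : Function.Injective s.f := by
  refine (injective_iff_map_eq_one _).2 fun x e => ?_
  replace e : a x.toAdd = 1 := congrArg Subtype.val e
  by_contra h0
  replace h0 : x.toAdd ≠ 0 := h0
  have h1 : ∀ c : F, a (c * c * x.toAdd) = 1 := fun c => by
    by_cases hc : c = 0
    · rw [hc, zero_mul, zero_mul, s.zero]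
    · rw [← Units.val_mk0 hc, ← s.ha, e, mul_one, mul_inv_cancel]
  have h2 : (2 : F) ≠ 0 := ABG.two_ne_zero_of_odd' s.odd
  have h3 := h1 ((r / x.toAdd + 1) / 2)
  rw [show (r / x.toAdd + 1) / 2 * ((r / x.toAdd + 1) / 2) * x.toAdd =
    r + (r / x.toAdd - 1) / 2 * ((r / x.toAdd - 1) / 2) * x.toAdd by field_simp; ring, s.add, h1,
    mul_one] at h3
  exact hr h3

theorem odd_a (r : F) : Odd (orderOf (a r)) :=
  s.odd.of_dvd_nat ((orderOf_map_dvd (K.subtype.comp s.f) (.ofAdd r)).trans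
    (Fintype.card_multiplicative F ▸ orderOf_dvd_card))

theorem not_dvd {k : ℕ} : ¬ Nat.card (Multiplicative F) ∣ 2 ^ k * 3 := fun e => by
  rw [Nat.card_eq_fintype_card, Fintype.card_multiplicative] at e
  rcases (Nat.dvd_prime Nat.prime_three).1
    (((Nat.coprime_two_right.2 s.odd).pow_right k).dvd_of_dvd_mul_left e) with e | e
  exacts [Fintype.one_lt_card.ne' e, s.h3 e]

end Hy

theorem core {E : Type} [Field E] [Finite E] (ho : Odd (Nat.card E)) (h3 : 3 < Nat.card E)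
    {K : Subgroup (MulAut PSL(2, E))} {t n g : MulAut PSL(2, E)} {a : F → MulAut PSL(2, E)}
    {h : Fˣ →* MulAut PSL(2, E)} (s : Hy K ⊥ t n g a h) (hL : DF.LL E ≤ K)
    (hp : ⁅DF.LL E, DF.LL E⁆ = DF.LL E) {r : F} (hr : a r ≠ 1) : False := by
  have ai : Function.Injective a := fun x y e => s.inj hr (a₁ := .ofAdd x) (a₂ := .ofAdd y) (Subtype.ext e)
  have hi : ∀ x ∈ K, orderOf x = 2 → ∃ y, iP E y = x ∧ orderOf y = 2 := fun x hx h2 => by
    suffices e : ∃ y, iP E y = x from e.imp fun y e => ⟨e, by rw [← orderOf_iP, e, h2]⟩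
    by_cases hs : sg x = 1
    · exact exists_iP_of_sg hs
    obtain ⟨u, hu, v, hv, u2, v2, uv, ne, xu, xv⟩ := exists_four ho h2 hs
    have : x ∈ DF.LL E := by
      rcases s.d2.eq_of_commute (a := ⟨u, hL hu⟩) (b := ⟨v, hL hv⟩) (d := ⟨x, hx⟩)
        ((orderOf_mk _ _).trans u2) ((orderOf_mk _ _).trans v2) ((orderOf_mk _ _).trans h2)
        (Subtype.ext uv) (Subtype.ext xu.symm) (Subtype.ext xv.symm)
        (fun e => ne (congrArg Subtype.val e)) with e | e | e <;> rw [show x = _ from congrArg Subtype.val e]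
      exacts [hu, hv, mul_mem hu hv]
    exact this.imp fun _ e => e.2
  obtain ⟨t, rfl, t2⟩ := hi t s.tK s.t2
  obtain ⟨n, rfl, n2⟩ := hi n s.nK s.n2
  choose b hb using fun r => exists_iP_of_sg (a := a r) (eq_one_of_inv_of_commute (v := sg (iP E n))
    ((s.odd_a r).of_dvd_nat (orderOf_map_dvd _ _))
    (by rw [← map_inv, ← map_mul, ← map_mul, s.na, map_inv]) (FieldAut.ringAut_mul_comm _ _))
  obtain ⟨τ, tT⟩ := exists_tor_inv ho t2
  have t1 : t ≠ 1 := fun e => by rw [e, orderOf_one] at t2; omega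
  have bo : ∀ r, Odd (orderOf (b r)) := fun r => by rw [← orderOf_iP, hb]; exact s.odd_a r
  have bT : ∀ r, b r ∈ τ.T := fun r =>
    τ.mem_T_of_odd (τ.mem_N tT t1 (commute_iP.1 (hb r ▸ s.ta r))) (bo r)
  have b1 : b 1 ≠ 1 := fun e => one_ne_zero (ai (by rw [← hb, e, map_one, s.zero]))
  let f : Multiplicative F →* τ.T := MonoidHom.mk' (fun r => ⟨b r.toAdd, bT _⟩) fun x y =>
    Subtype.ext (iP_inj ((hb _).trans ((s.add _ _).trans (by rw [← hb, ← hb, ← map_mul]; rfl))))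
  have fi : Function.Injective f := fun x y e => ai (a₁ := x.toAdd) (a₂ := y.toAdd) (by
    rw [← hb, ← hb]; exact congrArg (fun z : τ.T => iP E z) e)
  have qp : (Fintype.card F).Prime := by
    have := τ.cyc
    obtain ⟨x, hx⟩ := (isCyclic_of_injective f fi).exists_ofOrder_eq_natCard
    have h1 : orderOf x ∣ ringChar F := orderOf_dvd_of_pow_eq_one (Multiplicative.toAdd.injective (by
      rw [toAdd_pow, nsmul_eq_mul, ringChar.Nat.cast_ringChar, zero_mul]; rfl))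
    rw [hx, Nat.card_eq_fintype_card, Fintype.card_multiplicative] at h1
    rw [((Nat.dvd_prime prime_char).1 h1).resolve_left Fintype.one_lt_card.ne']
    exact prime_char
  have nb : n * b 1 * n⁻¹ = (b 1)⁻¹ := iP_inj (by rw [map_mul, map_mul, map_inv, map_inv, hb, s.na])
  have nN := τ.mem_N tT t1 (commute_iP.1 s.tn)
  have key : ∀ c : Fˣ, sg (h c) = 1 → c ^ 2 = 1 := fun c hc => by
    obtain ⟨y, hy⟩ := exists_iP_of_sg hc
    have yN := τ.mem_N tT t1 (commute_iP.1 (hy ▸ s.ht c)).symm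
    have e := s.ha c 1
    rw [← hy, ← hb, ← map_inv, ← map_mul, ← map_mul, mul_one] at e
    by_cases yT : y ∈ τ.T
    · rw [(τ.commute yT (bT 1)).eq, mul_inv_cancel_right, hb] at e
      exact Units.ext (by simpa [sq] using (ai e).symm)
    have e1 := τ.inv yN yT (bT 1)
    rw [e1, map_inv, hb, inv_eq_iff_mul_eq_one, ← s.add, ← s.zero] at e
    obtain ⟨ρ, -, r1, -, r2⟩ := s.h1 ⟨c, by linear_combination -(ai e)⟩ qp
    have e2 : y * n ∈ τ.T := by
      by_contra e2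
      refine b1 (eq_one_of_inv_of_commute (bo 1) (τ.inv (mul_mem yN nN) e2 (bT 1))
        (mul_inv_eq_iff_eq_mul.1 ?_))
      rw [show y * n * b 1 * (y * n)⁻¹ = y * (n * b 1 * n⁻¹) * y⁻¹ by group, nb, conj_inv', e1, inv_inv]
    have e3 : ρ * iP E (y * n) * ρ⁻¹ = iP E (y * n) * iP E t := by
      rw [map_mul, hy, mul_assoc (h c), ← r2, ← mul_assoc, (r1 c).eq]; group
    by_cases e4 : y * n = 1
    · rw [e4, map_one, mul_one, mul_inv_cancel, one_mul, ← map_one (iP E)] at e3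
      exact absurd (iP_inj e3).symm t1
    rw [τ.eq_of_inv e2 tT (orderOf_eq_prime (by
      rw [(commute_iP.1 (hy ▸ s.hn c)).mul_pow, sq, τ.sq yN yT, orderOf_dvd_iff_pow_eq_one.1 n2.dvd,
        one_mul]) e4)
      t2, s.tt, conj_eq_one_iff, ← map_one (iP E)] at e3
    exact absurd (iP_inj e3) t1
  obtain ⟨c, hc⟩ := IsCyclic.exists_ofOrder_eq_natCard (α := Fˣ)
  have hm := Nat.le_of_dvd (Nat.mul_pos (orderOf_pos _) two_pos) (orderOf_dvd_of_pow_eq_one (x := c)
    ((pow_mul c (orderOf (sg (h c))) 2).trans (key _ (by rw [map_pow, map_pow, pow_orderOf_eq_one]))))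
  rw [hc, Nat.card_units, Nat.card_eq_fintype_card, mul_comm] at hm
  have hd := card_dvd_of_injective f fi
  rw [Nat.card_eq_fintype_card, Fintype.card_multiplicative] at hd
  have hh := τ.half ho
  obtain ⟨I, i1, i2⟩ := s.hC
  have hb : Nat.card τ.T ≤ I.ncard := by
    rw [← hh, ← τ.card_N_inf]
    refine Set.ncard_le_ncard_of_injOn (s := ((τ.N ⊓ pslIn E : Subgroup _) : Set PGL(2, E))) (iP E)
      (fun x hx => ?_) iP_inj.injOn
    obtain ⟨u, hu, i, hi, e⟩ := i2 _ (hL (iP_mem.2 hx.2))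
      (commute_iP.2 (τ.commute_of_mem_N tT t2 hx.1).symm)
    rwa [e, mem_bot.1 hu, one_mul]
  rcases arith qp s.odd s.h3 (FieldAut.card_fixF_pow (sg (h c))) ho h3 hm τ.card_cases hd
    (hb.trans i1) with ⟨e1, e2⟩ | ⟨e1, e2⟩
  · obtain ⟨ρ, -, -, r1, r2⟩ := s.h1 (FiniteField.isSquare_neg_one_iff.2 (by omega)) qp
    have k1 : iP E t ∉ DF.LL E := fun e => by
      have := orderOf_dvd_natCard (τ.T ⊓ pslIn E) (x := t) ⟨tT, iP_mem.1 e⟩
      rw [t2] at this
      omega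
    have k : ∀ x, ρ * x * ρ⁻¹ ∈ DF.LL E → x ∈ DF.LL E := fun x e => by
      simpa [mul_assoc] using LL_normal.conj_mem _ e ρ⁻¹
    have k2 : iP E n ∉ DF.LL E := fun e => k1 (k _ (r1 ▸ e))
    refine k2 (k _ ?_)
    rw [r2, ← map_mul, iP_mem, mul_mem_iff_of_index_two (index_pslIn_of_odd ho), ← iP_mem, ← iP_mem]
    tauto
  · obtain ⟨x, hx⟩ := exists_prime_orderOf_dvd_card' (G := ↥(τ.T ⊓ pslIn E)) 2 (by omega)
    have k1 : iP E t ∈ DF.LL E :=
      iP_mem.2 (τ.eq_of_inv x.2.1 tT ((orderOf_coe x).trans hx) t2 ▸ x.2.2)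
    obtain ⟨k, hk⟩ := isConj_iff.1 ((s.d2.of_injective _ (inclusion_injective hL)).isConj_of_perfect
      (commutator_eq_top_of_perfect hp) (a := ⟨_, k1⟩)
      (b := ⟨_, mul_mem (s.gt ▸ LL_normal.conj_mem _ k1 g) k1⟩) ((orderOf_mk _ _).trans s.t2)
      ((orderOf_mk _ _).trans s.nt))
    exact s.h2 (fun e => FiniteField.isSquare_neg_one_iff.1 e (by omega)) k (hL k.2)
      (congrArg Subtype.val hk)

theorem Hy.free [K.Normal] (s : Hy K ⊥ t n g a h) (hO : oddCore K = ⊥) (r : F) : a r = 1 := by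
  by_contra hr
  have hd := card_dvd_of_injective _ (s.inj hr)
  by_cases hE : layerOf (⊤ : Subgroup K) = ⊥
  · by_cases h2 : IsPGroup 2 K
    · obtain ⟨k, hk⟩ := h2.exists_card_eq
      exact s.not_dvd ((hk ▸ hd).mul_right 3)
    obtain ⟨L, -, -, h3, ⟨e⟩⟩ := s.d2.exists_alt_four hO hE h2
    refine s.not_dvd (k := 3) (hd.trans ?_)
    rw [← L.card_mul_index, Nat.card_congr e.toEquiv, nat_card_alternatingGroup, Nat.card_fin]
    exact Nat.mul_dvd_mul_left 12 h3
  obtain ⟨hC, ⟨k, e, hc⟩ | ⟨h1, hc⟩⟩ := s.d2.layer_structure hO hE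
  · obtain ⟨f⟩ := quotCenterEquiv hC
    obtain ⟨q, h1, h3, E, _, _, rfl, ⟨f'⟩⟩ := hc.l2
    have hp := hc.perfect
    have ch : (layerOf (⊤ : Subgroup K)).Characteristic := layerOf_top (G := K) ▸ layer_characteristic
    generalize layerOf (⊤ : Subgroup K) = L at *
    have := ConjAct.normal_of_characteristic_of_normal (H := K) (K := L)
    let ε := (L.equivMapOfInjective _ K.subtype_injective).symm.trans (f.trans f')
    let φ : G →* MulAut PSL(2, E) := (MulAut.congr ε).toMonoidHom.comp MulAut.conjNormal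
    have e1 : K ⊓ φ.ker = ⊥ := eq_bot_iff.2 fun x hx => by
      have h1 : MulAut.conjNormal x = (1 : MulAut (L.map K.subtype)) :=
        (MulAut.congr ε).map_eq_one_iff.1 hx.2
      exact congrArg Subtype.val (mem_bot.1 (hC.le (show (⟨x, hx.1⟩ : K) ∈ _ from fun y hy =>
        Subtype.ext (mul_inv_eq_iff_eq_mul.1 (show x * y * x⁻¹ = y from
          congrArg Subtype.val (DFunLike.congr_fun h1 (⟨y.1, y, hy, rfl⟩ : L.map K.subtype)))).symm)))
    have e2 : DF.LL E = (L.map K.subtype).map φ := by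
      have : ∀ y : L.map K.subtype, φ y = MulAut.conj (ε y) := fun y => by
        ext z
        simp [φ, MulAut.congr, MulAut.conjNormal_val]
      rw [LL_eq]
      ext x
      exact ⟨fun ⟨y, e⟩ => ⟨_, (ε.symm y).2, by rw [this, ε.apply_symm_apply, e]⟩,
        fun ⟨y, hy, e⟩ => ⟨_, (this ⟨y, hy⟩).symm.trans e⟩⟩
    rw [← Nat.card_eq_fintype_card] at h1 h3
    refine core ?_ h3 (s.red φ (by rw [e1, card_bot]; exact odd_one) bot_le)
      (e2 ▸ map_mono (map_subtype_le L)) (by rw [e2, ← map_commutator, ← map_commutator, hp])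
      fun e => hr (mem_bot.1 (e1.le ⟨s.aK r, e⟩))
    rw [Nat.odd_iff]
    rcases hc.sign with h4 | h4 <;> omega
  · rw [h1] at hC
    obtain ⟨f⟩ := quotCenterEquiv hC
    obtain ⟨f'⟩ := hc.a7
    let ε := topEquiv.symm.trans (f.trans f')
    obtain ⟨σ, hσ⟩ := isConj_iff.1 (A7.isConj_t₀ (ε ⟨t, s.tK⟩).2 ((orderOf_coe _).trans
      ((ε.orderOf_eq _).trans ((orderOf_mk _ _).trans s.t2))))
    let ψ : K →* Equiv.Perm (Fin 7) := (MulAut.conj σ).toMonoidHom.comp
      ((alternatingGroup _).subtype.comp ε.toMonoidHom)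
    have ψi : Function.Injective ψ :=
      (MulAut.conj σ).injective.comp (Subtype.val_injective.comp ε.injective)
    have h2 : ∀ x, ψ.comp s.f x ∈ fixingSubgroup (Equiv.Perm (Fin 7)) {y : Fin 7 | ¬ 4 ≤ y.1} := fun x => by
      obtain ⟨h0, h1, h2, h3⟩ := A7.fix_of_commute (a := 0) (b := 1) (c := 2) (d := 3) (w := ψ (s.f x))
        (by decide) (by decide) (by decide) (by decide) (by decide) (by decide)
        (by rw [orderOf_injective ψ ψi, ← orderOf_coe]; exact s.odd_a _)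
        (hσ ▸ (show Commute (⟨t, s.tK⟩ : K) (s.f x) from Subtype.ext (s.ta _)).map ψ : Commute A7.t₀ _)
      refine (mem_fixingSubgroup_iff _).2 fun y hy => ?_
      fin_cases y <;> first | assumption | exact absurd (by decide) hy
    have h3 := card_dvd_of_injective ((ψ.comp s.f).codRestrict _ h2) fun x y e =>
      s.inj hr (ψi (congrArg Subtype.val e))
    rw [Nat.card_congr ((Equiv.subtypeEquivRight fun _ => mem_fixingSubgroup_iff _).trans
      (Equiv.Perm.subtypeEquivSubtypePerm fun y : Fin 7 => 4 ≤ y.1).symm), Nat.card_perm,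
      show Nat.card {y : Fin 7 // 4 ≤ y.1} = 3 by rw [Nat.card_eq_fintype_card]; decide] at h3
    exact s.not_dvd (k := 1) h3

theorem Hy.mem [K.Normal] (s : Hy K (opOf 2 K) t n g a h) (r : F) : a r ∈ opOf 2 K := by
  have : (opOf 2 K).Normal := normalizer_eq_top_iff.1 (top_le_iff.1
    (le_normalizer_of_normal.trans (normalizer_le_normalizer_opOf 2 K)))
  have e : (QuotientGroup.mk' (opOf 2 K)).ker ⊓ K = opOf 2 K := by
    rw [QuotientGroup.ker_mk', inf_eq_left.2 (opOf_le 2 K)]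
  have := Normal.map ‹K.Normal› _ (QuotientGroup.mk'_surjective (opOf 2 K))
  exact (QuotientGroup.eq_one_iff _).1 ((s.red (QuotientGroup.mk' (opOf 2 K))
    (by rw [inf_comm, e]; exact odd_opOf K) (QuotientGroup.ker_mk' _).ge).free (opOf_eq_bot_iff.1 (by
      rw [opOf_map_of_ker 2 K (e.symm ▸ opOf_coprime 2 K), Subgroup.map_eq_bot_iff, QuotientGroup.ker_mk'])) r)

end DK

/-- The root group lies in the odd core. -/
theorem dk {G F : Type*} [Group G] [Finite G] [Field F] [Fintype F] (hF : Odd (Fintype.card F))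
    (h3 : Fintype.card F ≠ 3) {K : Subgroup G} (hD : GW.D2 K) {t n g : G} (a : F → G) (h : Fˣ →* G)
    (tK : t ∈ K) (nK : n ∈ K) (t2 : orderOf t = 2) (n2 : orderOf n = 2) (tn : Commute t n) (ne : n ≠ t)
    (aK : ∀ r, a r ∈ K) (add : ∀ r s, a (r + s) = a r * a s) (ta : ∀ r, Commute t (a r))
    (na : ∀ r, n * a r * n⁻¹ = (a r)⁻¹) (hN : ∀ c, h c ∈ normalizer (K : Set G))
    (ht : ∀ c, Commute (h c) t) (hn : ∀ c, Commute (h c) n)
    (ha : ∀ c r, h c * a r * (h c)⁻¹ = a (c * c * r)) (gN : g ∈ normalizer (K : Set G))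
    (gt : g * t * g⁻¹ = n)
    (hC : ∃ I : Finset G, I.card ≤ 2 * Fintype.card F * (Fintype.card F - 1) ∧
      ∀ k ∈ K, Commute k t → ∃ u ∈ PComp.opOf 2 K, ∃ i ∈ I, k = u * i)
    (h1 : IsSquare (-1 : F) → (Fintype.card F).Prime →
      ∃ ρ ∈ K, (∀ c, Commute ρ (h c)) ∧ ρ * t * ρ⁻¹ = n ∧ ρ * n * ρ⁻¹ = n * t)
    (h2 : ¬ IsSquare (-1 : F) → ¬ IsConj t (n * t)) (r : F) : a r ∈ PComp.opOf 2 K := by
  have e := opOf_subgroupOf_map 2 (le_normalizer (H := K))
  have s : DK.Hy (K.subgroupOf (normalizer (K : Set G))) (opOf 2 (K.subgroupOf (normalizer (K : Set G))))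
      ⟨t, le_normalizer tK⟩ ⟨n, le_normalizer nK⟩ ⟨g, gN⟩ (fun r => ⟨a r, le_normalizer (aK r)⟩)
      (h.codRestrict _ hN) := by
    refine ⟨hF, h3, hD.of_injective (subgroupOfEquivOfLe (le_normalizer (H := K))).toMonoidHom
      (MulEquiv.injective _), tK, nK,
      (orderOf_mk _ _).trans t2, (orderOf_mk _ _).trans n2, Subtype.ext tn,
      fun e => ne (congrArg Subtype.val e), aK, fun r s => Subtype.ext (add r s),
      fun r => Subtype.ext (ta r), fun r => Subtype.ext (na r), fun c => Subtype.ext (ht c),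
      fun c => Subtype.ext (hn c), fun c r => Subtype.ext (ha c r), Subtype.ext gt, ?_, fun e1 e2 => ?_,
      fun e1 k _ e => h2 e1 (isConj_iff.2 ⟨k.1, congrArg Subtype.val e⟩)⟩
    · obtain ⟨I, i1, i2⟩ := hC
      refine ⟨Subtype.val ⁻¹' I, ((Set.ncard_le_ncard_of_injOn Subtype.val (fun _ h => h)
        Subtype.val_injective.injOn I.finite_toSet).trans_eq (Set.ncard_coe_finset I)).trans i1, fun k hk hc => ?_⟩
      obtain ⟨u, hu, i, hi, e'⟩ := i2 k hk (congrArg Subtype.val hc)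
      obtain ⟨u, hu', rfl⟩ := e.ge hu
      exact ⟨u, hu', u⁻¹ * k, by
        rwa [Set.mem_preimage, coe_mul, coe_inv, e', coe_subtype, inv_mul_cancel_left], by group⟩
    · obtain ⟨ρ, r1, r2, r3, r4⟩ := h1 e1 e2
      exact ⟨⟨ρ, le_normalizer r1⟩, r1, fun c => Subtype.ext (r2 c), Subtype.ext r3, Subtype.ext r4⟩
  exact e.le (mem_map_of_mem _ (s.mem r))

end CL.L4
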