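import Cfsg.Agent.INV.GW.Cor2
import Cfsg.Agent.PERM.A8Gen
import Cfsg.Agent.TECH.SylIn

/-!
Groups in which the centraliser of an involution has a cyclic-by-two Sylow subgroup (for `L4/KSig`).
-/

set_option autoImplicit false

namespace CL.L4.Ks

open Subgroup Cfsg CL.MSS

variable {G : Type*} [Group G] [Finite G] {K S Z : Subgroup G} {t n k x : G}

/-- The 2-subgroups of `C_K(x)` have order at most four. -/
def B4 (K : Subgroup G) (x : G) : Prop :=
  ∀ R : Subgroup G, IsPGroup 2 R → R ≤ K ⊓ centralizer {x} → Nat.card R ≤ 4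

omit [Finite G] in
theorem B4.conj (h : B4 K x) (hk : k ∈ normalizer (K : Set G)) : B4 K (k * x * k⁻¹) := fun R hR hle => by
  rw [← card_cj k⁻¹]
  refine h _ (isPGroup_cj _ hR) (cj_le_iff.2 ?_)
  rwa [inv_inv, cj_inf, cj_centralizer_singleton, cj_eq_of_mem_normalizer hk]

theorem d2_of_sylIn (hS : SylIn 2 S K) (h : GW.CorD S) : GW.D2 K :=
  GW.d2_of_sylow hS.toSylow (h.of_equiv (subgroupOfEquivOfLe hS.le))

/-- First alternative: a Sylow subgroup of `C_K(t)` is `Z₂ ⟨n⟩`. -/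
theorem d2_or_b4 (tK : t ∈ K) (nK : n ∈ K) (t2 : orderOf t = 2) (n2 : orderOf n = 2) (tn : Commute t n)
    (ne : n ≠ t) (hZ : IsCyclic Z) (h1 : ∀ z ∈ Z, n * z * n⁻¹ = z⁻¹)
    (h2 : ∀ z ∈ Z, z * z = 1 → z = 1 ∨ z = t)
    (h3 : ∀ R : Subgroup G, IsPGroup 2 R → R ≤ K ⊓ centralizer {t} → n ∈ R → ∀ x ∈ R, x ∈ Z ∨ n * x ∈ Z) :
    GW.D2 K ∨ B4 K t := by
  have nn := TwoInv.mul_self_of_orderOf_eq_two n2
  have tt := TwoInv.mul_self_of_orderOf_eq_two t2
  have t1 := TwoInv.ne_one_of_orderOf_eq_two t2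
  have hV := Four.isKleinFour_closure t2 n2 ne.symm tn
  obtain ⟨S, hS, hVS⟩ := exists_sylIn_ge (H := K ⊓ centralizer {t}) (Four.isPGroup hV)
    ((closure_le _).2 (by
      rintro _ (rfl | rfl)
      exacts [⟨tK, mem_centralizer_singleton_iff.2 rfl⟩, ⟨nK, mem_centralizer_singleton_iff.2 tn.symm⟩]))
  have nS : n ∈ S := hVS (subset_closure (Or.inr rfl))
  have h4 := h3 S hS.pgroup hS.le nS
  have ni : n⁻¹ = n := inv_eq_of_mul_eq_one_right nn
  by_cases hw : ∃ w ∈ S, w * w = t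
  · obtain ⟨w, wS, hw⟩ := hw
    left
    refine d2_of_sylIn (hS.of_normalizer_le (hS.le.trans inf_le_left) fun k hk => ⟨hk.1, ?_⟩) ?_
    · have w' := (mem_normalizer_iff.1 hk.2 w).1 wS
      have e : k * w * k⁻¹ * (k * w * k⁻¹) = k * t * k⁻¹ := by rw [← hw]; group
      have e1 : k * t * k⁻¹ ≠ 1 := by simpa using t1
      rcases h4 _ w' with h | h
      · exact mem_centralizer_singleton_iff.2 (mul_inv_eq_iff_eq_mul.1
          ((h2 _ (e ▸ mul_mem h h) (by rw [conj_mul, tt]; simp)).resolve_left e1))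
      · refine absurd ?_ e1
        have := h1 _ h
        rw [← mul_assoc, nn, one_mul, ni, eq_inv_iff_mul_eq_one, mul_assoc, ← mul_assoc n, nn,
          one_mul] at this
        rw [← e, this]
    · obtain ⟨z, hz⟩ := (Subgroup.isCyclic_iff_exists_zpowers_eq_top (S ⊓ Z)).1 (isCyclic_of_le inf_le_right)
      have zm : z ∈ S ⊓ Z := hz ▸ mem_zpowers z
      exact GW.corD_of_gen hS.pgroup zm.1 nS nn (h1 z zm.2) fun x hx =>
        (h4 x hx).imp (fun h => hz ▸ ⟨hx, h⟩) fun h => hz ▸ ⟨mul_mem nS hx, h⟩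
  · right
    have k : ∀ m, ∀ z ∈ S, z ∈ Z → z ^ 2 ^ m = 1 → z = 1 ∨ z = t := fun m => by
      induction m with
      | zero => exact fun z _ _ e => Or.inl (by simpa using e)
      | succ m ih =>
        intro z h5 h6 e
        rw [pow_succ', pow_mul, sq] at e
        exact h2 z h6 ((ih _ (mul_mem h5 h5) (mul_mem h6 h6) e).resolve_right fun e' => hw ⟨z, h5, e'⟩)
    have k' : ∀ z ∈ S, z ∈ Z → z ∈ closure ({t, n} : Set G) := fun z h5 h6 => by
      obtain ⟨m, hm⟩ := isPGroup_iff_forall_mem.1 hS.pgroup z h5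
      rcases k m z h5 h6 hm with rfl | rfl
      exacts [one_mem _, subset_closure (Or.inl rfl)]
    have nV : n ∈ closure ({t, n} : Set G) := subset_closure (Or.inr rfl)
    have e : S = closure {t, n} := le_antisymm (fun x hx => (h4 x hx).elim (k' x hx) fun h =>
      (mul_mem_cancel_left nV).1 (k' _ (mul_mem nS hx) h)) hVS
    intro R hR hle
    rw [← hV.card_four, ← e]
    exact hS.card_le hR hle

/-- Second alternative: `⟨t, n⟩` is Sylow in `C_K(t)` and in `C_K(n)`. -/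
theorem d2_or_iso (tK : t ∈ K) (nK : n ∈ K) (t2 : orderOf t = 2) (n2 : orderOf n = 2) (tn : Commute t n)
    (ne : n ≠ t) (h1 : B4 K t) (h2 : B4 K n)
    (h3 : B4 K (n * t) ∨ (¬ IsConj t (n * t) ∧ IsConj t n)) :
    GW.D2 K ∨ ∀ c ∈ K, Commute (n * t) (c * (n * t) * c⁻¹) → c * (n * t) * c⁻¹ = n * t := by
  have nn := TwoInv.mul_self_of_orderOf_eq_two n2
  have tt := TwoInv.mul_self_of_orderOf_eq_two t2
  have hV := Four.isKleinFour_closure t2 n2 ne.symm tn
  have mV := fun c => Four.mem_closure_pair_iff_of_commute tt nn tn.eq (c := c)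
  have tV : t ∈ closure ({t, n} : Set G) := subset_closure (Or.inl rfl)
  have nV : n ∈ closure ({t, n} : Set G) := subset_closure (Or.inr rfl)
  obtain ⟨S, hS, hVS⟩ := exists_sylIn_ge (H := K) (Four.isPGroup hV)
    ((closure_le _).2 (by rintro _ (rfl | rfl); exacts [tK, nK]))
  by_cases h4 : Nat.card S ≤ 4
  · left
    have e : closure {t, n} = S := eq_of_le_of_card_ge hVS (hV.card_four ▸ h4)
    refine d2_of_sylIn hS (GW.corD_of_gen hS.pgroup (hVS tV) (hVS nV) nn
      (by rw [← tn.eq, mul_inv_cancel_right, inv_eq_of_mul_eq_one_right tt]) fun x hx => ?_)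
    rcases (mV x).1 (e ▸ hx) with rfl | rfl | rfl | rfl
    · exact Or.inl (one_mem _)
    · exact Or.inl (mem_zpowers _)
    · exact Or.inr (nn ▸ one_mem _)
    · exact Or.inr (by rw [tn.eq, ← mul_assoc, nn, one_mul]; exact mem_zpowers _)
  have hc : S ⊓ centralizer {t} ≤ closure {t, n} :=
    (eq_of_le_of_card_ge (le_inf hVS fun x hx => mem_centralizer_singleton_iff.2
      (Four.comm_of_mem hV hx tV)) (hV.card_four ▸ h1 _ (hS.pgroup.to_le inf_le_left)
        (inf_le_inf_right _ hS.le))).ge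
  have : Nontrivial S := Finite.one_lt_card_iff_nontrivial.1 (by omega)
  have := hS.pgroup.center_nontrivial
  obtain ⟨⟨⟨u, uS⟩, hu⟩, u1⟩ := exists_ne (1 : center S)
  have uc : S ≤ centralizer {u} := fun x hx =>
    mem_centralizer_singleton_iff.2 (congrArg Subtype.val (mem_center_iff.1 hu ⟨x, hx⟩))
  have u2 : u = n * t := by
    rcases (mV u).1 (hc ⟨uS, mem_centralizer_singleton_iff.2
      (mem_centralizer_singleton_iff.1 (uc (hVS tV))).symm⟩) with rfl | rfl | rfl | rfl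
    · exact absurd rfl u1
    · exact absurd (h1 S hS.pgroup (le_inf hS.le uc)) h4
    · exact absurd (h2 S hS.pgroup (le_inf hS.le uc)) h4
    · exact tn.eq
  subst u2
  obtain ⟨h5, h6⟩ := h3.resolve_left fun h => h4 (h S hS.pgroup (le_inf hS.le uc))
  refine or_iff_not_imp_right.2 fun hn => ?_
  push Not at hn
  obtain ⟨c, cK, c1, c2⟩ := hn
  have ss : n * t * (n * t) = 1 := Four.mul_self_of_mem hV (mul_mem nV tV)
  have sK := mul_mem nK tK
  obtain ⟨y, hy, hle⟩ := (hS.inf_of_le uc).exists_conj_le (R := zpowers (c * (n * t) * c⁻¹))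
    (isPGroup_zpowers (k := 1) (by rw [pow_one, sq, conj_mul, ss]; simp))
    (zpowers_le.2 ⟨K.mul_mem (K.mul_mem cK sK) (K.inv_mem cK), mem_centralizer_singleton_iff.2 c1.symm⟩)
  have sS := hle (conj_mem_cj (mem_zpowers _))
  obtain ⟨⟨m, -, ⟨e⟩⟩, -⟩ := Odd.dihedral_of_four hS.pgroup (A := (closure {t, n}).subgroupOf S)
    (Four.isKleinFour_subgroupOf hV hVS).card_four
    (fun a ha => Subtype.ext (Four.mul_self_of_mem hV ha))
    (fun a ha => hc ⟨a.2, mem_centralizer_singleton_iff.2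
      (congrArg Subtype.val (ha ⟨t, hVS tV⟩ tV)).symm⟩)
    (t := ⟨_, sS⟩) (Subtype.ext (by simp only [coe_mul, conj_mul, ss]; simp)) fun g hg => by
      have k : IsConj (n * t) ((g : G) * (y * (c * (n * t) * c⁻¹) * y⁻¹) * (g : G)⁻¹) :=
        isConj_iff.2 ⟨g * y * c, by group⟩
      rcases (mV ((g : G) * (y * (c * (n * t) * c⁻¹) * y⁻¹) * (g : G)⁻¹)).1 hg with e | e | e | e
      · rw [e, isConj_one_left] at k
        exact u1 (Subtype.ext (Subtype.ext k))
      · exact h5 (e ▸ k).symm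
      · exact h5 (h6.trans (e ▸ k).symm)
      · apply c2
        have g1 := mem_centralizer_singleton_iff.1 (uc g.2)
        have y1 := mem_centralizer_singleton_iff.1 hy.2
        rw [tn.eq, mul_inv_eq_iff_eq_mul, ← g1, mul_right_inj, mul_inv_eq_iff_eq_mul, ← y1,
          mul_right_inj] at e
        exact e
  exact GW.d2_of_dihedral hS.toSylow ((subgroupOfEquivOfLe hS.le).trans e)

end CL.L4.Ks
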