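import Cfsg.Agent.INV.L4.FusA
import Cfsg.Agent.INV.L4.DK
import Cfsg.Agent.INV.L4.KSig1
import Cfsg.Agent.INV.R2.Swap1

set_option autoImplicit false
set_option linter.unusedSectionVars false

namespace CL.L4

open Matrix Subgroup Cfsg CL.ABG CL.R2 CL.L4.LL CL.MSS CL.L4.Ks
open scoped MatrixGroups

namespace Ks

variable {F : Type*} [Field F]

/-- Pairs of scalar matrices. -/
def sc (α β : F) (h : α * α * (β * β) = 1) : LL F := ⟨α • 1, β • 1, by rw [det_scal, det_scal, h]⟩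

theorem sc_mul {α β α' β' : F} (h : α * α * (β * β) = 1) (h' : α' * α' * (β' * β') = 1) :
    sc α β h * sc α' β' h' = sc (α * α') (β * β')
      (by linear_combination (α' * α' * (β' * β')) * h + h') :=
  LL.ext (by simp [sc, smul_smul, mul_comm]) (by simp [sc, smul_smul, mul_comm])

theorem up_of_comm {a : Matrix (Fin 2) (Fin 2) F} (ha : a.det ≠ 0) (h : (up 1).1 * a = a * (up (1 : F)).1) :
    ∃ α r : F, a = α • (up r).1 := by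
  have e1 := congrFun (congrFun h 0) 0
  have e2 := congrFun (congrFun h 0) 1
  simp [coe_up, Matrix.mul_apply, Fin.sum_univ_two] at e1 e2
  have h0 : a 0 0 ≠ 0 := fun e => ha (by rw [det_fin_two, e, e1]; ring)
  refine ⟨a 0 0, a 0 1 / a 0 0, ?_⟩
  ext i j
  fin_cases i <;> fin_cases j <;> simp [coe_up, e1]
  · field_simp
  · linear_combination e2

end Ks

namespace Dat

variable {G F : Type*} [Group G] [Finite G] [Field F] [Fintype F] (Γ : Dat G F) {k x z g : G}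

/-- The image of the pairs of scalar matrices. -/
def Zc : Subgroup G where
  carrier := {g | ∃ α β h, g = Γ.ψ (sc α β h)}
  one_mem' := ⟨1, 1, by ring, ((Γ.ker _).2 ⟨1, rfl, rfl⟩).symm⟩
  mul_mem' := by
    rintro _ _ ⟨α, β, h, rfl⟩ ⟨α', β', h', rfl⟩
    exact ⟨_, _, _, by rw [← map_mul, sc_mul]⟩
  inv_mem' := by
    rintro _ ⟨α, β, h, rfl⟩
    refine ⟨β, α, by linear_combination h, inv_eq_of_mul_eq_one_right ?_⟩
    rw [← map_mul, sc_mul]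
    exact (Γ.ker _).2 ⟨α * β, rfl, congrArg (· • (1 : Matrix (Fin 2) (Fin 2) F)) (mul_comm β α)⟩

theorem sc_eq_iff {α β α' β' : F} {h h'} : Γ.ψ (sc α β h) = Γ.ψ (sc α' β' h') ↔ α / β = α' / β' := by
  have hb : β ≠ 0 := fun e => by simp [e] at h
  have hb' : β' ≠ 0 := fun e => by simp [e] at h'
  rw [eq_iff, div_eq_div_iff hb hb']
  refine ⟨fun ⟨c, h1, h2⟩ => ?_, fun e => ⟨β / β', ?_, ?_⟩⟩
  · rw [smul_one_inj (h1.trans (smul_smul _ _ _)), smul_one_inj (h2.trans (smul_smul _ _ _))]; ring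
  · refine .trans (congrArg (· • (1 : Matrix (Fin 2) (Fin 2) F)) ?_) (smul_smul _ _ _).symm
    field_simp; linear_combination e
  · refine .trans (congrArg (· • (1 : Matrix (Fin 2) (Fin 2) F)) ?_) (smul_smul _ _ _).symm
    field_simp

theorem exists_rat : ∃ f : Γ.Zc →* F, Function.Injective f := by
  choose α β h e using fun z : Γ.Zc => z.2
  refine ⟨⟨⟨fun z => α z / β z, ?_⟩, fun y z => ?_⟩, fun y z hyz => Subtype.ext ?_⟩
  · rw [← div_one (1 : F)]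
    exact (Γ.sc_eq_iff (h' := by ring)).1 ((e 1).symm.trans ((Γ.ker _).2 ⟨1, rfl, rfl⟩).symm)
  · rw [div_mul_div_comm]
    exact Γ.sc_eq_iff.1 (by rw [← sc_mul (h y) (h z), map_mul, ← e, ← e, ← e]; rfl)
  · rw [e y, e z]; exact Γ.sc_eq_iff.2 hyz

theorem Zc_cyc : IsCyclic Γ.Zc :=
  let ⟨f, hf⟩ := Γ.exists_rat
  isCyclic_of_injective_ringHom f hf

theorem Zc_dvd : Nat.card Γ.Zc ∣ Fintype.card F - 1 := by
  classical
  obtain ⟨f, hf⟩ := Γ.exists_rat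
  rw [← Fintype.card_units, ← Nat.card_eq_fintype_card]
  exact card_dvd_of_injective f.toHomUnits fun a b e => hf (congrArg Units.val e)

variable {Γ}

theorem Zc_n (hz : z ∈ Γ.Zc) : Γ.n * z * Γ.n⁻¹ = z⁻¹ := by
  obtain ⟨α, β, h, rfl⟩ := hz
  rw [Γ.nsw, eq_inv_iff_mul_eq_one, ← map_mul]
  exact (Γ.ker _).2 ⟨α * β, by simp [sc, smul_smul], by simp [sc, smul_smul, mul_comm]⟩

theorem Zc_sq (hz : z ∈ Γ.Zc) (h2 : z * z = 1) : z = 1 ∨ z = Γ.t := by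
  obtain ⟨α, β, h, rfl⟩ := hz
  rw [← map_mul, sc_mul] at h2
  obtain ⟨c, h3, h4⟩ := (Γ.ker _).1 h2
  exact Γ.scal_scal rfl rfl ((smul_one_inj h3).trans (smul_one_inj h4).symm)

theorem Zc_uu (hz : z ∈ Γ.Zc) (a b : SL(2, F)) : Commute (Γ.ι₁ a * Γ.ι₂ b) z := by
  obtain ⟨α, β, h, rfl⟩ := hz
  exact ((Γ.comm₁_of_scal rfl a).mul_right (Γ.comm₂_of_scal rfl b)).symm

theorem n_CU : Γ.n ∈ Γ.two.CU := Two.mem_CU.2 fun _ => Γ.n_dia _

theorem t_CU : Γ.t ∈ Γ.two.CU := Two.mem_CU.2 fun _ => (Γ.dia_t _).symm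

theorem form_inn {y : LL F} (hk : Γ.ψ y ∈ Γ.two.CU) :
    ∃ a b, ∃ z ∈ Γ.Zc, Γ.ψ y = Γ.ι₁ (up a) * Γ.ι₂ (up b) * z := by
  obtain ⟨h1, h2⟩ := (Γ.fix_ψ y).comm_up (Two.mem_CU.1 hk 1)
  obtain ⟨α, a, e1⟩ := up_of_comm y.detA (((Γ.acts₁ y).comm_iff Γ.two.inj₁).1 h1)
  obtain ⟨β, b, e2⟩ := up_of_comm y.detB (((Γ.acts₂ y).comm_iff Γ.two.inj₂).1 h2)
  have h := y.det
  rw [e1, e2, det_smul, det_smul, (up a).2, (up b).2, Fintype.card_fin] at h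
  refine ⟨a, b, _, ⟨α, β, by linear_combination h, rfl⟩, ?_⟩
  rw [pr_eq, ← map_mul]
  exact congrArg Γ.ψ (LL.ext (by simp [e1, pr, sc]) (by simp [e2, pr, sc]))

theorem form (hk : k ∈ Γ.two.CU) (ht : Commute k Γ.t) : ∃ a b, ∃ z ∈ Γ.Zc,
    k = Γ.ι₁ (up a) * Γ.ι₂ (up b) * z ∨ k = Γ.ι₁ (up a) * Γ.ι₂ (up b) * z * Γ.n := by
  obtain ⟨y, rfl | rfl⟩ := Γ.comm_iff.1 ht
  · obtain ⟨a, b, z, h1, h2⟩ := form_inn hk
    exact ⟨a, b, z, h1, Or.inl h2⟩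
  · obtain ⟨a, b, z, h1, h2⟩ := form_inn ((mul_mem_cancel_right n_CU).1 hk)
    exact ⟨a, b, z, h1, Or.inr (by rw [h2])⟩

theorem two_mem {a b : F} (hz : z ∈ Γ.Zc) {m : ℕ} (h : (Γ.ι₁ (up a) * Γ.ι₂ (up b) * z) ^ 2 ^ m = 1) :
    Γ.ι₁ (up a) * Γ.ι₂ (up b) * z ∈ Γ.Zc := by
  have e : (Γ.ι₁ (up a) * Γ.ι₂ (up b) * z) ^ Fintype.card F = z ^ Fintype.card F := by
    rw [(Zc_uu hz _ _).mul_pow, (Γ.two.comm _ _).mul_pow, ← map_pow, ← map_pow, up_pow_card, up_pow_card]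
    simp
  refine zpowers_le.2 (e ▸ pow_mem hz _) (mem_zpowers_pow_iff.2 ?_)
  exact ((Nat.coprime_two_right.2 Γ.odd).pow_right m).coprime_dvd_right (orderOf_dvd_of_pow_eq_one h)

theorem two_sub (R : Subgroup G) (hR : IsPGroup 2 R) (hle : R ≤ Γ.two.CU ⊓ centralizer {Γ.t})
    (hn : Γ.n ∈ R) (x : G) (hx : x ∈ R) : x ∈ Γ.Zc ∨ Γ.n * x ∈ Γ.Zc := by
  obtain ⟨a, b, z, hz, rfl | rfl⟩ := form (hle hx).1 (mem_centralizer_singleton_iff.1 (hle hx).2)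
  · obtain ⟨m, hm⟩ := isPGroup_iff_forall_mem.1 hR _ hx
    exact Or.inl (two_mem hz hm)
  · obtain ⟨m, hm⟩ := isPGroup_iff_forall_mem.1 hR _ ((mul_mem_cancel_right hn).1 hx)
    have := two_mem hz hm
    right
    rw [← mul_assoc, ← Γ.n_inv]
    nth_rewrite 1 [Γ.n_inv]
    rw [Zc_n this]
    exact inv_mem this

theorem n_al (r : F) : Γ.n * Γ.two.al r * Γ.n⁻¹ = (Γ.two.al r)⁻¹ := by
  rw [← Two.al_neg, Two.al, Two.al, neg_neg, ← conj_mul, Γ.n_ι₁, Γ.n_ι₂, (Γ.two.comm _ _).eq]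

theorem norm_CU (hg : ∀ a, ∃ b, g * Γ.two.dia (up a) * g⁻¹ = Γ.two.dia (up b)) :
    g ∈ normalizer (Γ.two.CU : Set G) :=
  mem_normalizer_of_cj_le (cj_le_iff_forall.2 fun _ => Two.Sw.conj_mem_CU' hg)

theorem dia_mem_O (r : F) : Γ.two.dia (up r) ∈ PComp.opOf 2 Γ.two.CU :=
  PComp.le_opOf (N := zpowers (Γ.two.dia (up r))) (zpowers_le.2 (Two.uu_mem_CU r r))
    (fun k hk => centralizer_le_normalizer _ (by
      rw [zpowers_eq_closure, centralizer_closure]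
      exact mem_centralizer_singleton_iff.2 (Two.mem_CU.1 hk r)))
    (by rw [Nat.card_zpowers]; exact Nat.coprime_two_right.2 (odd_up Γ.odd _ r)) (mem_zpowers _)

theorem hC : ∃ I : Finset G, I.card ≤ 2 * Fintype.card F * (Fintype.card F - 1) ∧
    ∀ k ∈ Γ.two.CU, Commute k Γ.t → ∃ u ∈ PComp.opOf 2 Γ.two.CU, ∃ i ∈ I, k = u * i := by
  classical
  have := Fintype.ofFinite Γ.Zc
  refine ⟨Finset.univ.image fun p : Bool × F × Γ.Zc =>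
    Γ.two.al p.2.1 * p.2.2 * (if p.1 then Γ.n else 1), Finset.card_image_le.trans ?_, fun k hk ht => ?_⟩
  · have := Nat.le_of_dvd (Nat.sub_pos_of_lt Fintype.one_lt_card) Γ.Zc_dvd
    rw [Finset.card_univ, Fintype.card_prod, Fintype.card_prod, Fintype.card_bool, mul_assoc,
      ← Nat.card_eq_fintype_card (α := Γ.Zc)]
    gcongr
  · obtain ⟨a, b, z, hz, rfl | rfl⟩ := form hk ht
    · exact ⟨_, dia_mem_O _, _, Finset.mem_image_of_mem _ (Finset.mem_univ (false, _, ⟨z, hz⟩)),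
        by rw [Two.uu_eq]; simp [mul_assoc]; rfl⟩
    · exact ⟨_, dia_mem_O _, _, Finset.mem_image_of_mem _ (Finset.mem_univ (true, _, ⟨z, hz⟩)),
        by rw [Two.uu_eq]; simp [mul_assoc]; rfl⟩

/-- A swap that normalises `D` and `U`. -/
structure Sp (Γ : Dat G F) (m g : G) : Prop where
  gt : g * Γ.t * g⁻¹ = m
  gm : g * m * g⁻¹ = Γ.t
  gD : ∀ s, ∃ s', g * Γ.two.dia s * g⁻¹ = Γ.two.dia s'
  gU : ∀ a, ∃ b, g * Γ.two.dia (up a) * g⁻¹ = Γ.two.dia (up b)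

theorem exists_sp (hn : IsConj Γ.t Γ.n) : ∃ g, Γ.Sp Γ.n g := by
  obtain ⟨g, h1, h2, h3⟩ := Γ.swap_n hn
  obtain ⟨s, hs⟩ := SwA.exists_norm_up Γ.two.dia h3
  refine ⟨_, ?_, ?_, Two.conj_trans (fun a => ⟨s * a * s⁻¹, by simp⟩) h3, hs⟩
  · rw [SK.conj_assoc', h1, ← (Γ.n_dia s).eq, mul_inv_cancel_right]
  · rw [SK.conj_assoc', h2, (Γ.dia_t s).eq, mul_inv_cancel_right]

theorem exists_sp' (h : IsSquare (-1 : F)) (hn : IsConj Γ.t Γ.n) : ∃ g, Γ.Sp (Γ.n * Γ.t) g := by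
  have h1 : Γ.ψ (i1 (-1)) * Γ.n * (Γ.ψ (i1 (-1)) * Γ.n) = 1 := by
    rw [← t_eq, Γ.n_t.symm.symm.mul_mul_mul_comm, tt, n2, one_mul]
  have e1 : (Γ.tw _ h1).n = Γ.n * Γ.t := Γ.n_t.eq.symm
  have e2 : (Γ.tw _ h1).two.dia = Γ.two.dia := MonoidHom.ext fun s => by
    rw [dia_eq, dia_eq, tw_ψ]
    exact congrArg Γ.ψ (LL.ext (by
      have := (i1 (-1 : SL(2, F))).A_mul_inv
      simp only [cj1_A]
      rw [show (i1 (-1 : SL(2, F))).A * s.1 = s.1 * (i1 (-1 : SL(2, F))).A by simp, mul_assoc, this,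
        mul_one]) rfl)
  obtain ⟨y, hy⟩ := Γ.conj_nt h
  obtain ⟨g, h2, h3, h4, h5⟩ := exists_sp (Γ := Γ.tw _ h1)
    (by rw [tw_t, e1]; exact hn.trans (isConj_iff.2 ⟨_, hy⟩))
  rw [tw_t, e1] at h2 h3
  rw [e2] at h4 h5
  exact ⟨g, h2, h3, h4, h5⟩

theorem dg_up (c : Fˣ) (r : F) :
    Γ.two.dia (dg c) * Γ.two.dia (up r) * (Γ.two.dia (dg c))⁻¹ = Γ.two.dia (up (c * c * r)) := by
  rw [← map_inv, ← map_mul, ← map_mul, dg_conj_up]

theorem exists_rho (h : IsSquare (-1 : F)) (hn : IsConj Γ.t Γ.n) (hp : (Fintype.card F).Prime) :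
    ∃ ρ ∈ Γ.two.CU, (∀ c, Commute ρ (Γ.two.dia (dg c))) ∧ ρ * Γ.t * ρ⁻¹ = Γ.n ∧
      ρ * Γ.n * ρ⁻¹ = Γ.n * Γ.t := by
  obtain ⟨g, hg⟩ := exists_sp hn
  obtain ⟨g', hg'⟩ := exists_sp' h hn
  have e1 : g' * Γ.n * g'⁻¹ = Γ.n := by
    have : g' * Γ.n * g'⁻¹ = g' * (Γ.n * Γ.t) * g'⁻¹ * (g' * Γ.t * g'⁻¹) := by
      rw [conj_mul, mul_assoc Γ.n, tt, mul_one]
    rw [this, hg'.gt, hg'.gm, ← mul_assoc, ← Γ.n_t.eq, mul_assoc, tt, mul_one]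
  have a1 : g * g' * Γ.t * (g * g')⁻¹ = Γ.n * Γ.t := by
    rw [SK.conj_assoc', hg'.gt, ← conj_mul, hg.gt, hg.gm, Γ.n_t.eq]
  have a2 : g * g' * Γ.n * (g * g')⁻¹ = Γ.t := by rw [SK.conj_assoc', e1, hg.gm]
  have a3 : g * g' * (Γ.n * Γ.t) * (g * g')⁻¹ = Γ.n := by rw [SK.conj_assoc', hg'.gm, hg.gt]
  have aD := Two.conj_trans hg.gD hg'.gD
  obtain ⟨c, hc⟩ := Two.conj_trans (f := fun a => Γ.two.dia (up a)) hg.gU hg'.gU 1
  generalize g * g' = σ at a1 a2 a3 aD hc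
  have c0 : c ≠ 0 := by
    rintro rfl
    rw [up_zero, map_one, conj_eq_one_iff] at hc
    exact Γ.dia_up_ne hc
  have aU : ∀ r, σ * Γ.two.dia (up r) * σ⁻¹ = Γ.two.dia (up (c * r)) := fun r => by
    obtain ⟨j, rfl⟩ := (ZMod.ringEquivOfPrime F hp rfl).surjective r
    have : NeZero (Fintype.card F) := ⟨hp.ne_zero⟩
    rw [← ZMod.natCast_zmod_val j, map_natCast, mul_comm c, ← up_pow, map_pow, ← hc, conj_pow, ← map_pow,
      up_pow, mul_one]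
  obtain ⟨b, hb⟩ := Two.exists_up_of_cent_dia (Γ := Γ.two) (k := (Γ.two.dia (dg (Units.mk0 c c0)))⁻¹ * (σ * σ))
    (Two.conj_trans (fun a => ⟨(dg (Units.mk0 c c0))⁻¹ * a * dg (Units.mk0 c c0), by simp⟩)
      (Two.conj_trans aD aD))
    fun r => mul_inv_eq_iff_eq_mul.1 (by
      rw [SK.conj_assoc', SK.conj_assoc', aU, aU, ← mul_assoc c]
      refine .trans (congrArg (fun y => _ * y * _) (dg_up (Units.mk0 c c0) r).symm) ?_
      group)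
  have k : ∀ {x y : G}, (∀ s, Commute x (Γ.two.dia s)) → (∀ s, Commute y (Γ.two.dia s)) →
      σ * (σ * x * σ⁻¹) * σ⁻¹ = y → (Γ.two.dia (dg (Units.mk0 c c0)))⁻¹ * (σ * σ) * (Γ.two.dia (up b))⁻¹ * x *
        ((Γ.two.dia (dg (Units.mk0 c c0)))⁻¹ * (σ * σ) * (Γ.two.dia (up b))⁻¹)⁻¹ = y := fun h1 h2 e => by
    rw [SK.conj_assoc', ← (h1 _).inv_right.eq, mul_inv_cancel_right, SK.conj_assoc', SK.conj_assoc', e,
      ← (h2 _).inv_right.eq, mul_inv_cancel_right]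
  exact ⟨_, Two.mem_CU.2 fun _ => hb _, fun _ => hb _,
    k (fun s => (Γ.dia_t s).symm) Γ.n_dia (by rw [a1, a3]),
    k Γ.n_dia (fun s => (Γ.n_dia s).mul_left (Γ.dia_t s).symm) (by rw [a2, a1])⟩

theorem al_mem_O (h3 : Fintype.card F ≠ 3) (hn : IsConj Γ.t Γ.n) (r : F) :
    Γ.two.al r ∈ PComp.opOf 2 Γ.two.CU := by
  obtain ⟨g, hg⟩ := exists_sp hn
  have t2 := Γ.two.orderOf_j
  have n2 := TwoInv.orderOf_eq_two_of Γ.n2 Γ.n_ne
  have key : GW.D2 Γ.two.CU → Γ.two.al r ∈ PComp.opOf 2 Γ.two.CU := fun hD =>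
    dk Γ.odd h3 hD Γ.two.al (Γ.two.dia.comp dgHom) t_CU n_CU t2 n2 Γ.n_t.symm Γ.n_ne_t
      (fun _ => Two.uu_mem_CU _ _) Two.al_add (fun r => (Two.al_j r).symm) n_al
      (fun c => norm_CU fun a => ⟨_, dg_up c a⟩) (fun c => Γ.dia_t _) (fun c => (Γ.n_dia _).symm)
      (fun c r => by
        change Γ.two.dia (dg c) * _ * (Γ.two.dia (dg c))⁻¹ = _
        rw [Two.al, ← conj_mul, Two.dia_conj₁, Two.dia_conj₂, dg_conj_up, dg_conj_up, mul_neg, Two.al])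
      (norm_CU hg.gU) hg.gt hC (fun h hp => exists_rho h hn hp) (fun h => Γ.not_nt h hn) r
  rcases d2_or_b4 t_CU n_CU t2 n2 Γ.n_t.symm Γ.n_ne_t Γ.Zc_cyc (fun _ => Zc_n) (fun _ => Zc_sq) two_sub
    with h | h
  · exact key h
  refine (d2_or_iso t_CU n_CU t2 n2 Γ.n_t.symm Γ.n_ne_t h (hg.gt ▸ h.conj (norm_CU hg.gU)) ?_).elim key
    fun hi => ?_
  · by_cases h1 : IsSquare (-1 : F)
    · obtain ⟨g', hg'⟩ := exists_sp' h1 hn
      exact Or.inl (hg'.gt ▸ h.conj (norm_CU hg'.gU))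
    · exact Or.inr ⟨Γ.not_nt h1 hn, hn⟩
  obtain ⟨O, o1, o2, o3, o4⟩ := zstar_sub Γ.two.CU (mul_mem n_CU t_CU)
    (by rw [Γ.n_t.symm.mul_mul_mul_comm, tt, Γ.n2, one_mul]) hi
  have := o4 (Γ.two.al (-r / 2)) (Two.uu_mem_CU _ _)
  rw [SK.conj_assoc', ← (Two.al_j _).eq, mul_inv_cancel_right, n_al, ← Two.al_neg, ← Two.al_add,
    show -(-r / 2) + -(-r / 2) = r by have := Γ.two_ne; field_simp; ring] at this
  exact PComp.le_opOf o1 (le_normalizer_of_cj_le fun c hc => cj_le_iff_forall.2 (o3 c hc))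
    (Nat.coprime_two_right.2 o2) this

variable (Γ) in
/-- The product of the two root groups. -/
def PU : Subgroup G where
  carrier := {g | ∃ a b, g = Γ.ι₁ (up a) * Γ.ι₂ (up b)}
  one_mem' := ⟨0, 0, by simp [up_zero]⟩
  mul_mem' := by
    rintro _ _ ⟨a, b, rfl⟩ ⟨c, d, rfl⟩
    exact ⟨_, _, Two.uu_mul a b c d⟩
  inv_mem' := by
    rintro _ ⟨a, b, rfl⟩
    exact ⟨-a, -b, inv_eq_of_mul_eq_one_right (by rw [Two.uu_mul]; simp [up_zero])⟩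

end Dat

open Dat in
/-- BLOCK KSig.  `K = Γ.two.CU = C(U)`, `U = dia (up _)`, `O = opOf 2 K`.  `P = U₁ U₂ ≤ O` (`al_mem_O`);
if `Sg` fails, `N_O(P) ≤ C(t)`, `P` is Sylow in `O`, and `g P g⁻¹ ≤ C(t)`. -/
theorem Dat.sg_of_n {G F : Type*} [Group G] [Finite G] [Field F] [Fintype F] (Γ : Dat G F)
    (h3 : Fintype.card F ≠ 3) (hn : IsConj Γ.t Γ.n) : Γ.Sg := by
  by_contra hs
  obtain ⟨p, hp⟩ := CharP.exists F
  have : Fact p.Prime := ⟨CharP.char_is_prime F p⟩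
  obtain ⟨g, hg⟩ := exists_sp hn
  have oO := GW.odd_opOf Γ.two.CU
  have tO := PComp.le_normalizer_opOf 2 _ (t_CU (Γ := Γ))
  have gO := PComp.normalizer_le_normalizer_opOf 2 _ (norm_CU hg.gU)
  have OK := PComp.opOf_le 2 Γ.two.CU
  have PO : Γ.PU ≤ PComp.opOf 2 Γ.two.CU := by
    rintro _ ⟨a, b, rfl⟩
    rw [Two.uu_eq]
    exact mul_mem (dia_mem_O _) (al_mem_O h3 hn _)
  generalize PComp.opOf 2 Γ.two.CU = O at oO tO gO OK PO
  have Pt : ∀ u ∈ Γ.PU, Commute u Γ.t := by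
    rintro _ ⟨a, b, rfl⟩
    exact (Γ.two.comm₁ _).mul_left (Γ.two.comm₂ _)
  have tP : Γ.t ∈ normalizer (Γ.PU : Set G) := centralizer_le_normalizer _ Pt
  have k1 : ∀ x ∈ O ⊓ normalizer (Γ.PU : Set G), Γ.t * x * Γ.t⁻¹ = x⁻¹ → x = 1 := fun x hx e => by
    by_contra h1
    refine hs ⟨x, h1, odd_of_mem oO hx.1, e, fun r => SK.comm_of_odd (odd_of_mem oO hx.1) ?_⟩
    have u1 : Γ.ι₂ (up r) ∈ Γ.PU := ⟨0, r, by simp [up_zero]⟩
    have e1 := mul_inv_eq_iff_eq_mul.2 (Pt _ ((mem_normalizer_iff.1 hx.2 _).1 u1)).symm.eq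
    rw [← conj_mul, ← conj_mul, ← conj_inv, e, mul_inv_eq_iff_eq_mul.2 (Pt _ u1).symm.eq] at e1
    change x * x * _ = _ * (x * x)
    calc x * x * Γ.ι₂ (up r) = x * (x * Γ.ι₂ (up r) * x⁻¹) * x := by group
      _ = _ := by rw [← e1]; group
  have k2 : O ⊓ normalizer (Γ.PU : Set G) ≤ O ⊓ centralizer {Γ.t} := fun x hx => by
    obtain ⟨c, -, i, hi, c1, c2, rfl⟩ := exists_fix_mul_inv' (K := O ⊓ normalizer (Γ.PU : Set G))
      (oO.of_dvd_nat (card_dvd_of_le inf_le_left)) Γ.tt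
      (fun y hy => ⟨(mem_normalizer_iff.1 tO y).1 hy.1, Subgroup.mul_mem _ (Subgroup.mul_mem _ tP hy.2) (Subgroup.inv_mem _ tP)⟩) hx
    rw [k1 i hi c2, mul_one] at hx ⊢
    exact ⟨hx.1, mem_centralizer_singleton_iff.2 c1.symm⟩
  have hP : IsPGroup p Γ.PU := isPGroup_iff_forall_mem.2 (by
    rintro _ ⟨a, b, rfl⟩
    exact Two.uu_ppow p a b)
  have sy : SylIn p Γ.PU O := SylIn.of_normalizer_le (K := O ⊓ centralizer {Γ.t})
    ⟨le_inf PO fun u hu => mem_centralizer_singleton_iff.2 (Pt u hu), hP, fun Q hQ h1 h2 =>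
      le_antisymm (fun x hx => by
        obtain ⟨y, rfl⟩ := Γ.inn_of_odd (mem_centralizer_singleton_iff.1 (h2 hx).2)
          (odd_of_mem oO (h2 hx).1)
        obtain ⟨a, b, z, hz, e⟩ := form_inn (OK (h2 hx).1)
        have zQ : z ∈ Q := (mul_mem_cancel_left (h1 ⟨a, b, rfl⟩)).1 (e ▸ hx)
        obtain ⟨m, hm⟩ := isPGroup_iff_forall_mem.1 hQ z zQ
        obtain ⟨j, -, hj⟩ := FiniteField.card F p
        have c : Nat.Coprime (p ^ m) (Fintype.card F - 1) := Nat.Coprime.pow_left m (by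
          have h5 : p ∣ Fintype.card F := hj ▸ dvd_pow_self p j.ne_zero
          have h6 : Nat.Coprime (Fintype.card F) (Fintype.card F - 1) := by
            rw [← Nat.sub_add_cancel (Fintype.card_pos (α := F))]; simp
          exact h6.coprime_dvd_left h5)
        have z1 : z = 1 := orderOf_eq_one_iff.1 (Nat.eq_one_of_dvd_coprimes c
          (orderOf_dvd_of_pow_eq_one hm) ((Subgroup.orderOf_dvd_natCard _ hz).trans Γ.Zc_dvd))
        exact ⟨a, b, by rw [e, z1, mul_one]⟩) h1⟩ PO k2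
  obtain ⟨x, xO, hx⟩ := sy.exists_conj (sy.cj_of_mem_normalizer gO)
  have nP : Γ.n ∈ normalizer (Γ.PU : Set G) := mem_normalizer_of_cj_le (cj_le_iff_forall.2 (by
    rintro _ ⟨a, b, rfl⟩
    exact ⟨b, a, by rw [← conj_mul, n_ι₁, n_ι₂, (Γ.two.comm _ _).eq]⟩))
  have k3 : x⁻¹ * (Γ.t * x * Γ.t⁻¹) = 1 := by
    refine k1 _ ⟨O.mul_mem (O.inv_mem xO) ((mem_normalizer_iff.1 tO x).1 xO), mem_normalizer_iff_cj.2 ?_⟩ ?_
    · rw [cj_mul, cj_mul, cj_mul, cj_eq_of_mem_normalizer (inv_mem tP), hx, ← cj_mul Γ.t,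
        ← mul_inv_eq_iff_eq_mul.1 hg.gm, cj_mul, cj_eq_of_mem_normalizer nP, ← hx, inv_cj_cj]
    · simp only [_root_.mul_inv_rev, inv_inv, t_inv, mul_assoc, tt, mul_one]
  have a1 : g * Γ.two.al 1 * g⁻¹ ∈ x •ᶜ Γ.PU := hx ▸ conj_mem_cj ⟨_, _, rfl⟩
  obtain ⟨u, hu, e⟩ := mem_cj'.1 a1
  have xt : Commute x Γ.t := (mul_inv_eq_iff_eq_mul.1 (inv_mul_eq_one.1 k3).symm).symm
  have c : Commute (g * Γ.two.al 1 * g⁻¹) (g * Γ.n * g⁻¹) := by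
    rw [← e, hg.gm]
    exact (xt.mul_left (Pt u hu)).mul_left xt.inv_left
  have c' : Commute (Γ.two.al 1) Γ.n := (MulAut.conj g).injective (by simpa using c.eq)
  have := n_al (Γ := Γ) 1
  rw [← c'.eq, mul_inv_cancel_right, ← Two.al_neg] at this
  exact Γ.two_ne (by linear_combination Two.al_inj this)

end CL.L4
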