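import Cfsg.Agent.INV.L4.Defs

/-!
Groups with an involution whose centraliser is that of `diag (-1, -1, 1, 1)` in `PSL₄(q)`:
matrix lemmas and elementary computations in the centraliser.
-/

set_option autoImplicit false

namespace CL.L4

open Matrix Subgroup Cfsg CL.ABG CL.R2 CL.L4.LL CL.GL2
open scoped MatrixGroups

section Mat

variable {F : Type*} [Field F] {a u : Matrix (Fin 2) (Fin 2) F}

theorem scal_or_trace {c : F} (h : a * a = c • 1) : (∃ α : F, a = α • 1) ∨ a.trace = 0 := by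
  by_cases ht : a.trace = 0
  · exact Or.inr ht
  · refine Or.inl ⟨a.trace⁻¹ * (c + a.det), ?_⟩
    rw [sq_eq, sub_eq_iff_eq_add, ← add_smul] at h
    rw [mul_smul, ← h, smul_smul, inv_mul_cancel₀ ht, one_smul]

theorem det_of_trace {c : F} (h : a * a = c • 1) (ht : a.trace = 0) : a.det = -c := by
  rw [sq_of_trace ht] at h
  rw [← Dat.smul_one_inj h, neg_neg]

theorem sq_of_scal {c α : F} (h : (α • 1 : Matrix (Fin 2) (Fin 2) F) * α • 1 = c • 1) : α * α = c :=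
  Dat.smul_one_inj (by simpa [smul_smul] using h)

theorem det_scal (α : F) : (α • 1 : Matrix (Fin 2) (Fin 2) F).det = α * α := by
  simp [pow_two]

theorem unip_of_pow {p m : ℕ} [Fact p.Prime] [CharP F p] (h : a ^ p ^ m = 1) :
    a.trace = 2 ∧ a.det = 1 := by
  have h1 : (a - 1) ^ p ^ m = 0 := by
    rw [sub_pow_char_pow_of_commute _ _ (Commute.one_right _), one_pow, h, sub_self]
  have hp : p ^ m ≠ 0 := pow_ne_zero _ (Fact.out : p.Prime).ne_zero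
  have h2 : (a - 1).det = 0 := (pow_eq_zero_iff hp).1 (by rw [← det_pow, h1, det_zero])
  have h3 : (a - 1).trace = 0 := (isNilpotent_trace_of_isNilpotent ⟨_, h1⟩).eq_zero
  rw [det_fin_two] at h2 ⊢
  rw [trace_fin_two] at h3 ⊢
  simp only [Matrix.sub_apply, one_apply_eq, ne_eq, zero_ne_one, not_false_eq_true, one_apply_ne,
    one_ne_zero, sub_zero] at h2 h3
  exact ⟨by linear_combination h3, by linear_combination h2 + h3⟩

theorem pow_of_trace (p : ℕ) [CharP F p] {s : SL(2, F)} (h : s.1.trace = 2) : s ^ p = 1 := by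
  obtain ⟨d, b, e⟩ := exists_conj_up_of_trace (s := s) (by rwa [trace_fin_two] at h)
  have := up_pow_char (p := p) b
  rwa [← e, conj_pow, conj_eq_one_iff] at this

theorem coef_eq_one (h2 : (2 : F) ≠ 0) (ha : a.det ≠ 0) {v : Matrix (Fin 2) (Fin 2) F} (hu : u.trace = 2)
    (hv : v.trace = 2) {c : F} (h : a * u = c • (v * a)) : c = 1 := by
  have := trace_of_semiconj ha (m' := c • v) (by rw [h, smul_mul_assoc])
  rw [trace_smul, hu, hv, smul_eq_mul] at this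
  exact mul_right_cancel₀ h2 (this.trans (one_mul _).symm)

theorem eq_one_of_comm (h2 : (2 : F) ≠ 0) (ha : a.det ≠ 0) (ht : a.trace = 0) (hu : u.trace = 2)
    (hd : u.det = 1) (h : u * a = a * u) : u = 1 := by
  obtain ⟨s, t, rfl⟩ := (commute_iff (not_isScal_of_trace h2 ht ha) u).1 h
  rw [trace_add, trace_smul, trace_smul, ht, trace_one, Fintype.card_fin, smul_zero, add_zero,
    smul_eq_mul] at hu
  obtain rfl : s = 1 := mul_right_cancel₀ h2 (by simpa using hu)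
  have : t * t * a.det = 0 := by
    rw [det_fin_two] at hd ⊢
    rw [trace_fin_two] at ht
    simp only [Matrix.add_apply, Matrix.smul_apply, one_apply_eq, ne_eq, zero_ne_one, not_false_eq_true,
      one_apply_ne, one_ne_zero, smul_eq_mul] at hd
    linear_combination hd - t * ht
  rw [mul_self_eq_zero.1 ((mul_eq_zero.1 this).resolve_right ha), zero_smul, add_zero, one_smul]

theorem scal_of_comm {s s' : Matrix (Fin 2) (Fin 2) F} (h : s * a = a * s) (h' : s' * a = a * s')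
    (hn : s * s' ≠ s' * s) : ∃ α : F, a = α • 1 := by
  rw [← isScal_iff]
  by_contra e
  obtain ⟨x, y, rfl⟩ := (commute_iff e s).1 h
  exact hn (by simp [add_mul, mul_add, h'])

theorem trace_of_sq_neg (h2 : (2 : F) ≠ 0) {j : SL(2, F)} (h : j * j = -1) : j.1.trace = 0 := by
  have e : j.1 * j.1 = (-1 : F) • 1 := by simpa using congrArg Subtype.val h
  refine (scal_or_trace e).resolve_left ?_
  rintro ⟨α, e'⟩
  have h1 := j.2
  rw [e'] at e
  rw [e', det_scal, sq_of_scal e] at h1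
  exact h2 (by linear_combination -h1)

theorem sq_eq_one_SL (h2 : (2 : F) ≠ 0) {j : SL(2, F)} (h : j * j = 1) : j = 1 ∨ j = -1 := by
  have e : j.1 * j.1 = (1 : F) • 1 := by simpa using congrArg Subtype.val h
  rcases scal_or_trace e with ⟨α, e'⟩ | e'
  · rw [e'] at e
    exact (mul_self_eq_one_iff.1 (sq_of_scal e)).imp (fun k => Subtype.ext (by simpa [k] using e'))
      fun k => Subtype.ext (by simpa [k] using e')
  · have := det_of_trace e e'
    rw [j.2] at this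
    exact absurd (by linear_combination this) h2

theorem exists_diag (h2 : (2 : F) ≠ 0) (ht : a.trace = 0) (hd : a.det = -1) :
    ∃ x : Matrix (Fin 2) (Fin 2) F, x.det ≠ 0 ∧ x * !![1, 0; 0, -1] = a * x := by
  have t1 : (!![1, 0; 0, -1] : Matrix (Fin 2) (Fin 2) F).trace = 0 := by simp [trace_fin_two]
  have d1 : (!![1, 0; 0, -1] : Matrix (Fin 2) (Fin 2) F).det = -1 := by simp [det_fin_two]
  exact exists_semiconj (not_isScal_of_trace h2 t1 (by simp [d1]))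
    (not_isScal_of_trace h2 ht (by simp [hd])) (ht.trans t1.symm) (hd.trans d1.symm)

theorem trace_up (r : F) : (up r).1.trace = 2 := by simp [coe_up, trace_fin_two]; norm_num
theorem trace_lo (r : F) : (lo r).1.trace = 2 := by simp [coe_lo, trace_fin_two]; norm_num

end Mat

/-- a pair of elements of `SL₂` -/
def pr {F : Type*} [Field F] (u v : SL(2, F)) : LL F := ⟨u.1, v.1, by simp⟩

@[simp] theorem pr_A {F : Type*} [Field F] (u v : SL(2, F)) : (pr u v).A = u.1 := rfl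
@[simp] theorem pr_B {F : Type*} [Field F] (u v : SL(2, F)) : (pr u v).B = v.1 := rfl

namespace Dat

variable {G F : Type*} [Group G] [Field F] [Fintype F] (Γ : Dat G F)

theorem pr_eq (u v : SL(2, F)) : Γ.ι₁ u * Γ.ι₂ v = Γ.ψ (pr u v) := by
  rw [ι₁_eq, ι₂_eq, ← map_mul]; congr 1; exact LL.ext (by simp) (by simp)

theorem comm_inn {x y : LL F} : Commute (Γ.ψ x) (Γ.ψ y) ↔
    ∃ c : F, x.A * y.A = c • (y.A * x.A) ∧ x.B * y.B = c • (y.B * x.B) := by
  rw [commute_iff_eq, ← map_mul, ← map_mul, eq_iff]; rfl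

theorem comm_out {x y : LL F} : Commute (Γ.ψ x * Γ.n) (Γ.ψ y) ↔
    ∃ c : F, x.A * y.B = c • (y.A * x.A) ∧ x.B * y.A = c • (y.B * x.B) := by
  rw [commute_iff_eq, mul_assoc, n_mul, ← mul_assoc, ← mul_assoc, mul_left_inj, ← map_mul, ← map_mul,
    eq_iff]; rfl

theorem comm_n {x : LL F} : Commute (Γ.ψ x) Γ.n ↔ ∃ c : F, x.A = c • x.B ∧ x.B = c • x.A := by
  rw [commute_iff_eq, n_mul, mul_left_inj, eq_iff]; rfl

theorem sq_inn {x : LL F} : Γ.ψ x * Γ.ψ x = 1 ↔ ∃ c : F, x.A * x.A = c • 1 ∧ x.B * x.B = c • 1 := by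
  rw [← map_mul, Γ.ker]; rfl

theorem inn_of_odd {x : G} (hx : Commute x Γ.t) (ho : Odd (orderOf x)) : ∃ y, x = Γ.ψ y := by
  obtain ⟨k, hk⟩ := eq_pow_sq_of_odd ho
  obtain ⟨y, e | e⟩ := Γ.comm_iff.1 hx
  · exact ⟨y, e⟩
  · exact ⟨_, by rw [hk, e, mul_out, ← map_pow]⟩

theorem ppow' (p : ℕ) [Fact p.Prime] [CharP F p] {x : G} (hx : Commute x Γ.t) (h : ∃ m, x ^ p ^ m = 1) :
    ∃ u v : SL(2, F), u.1.trace = 2 ∧ v.1.trace = 2 ∧ x = Γ.ψ (pr u v) := by
  obtain ⟨m, h⟩ := h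
  obtain ⟨y, rfl⟩ := Γ.inn_of_odd hx (odd_of_ppow (odd_char Γ.two_ne p) h)
  rw [← map_pow, Γ.ker] at h
  obtain ⟨c, h1, h2⟩ := h
  obtain ⟨e, rfl⟩ := (iterateFrobeniusEquiv F p m).surjective c
  rw [iterateFrobeniusEquiv_def] at h1 h2
  rw [pow_A] at h1
  rw [pow_B] at h2
  have he : e ≠ 0 := by
    rintro rfl
    have := congrArg det h1
    rw [zero_pow (pow_ne_zero _ (Fact.out : p.Prime).ne_zero), zero_smul, det_pow, det_zero] at this
    exact pow_ne_zero _ y.detA this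
  have k : ∀ a : Matrix (Fin 2) (Fin 2) F, a ^ p ^ m = e ^ p ^ m • 1 → (e⁻¹ • a) ^ p ^ m = 1 :=
    fun a h => by rw [smul_pow, h, smul_smul, ← mul_pow, inv_mul_cancel₀ he, one_pow, one_smul]
  have k1 := unip_of_pow (k _ h1)
  have k2 := unip_of_pow (k _ h2)
  exact ⟨⟨_, k1.2⟩, ⟨_, k2.2⟩, k1.1, k2.1, Γ.eq_of_smul e (smul_inv_smul₀ he _).symm (smul_inv_smul₀ he _).symm⟩

/-- an inner element with both blocks of trace zero centralises no `p`-element of `C` -/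
theorem no_p (p : ℕ) [Fact p.Prime] [CharP F p] {z : LL F} (hA : z.A.trace = 0) (hB : z.B.trace = 0)
    {x : G} (hx : Commute x Γ.t) (hz : Commute x (Γ.ψ z)) (h : ∃ m, x ^ p ^ m = 1) : x = 1 := by
  obtain ⟨u, v, hu, hv, rfl⟩ := Γ.ppow' p hx h
  obtain ⟨c, h1, h2⟩ := Γ.comm_inn.1 hz.symm
  obtain rfl := coef_eq_one Γ.two_ne z.detA hu hu h1
  rw [one_smul] at h1 h2
  exact (Γ.ker _).2 ⟨1, by simpa using eq_one_of_comm Γ.two_ne z.detA hA hu u.2 h1.symm,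
    by simpa using eq_one_of_comm Γ.two_ne z.detB hB hv v.2 h2.symm⟩

theorem scal_scal {x : LL F} {a b : F} (hA : x.A = a • 1) (hB : x.B = b • 1) (h : a * a = b * b) :
    Γ.ψ x = 1 ∨ Γ.ψ x = Γ.t := by
  rcases mul_self_eq_mul_self_iff.1 h with rfl | rfl
  · exact Or.inl ((Γ.ker _).2 ⟨_, hA, hB⟩)
  · exact Or.inr (Γ.eq_of_smul b (by simp [hA]) (by simp [hB]))

theorem scal₁ {x : LL F} (h2 : Γ.ψ x * Γ.ψ x = 1) {a : F} (hA : x.A = a • 1) :
    (Γ.ψ x = 1 ∨ Γ.ψ x = Γ.t) ∨ a ^ 4 = -1 := by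
  obtain ⟨c, h1, h2⟩ := Γ.sq_inn.1 h2
  rw [hA] at h1
  rcases scal_or_trace h2 with ⟨b, hB⟩ | e
  · rw [hB] at h2
    exact Or.inl (Γ.scal_scal hA hB ((sq_of_scal h1).trans (sq_of_scal h2).symm))
  · have := x.det
    rw [hA, det_scal, det_of_trace h2 e, ← sq_of_scal h1] at this
    exact Or.inr (by linear_combination -this)

theorem scal₂ {x : LL F} (h2 : Γ.ψ x * Γ.ψ x = 1) {a : F} (hB : x.B = a • 1) :
    (Γ.ψ x = 1 ∨ Γ.ψ x = Γ.t) ∨ a ^ 4 = -1 := by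
  refine (Γ.scal₁ (x := sw x) (by rw [← Γ.nsw, conj_mul, h2]; simp) hB).imp_left fun e => ?_
  rw [← Γ.nsw, conj_eq_one_iff, mul_inv_eq_iff_eq_mul, ← Γ.n_t.eq, mul_right_inj] at e
  exact e

theorem comm₁_of_scal {x : LL F} {a : F} (hA : x.A = a • 1) (s : SL(2, F)) : Commute (Γ.ψ x) (Γ.ι₁ s) :=
  Γ.comm_inn.2 ⟨1, by simp [hA], by simp⟩

theorem comm₂_of_scal {x : LL F} {a : F} (hB : x.B = a • 1) (s : SL(2, F)) : Commute (Γ.ψ x) (Γ.ι₂ s) :=
  Γ.comm_inn.2 ⟨1, by simp, by simp [hB]⟩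

theorem conj_d {x : LL F} (hA : x.A.trace = 0) (hB : x.B.trace = 0) (dA : x.A.det = -1) :
    ∃ y, Γ.ψ y * Γ.d * (Γ.ψ y)⁻¹ = Γ.ψ x := by
  have dB : x.B.det = -1 := by have := x.det; rw [dA] at this; linear_combination -this
  obtain ⟨P, p1, p2⟩ := exists_diag Γ.two_ne hA dA
  obtain ⟨Q, q1, q2⟩ := exists_diag Γ.two_ne hB dB
  refine ⟨⟨P * !![(P.det * Q.det)⁻¹, 0; 0, 1], Q, ?_⟩, ?_⟩
  · rw [det_mul, det_fin_two_of]; field_simp; ring
  · rw [mul_inv_eq_iff_eq_mul, d, ← map_mul, ← map_mul]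
    congr 1
    refine LL.ext ?_ q2
    rw [mul_A, mul_A, dgl_A, ← mul_assoc x.A, ← p2, mul_assoc, mul_assoc]
    simp

theorem dia_eq' (s : SL(2, F)) : Γ.two.dia s = Γ.ψ (pr s s) := Γ.pr_eq s s

theorem dia_t (s : SL(2, F)) : Commute (Γ.two.dia s) Γ.t := Two.dia_comm_j s

theorem dia_eq_one {s : SL(2, F)} : Γ.two.dia s = 1 ↔ s = 1 ∨ s = -1 := by
  rw [← map_one Γ.two.dia, Two.dia_eq_iff]

theorem dia_up_ne : Γ.two.dia (up 1) ≠ 1 := fun h =>
  one_ne_zero (Two.dia_up_inj (Γ := Γ.two) (a₁ := 1) (a₂ := 0) (by simpa [up_zero] using h))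

theorem dia_sq {j : SL(2, F)} (h : j * j = -1) : Γ.two.dia j * Γ.two.dia j = 1 := by
  rw [← map_mul, h]; exact Γ.dia_eq_one.2 (Or.inr rfl)

theorem dia_ne_one {j : SL(2, F)} (h : j * j = -1) : Γ.two.dia j ≠ 1 := fun e => by
  rcases Γ.dia_eq_one.1 e with rfl | rfl <;> exact Dk.neg_one_ne_one_SL2 Γ.two_ne (by simpa using h.symm)

theorem dia_ne_t (s : SL(2, F)) : Γ.two.dia s ≠ Γ.t := fun e => by
  obtain ⟨c, h1, h2⟩ := Γ.eq_iff.1 ((Γ.dia_eq' s).symm.trans e)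
  simp only [pr_A, pr_B, i1_A, i1_B] at h1 h2
  have h3 : c • (1 : Matrix (Fin 2) (Fin 2) F) = (-c) • 1 := by simpa using h2.symm.trans h1
  have h4 : c = 0 := (mul_eq_zero.1 (by linear_combination smul_one_inj h3 : 2 * c = 0)).resolve_left Γ.two_ne
  exact s.det_ne_zero (by rw [h2, h4, zero_smul, det_zero])

theorem sq_of_conj {Γ' : Dat G F} {g : G} {s s' : SL(2, F)} (h : s * s = -1)
    (e : g * Γ.two.dia s * g⁻¹ = Γ'.two.dia s') : s' * s' = -1 := by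
  have h1 : Γ'.two.dia (s' * s') = 1 := by rw [map_mul, ← e, conj_mul, Γ.dia_sq h]; simp
  refine (Γ'.dia_eq_one.1 h1).resolve_left fun k => Γ.dia_ne_one h ?_
  rw [← conj_eq_one_iff (a := g), e]
  exact Γ'.dia_eq_one.2 (sq_eq_one_SL Γ.two_ne k)

theorem kap {j : SL(2, F)} (h : j * j = -1) :
    Γ.ι₁ j * Γ.n * (Γ.ι₁ j)⁻¹ = Γ.n * Γ.t * Γ.two.dia j := by
  have e : j⁻¹ = -j := inv_eq_of_mul_eq_one_right (by rw [mul_neg, h, neg_neg])
  have e1 : Γ.ι₁ j * Γ.n = Γ.n * Γ.ι₂ j := (mul_inv_eq_iff_eq_mul.1 (Γ.n_ι₂ j)).symm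
  rw [e1, ← map_inv, e, Two.ι₁_neg, Two.dia_apply, (Γ.two.comm j j).eq, mul_assoc, mul_assoc,
    ← mul_assoc (Γ.ι₂ j), (Γ.two.comm₂ j).eq, mul_assoc]

theorem ι₁_dia (j : SL(2, F)) : Commute (Γ.ι₁ j) (Γ.two.dia j) :=
  (Commute.refl _).mul_right (Γ.two.comm j j)

theorem kap' {j : SL(2, F)} (h : j * j = -1) :
    Γ.ι₁ j * (Γ.n * Γ.t) * (Γ.ι₁ j)⁻¹ = Γ.n * Γ.two.dia j := by
  rw [← conj_mul, Γ.kap h, (Γ.two.comm₁ j).eq, mul_inv_cancel_right, mul_assoc, (Γ.dia_t j).eq,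
    mul_assoc, ← mul_assoc Γ.t, Γ.tt, one_mul]

theorem p_tn (p : ℕ) [Fact p.Prime] [CharP F p] {x : G} (hx : Commute x Γ.t) (hn : Commute x Γ.n)
    (h : ∃ m, x ^ p ^ m = 1) : ∃ s, x = Γ.two.dia s := by
  obtain ⟨u, v, hu, hv, rfl⟩ := Γ.ppow' p hx h
  obtain ⟨c, h1, -⟩ := Γ.comm_n.1 hn
  obtain rfl := coef_eq_one (a := 1) Γ.two_ne (by simp) hu hv (by simpa using h1)
  obtain rfl : u = v := Subtype.ext (by simpa using h1)
  exact ⟨u, (Γ.dia_eq' u).symm⟩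

end Dat

end CL.L4
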