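import Cfsg.Agent.INV.L4.Defs
import Cfsg.Agent.INV.L4.FusA0

set_option autoImplicit false

namespace CL.L4

open Matrix Subgroup Cfsg CL.ABG CL.R2 CL.L4.LL
open scoped MatrixGroups

namespace Md

variable {F : Type*} [Field F]

/-- block matrices -/
def rb : Matrix (Fin 2 ⊕ Fin 2) (Fin 2 ⊕ Fin 2) F ≃ₐ[F] Matrix (Fin 4) (Fin 4) F :=
  reindexAlgEquiv F F finSumFinEquiv

theorem det_rb (m : Matrix (Fin 2 ⊕ Fin 2) (Fin 2 ⊕ Fin 2) F) : (rb m).det = m.det :=
  det_reindexAlgEquiv _ _ _ _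

/-- block diagonal matrices -/
noncomputable def φ : LL F →* SL(4, F) :=
  MonoidHom.mk' (fun x => ⟨rb (fromBlocks x.A 0 0 x.B), by rw [det_rb, det_fromBlocks_zero₂₁, x.det]⟩)
    fun x y => Subtype.ext (by
      change rb _ = rb _ * rb _
      rw [← map_mul, fromBlocks_multiply]; simp)

theorem coe_φ (x : LL F) : (φ x).1 = rb (fromBlocks x.A 0 0 x.B) := rfl

/-- the interchange of the blocks -/
def N : SL(4, F) := ⟨rb (fromBlocks 0 1 1 0), by
  have : (fromBlocks 0 1 1 0 : Matrix (Fin 2 ⊕ Fin 2) (Fin 2 ⊕ Fin 2) F) =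
      fromBlocks 1 1 0 1 * fromBlocks 1 0 (-1) 1 * fromBlocks (-1) 1 0 1 := by
    simp [fromBlocks_multiply]
  rw [det_rb, this, det_mul, det_mul, det_fromBlocks_zero₂₁, det_fromBlocks_zero₁₂, det_fromBlocks_zero₂₁]
  simp [det_neg]⟩

theorem coe_N : (N : SL(4, F)).1 = rb (fromBlocks 0 1 1 0) := rfl

theorem N_sq : (N : SL(4, F)) * N = 1 := Subtype.ext (by
  change rb _ * rb _ = 1
  rw [← map_mul, fromBlocks_multiply]; simp)

theorem N_mul (x : LL F) : N * φ x = φ (sw x) * N := Subtype.ext (by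
  change rb _ * rb _ = rb _ * rb _
  rw [← map_mul, ← map_mul, fromBlocks_multiply, fromBlocks_multiply]; simp)

theorem mk_eq_iff {a b : SL(4, F)} :
    (QuotientGroup.mk a : ProjectiveSpecialLinearGroup (Fin 4) F) = QuotientGroup.mk b ↔
      ∃ c : F, a.1 = c • b.1 := by
  rw [eq_comm, QuotientGroup.eq, Matrix.SpecialLinearGroup.mem_center_iff]
  constructor
  · rintro ⟨c, -, h⟩
    refine ⟨c, ?_⟩
    have : a.1 = b.1 * (b⁻¹ * a).1 := (congrArg Subtype.val (mul_inv_cancel_left b a)).symm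
    rw [this, ← h, scalar_apply, ← smul_one_eq_diagonal, mul_smul_comm, mul_one]
  · rintro ⟨c, h⟩
    have h1 := a.2
    rw [h, det_smul, b.2, mul_one] at h1
    refine ⟨c, h1, ?_⟩
    change _ = b⁻¹.1 * a.1
    rw [h, mul_smul_comm, show b⁻¹.1 * b.1 = 1 from congrArg Subtype.val (inv_mul_cancel b), scalar_apply,
      smul_one_eq_diagonal]

theorem exists_φ {m : SL(4, F)} {a e : Matrix (Fin 2) (Fin 2) F} (h : m.1 = rb (fromBlocks a 0 0 e)) :
    ∃ x, m = φ x :=
  ⟨⟨a, e, by rw [← det_fromBlocks_zero₂₁ a 0, ← det_rb, ← h, m.2]⟩, Subtype.ext h⟩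

/-- the model -/
noncomputable def mdl [Fintype F] (hF : Odd (Fintype.card F)) : Dat (ProjectiveSpecialLinearGroup (Fin 4) F) F where
  ψ := (QuotientGroup.mk' _).comp φ
  n := QuotientGroup.mk N
  odd := hF
  ker x := by
    change QuotientGroup.mk (φ x) = QuotientGroup.mk 1 ↔ _
    rw [mk_eq_iff]
    refine exists_congr fun c => ?_
    change rb _ = c • 1 ↔ _
    rw [← map_one (rb (F := F)), ← map_smul, rb.injective.eq_iff, ← fromBlocks_one, fromBlocks_smul,
      fromBlocks_inj]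
    simp
  n2 := by rw [← QuotientGroup.mk_mul, N_sq, QuotientGroup.mk_one]
  nsw x := mul_inv_eq_iff_eq_mul.2 (congrArg QuotientGroup.mk (N_mul x))
  out x h := by
    obtain ⟨c, h⟩ := mk_eq_iff.1 h
    rw [coe_φ, coe_N, ← map_smul, rb.injective.eq_iff, fromBlocks_smul, fromBlocks_inj] at h
    exact x.detA (by rw [h.1, smul_zero, det_zero])
  cent g hg := by
    have h2 : (2 : F) ≠ 0 := two_ne_zero_of_odd' hF
    obtain ⟨m, rfl⟩ := QuotientGroup.mk_surjective g
    obtain ⟨c, h⟩ := mk_eq_iff.1 (show QuotientGroup.mk (m * φ (i1 (-1))) =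
      QuotientGroup.mk (φ (i1 (-1)) * m) from hg)
    obtain ⟨k, hk⟩ := (rb (F := F)).surjective m.1
    rw [← fromBlocks_toBlocks k] at hk
    generalize k.toBlocks₁₁ = a, k.toBlocks₁₂ = b, k.toBlocks₂₁ = d, k.toBlocks₂₂ = e at hk
    change m.1 * rb _ = c • (rb _ * m.1) at h
    rw [← hk, ← map_mul, ← map_mul, ← map_smul, rb.injective.eq_iff, fromBlocks_multiply,
      fromBlocks_multiply, fromBlocks_smul, fromBlocks_inj] at h
    simp only [i1_A, i1_B, Matrix.SpecialLinearGroup.coe_neg, Matrix.SpecialLinearGroup.coe_one, mul_neg, neg_mul, mul_one,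
      one_mul, mul_zero, zero_mul, add_zero, zero_add, smul_neg, neg_inj] at h
    have z : ∀ {r : F} {y : Matrix (Fin 2) (Fin 2) F}, r ≠ 1 → y = r • y → y = 0 := fun {r y} hr q =>
      (smul_eq_zero.1 (by rw [sub_smul, ← q, one_smul, sub_self] : (r - 1) • y = 0)).resolve_left
        (sub_ne_zero.2 hr)
    by_cases hc : c = 1
    · have hc' : -c ≠ 1 := fun q => h2 (by linear_combination -q - hc)
      obtain rfl := z hc' (h.2.1.trans (neg_smul _ _).symm)
      obtain rfl := z hc' ((neg_eq_iff_eq_neg.1 h.2.2.1).trans (neg_smul _ _).symm)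
      obtain ⟨x, rfl⟩ := exists_φ hk.symm
      exact ⟨x, Or.inl rfl⟩
    · obtain rfl := z hc h.1
      obtain rfl := z hc h.2.2.2
      obtain ⟨x, hx⟩ := exists_φ (m := m * N) (a := b) (e := d) (by
        change m.1 * rb _ = _
        rw [← hk, ← map_mul, fromBlocks_multiply]; simp)
      refine ⟨x, Or.inr (congrArg QuotientGroup.mk ?_ : _ = QuotientGroup.mk (φ x * N))⟩
      rw [← hx, mul_assoc, N_sq, mul_one]

theorem φ_t {d : SL(4, F)} (hd : (d : Matrix (Fin 4) (Fin 4) F) = Matrix.diagonal ![-1, -1, 1, 1]) :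
    φ (i1 (-1)) = d := Subtype.ext (by
  rw [hd, coe_φ, ← rb.apply_symm_apply (diagonal _)]
  congr 1
  ext (i | i) (j | j) <;> fin_cases i <;> fin_cases j <;> simp [rb, diagonal_apply] <;> rfl)

end Md

theorem Dat.eq_of_cent {G F : Type*} [Group G] [Field F] [Fintype F] (Γ : Dat G F) {z : G}
    (h : ∀ g, Commute g Γ.t → Commute z g) : z = 1 ∨ z = Γ.t := by
  have nc : (up (1 : F)).1 * (lo 1).1 ≠ (lo 1).1 * (up 1).1 := by simp [coe_up, coe_lo]
  obtain ⟨x, rfl | rfl⟩ := Γ.comm_iff.1 (h _ (Commute.refl _))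
  · have q : ∀ s : SL(2, F), s.1 * x.A = x.A * s.1 :=
      fun s => ((Γ.acts₁ x).comm_iff Γ.two.inj₁).1 (h _ (Γ.ψ_t _))
    have q' : ∀ s : SL(2, F), s.1 * x.B = x.B * s.1 :=
      fun s => ((Γ.acts₂ x).comm_iff Γ.two.inj₂).1 (h _ (Γ.ψ_t _))
    obtain ⟨a, hA⟩ := scal_of_comm (q _) (q _) nc
    obtain ⟨b, hB⟩ := scal_of_comm (q' _) (q' _) nc
    obtain ⟨c, e1, e2⟩ := Γ.comm_n.1 (h _ Γ.n_t)
    rw [hA, hB, smul_smul] at e1 e2
    exact Γ.scal_scal hA hB (by linear_combination a * smul_one_inj e1 - b * smul_one_inj e2)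
  · obtain ⟨a, k1, -⟩ := Γ.comm_out.1 (h _ (Γ.ψ_t (i1 (up 1))))
    have k2 : (1 : Matrix (Fin 2) (Fin 2) F) = a • (up 1).1 :=
      right_cancel_of_det x.detA (by simpa using k1)
    simp [coe_up, GL2.mat_ext_iff] at k2
    exact absurd (k2.1.trans k2.2.1.symm) one_ne_zero

/-- BLOCK Mod (~150 lines).  `φ : LL F →* SL(4, F)`, `x ↦ reindex finSumFinEquiv (fromBlocks x.A 0 0 x.B)`, `N = fromBlocks 0 1 1 0` (det 1).  `M` commutes with `d` modulo the centre:
`M d = c d M`, `c = ±1` (square), so `M` is block diagonal (`= φ x`) or block antidiagonal (`M N` block diagonal).  `ψ = subtype ∘ e.symm ∘ codRestrict (mk ∘ φ)`, `n = e.symm (mk N)`.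
`t = ψ (i1 (-1))`: `e ⟨t,_⟩` is a central involution of `C(mk d)`; it commutes with `mk φ(i1 (up 1))`, `lo 1`, ... so it is `mk φ ⟨a•1, b•1⟩` (an antidiagonal element moves the first block to the second), commuting with `mk N` gives `b = ±a`. -/
theorem exists_dat {G : Type*} [Group G] {F : Type*} [Field F] [Fintype F] (hF : Odd (Fintype.card F))
    (d : SL(4, F)) (hd : (d : Matrix (Fin 4) (Fin 4) F) = Matrix.diagonal ![-1, -1, 1, 1])
    (t : G) (ht : orderOf t = 2)
    (e : centralizer ({t} : Set G) ≃*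
      centralizer ({(QuotientGroup.mk d : ProjectiveSpecialLinearGroup (Fin 4) F)} :
        Set (ProjectiveSpecialLinearGroup (Fin 4) F))) : ∃ Γ : Dat G F, Γ.t = t := by
  obtain ⟨Γ, h0⟩ : ∃ Γ : Dat (ProjectiveSpecialLinearGroup (Fin 4) F) F, Γ.t = QuotientGroup.mk d :=
    ⟨Md.mdl hF, congrArg QuotientGroup.mk (Md.φ_t hd)⟩
  generalize (QuotientGroup.mk d : ProjectiveSpecialLinearGroup (Fin 4) F) = t₀ at e h0
  subst h0
  let ψ : LL F →* centralizer {Γ.t} :=
    Γ.ψ.codRestrict _ fun x => mem_centralizer_singleton_iff.2 (Γ.ψ_t x)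
  let n : centralizer {Γ.t} := ⟨Γ.n, mem_centralizer_singleton_iff.2 Γ.n_t⟩
  let f : centralizer {Γ.t} →* G := (centralizer {t}).subtype.comp e.symm.toMonoidHom
  have hf : Function.Injective f := (centralizer {t}).subtype_injective.comp e.symm.injective
  have fe : ∀ g : centralizer {t}, f (e g) = g := fun g => congrArg Subtype.val (e.symm_apply_apply g)
  let t' : centralizer {t} := ⟨t, mem_centralizer_singleton_iff.2 rfl⟩
  have h1 : f (ψ (i1 (-1))) = t := by
    rcases Γ.eq_of_cent (z := e t') (fun g hg => by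
      obtain ⟨g', e'⟩ := e.surjective ⟨g, mem_centralizer_singleton_iff.2 hg⟩
      have : Commute t' g' := Subtype.ext (mem_centralizer_singleton_iff.1 g'.2).symm
      have := (this.map e).map (centralizer {Γ.t}).subtype
      rwa [e'] at this) with k | k
    · have : t = 1 := (fe t').symm.trans (by rw [show e t' = 1 from Subtype.ext k, map_one])
      rw [this, orderOf_one] at ht
      omega
    · exact (congrArg f (Subtype.ext k.symm)).trans (fe t')
  refine ⟨⟨f.comp ψ, f n, hF, fun x => ?_, ?_, fun x => ?_, fun x h => ?_, fun g hg => ?_⟩, h1⟩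
  · rw [MonoidHom.comp_apply, map_eq_one_iff _ hf, ← Γ.ker]
    exact Subtype.ext_iff
  · rw [← map_mul, show n * n = 1 from Subtype.ext Γ.n2, map_one]
  · change f n * f (ψ x) * (f n)⁻¹ = f (ψ (sw x))
    rw [← map_inv f, ← map_mul f, ← map_mul f]
    exact congrArg f (Subtype.ext (Γ.nsw x))
  · exact Γ.out x (congrArg Subtype.val (hf h))
  · rw [MonoidHom.comp_apply, h1] at hg
    let g' : centralizer {t} := ⟨g, mem_centralizer_singleton_iff.2 hg⟩
    obtain ⟨x, k | k⟩ := Γ.comm_iff.1 (mem_centralizer_singleton_iff.1 (e g').2)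
    · exact ⟨x, Or.inl ((fe g').symm.trans (congrArg f (Subtype.ext k)))⟩
    · exact ⟨x, Or.inr ((fe g').symm.trans ((congrArg f (Subtype.ext k)).trans (map_mul f (ψ x) n)))⟩

end CL.L4
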