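import Cfsg.Agent.INV.L4.RadB

/-!
The commutator relations in the unipotent radical.
-/

set_option autoImplicit false

namespace CL.L4

open Matrix Subgroup Cfsg CL.ABG CL.R2 CL.L4.LL
open scoped MatrixGroups

theorem aux1 {G : Type*} [Group G] {v m c c' S : G} (e : v * m * v⁻¹ = c * c' * S)
    (e3 : v⁻¹ * m * v = c * c'⁻¹ * S⁻¹) (k1 : Commute v c') (k2 : Commute v S) (k3 : Commute c' S) :
    v * v * m * (v * v)⁻¹ = m * (c' * c') * (S * S) :=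
  calc _ = v * (v * m * v⁻¹) * v⁻¹ := by group
    _ = m * (v * (S * (c' * c') * S) * v⁻¹) := by
      rw [e, show c = v⁻¹ * m * v * S * c' by rw [e3]; group]; group
    _ = _ := by rw [((k2.mul_right (k1.mul_right k1)).mul_right k2).mul_inv_cancel, ← (k3.mul_left k3).eq]; group

theorem aux2 {G : Type*} [Group G] {A B y S e t : G} (h : A * B = y * S) (e1 : Commute e A) (e2 : Commute e y)
    (e3 : e * B * e⁻¹ = B⁻¹) (e4 : e * S * e⁻¹ = S⁻¹) (t1 : t * B * t⁻¹ = B⁻¹) (t2 : Commute t S)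
    (o1 : Odd (orderOf B)) (o2 : Odd (orderOf S)) : A = y := by
  have h1 := congrArg (e * · * e⁻¹) h
  simp only [← conj_mul (b := e), e1.mul_inv_cancel, e2.mul_inv_cancel, e3, e4] at h1
  have h2 : B * B = S * S := by
    calc _ = (A * B⁻¹)⁻¹ * (A * B) := by group
      _ = _ := by rw [h, h1]; group
  have h3 := (t2.mul_right t2).mul_inv_cancel
  rw [← h2, ← conj_mul, t1, ← _root_.mul_inv_rev, inv_eq_iff_mul_eq_one] at h3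
  obtain rfl := eq_one_of_odd_of_two o1 (k := 2) (by rw [← h3, ← sq, ← sq, ← pow_mul]; rfl)
  rwa [R2.eq_one_of_odd_of_sq o2 (by rw [← h2, one_mul]), mul_one, mul_one] at h

theorem aux3 {G : Type*} [Group G] {u z y S t : G} (h : u * z * u⁻¹ = z * y * S) (t1 : Commute t u)
    (t2 : Commute t S) (t3 : t * z * t⁻¹ = z⁻¹) (t4 : t * y * t⁻¹ = y⁻¹) (c : Commute y z) (c' : Commute (z * y) S)
    (o : Odd (orderOf S)) : u * z * u⁻¹ = z * y := by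
  have h1 := congrArg (t * · * t⁻¹) h
  simp only [← conj_mul (b := t), t1.mul_inv_cancel, t1.inv_right.mul_inv_cancel, t2.mul_inv_cancel, t3, t4] at h1
  rw [← _root_.conj_inv, h, c'.mul_inv, c.symm.mul_inv, mul_right_inj, inv_eq_iff_mul_eq_one] at h1
  rwa [R2.eq_one_of_odd_of_sq o h1, mul_one] at h

namespace Dat

variable {G F : Type*} [Group G] [Finite G] [Field F] [Fintype F] {Γ : Dat G F} {M : Subgroup G} {g x m : G}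

/-- A frame `g` conjugating `U₁ U₂` into its centraliser. -/
structure Rd (Γ : Dat G F) (M : Subgroup G) (g : G) : Prop where
  fr : Γ.Fr g
  h3 : Fintype.card F ≠ 3
  oc : Γ.two.OC M
  cp : ∀ s, g * Γ.ι₁ (up s) * g⁻¹ ∈ Γ.CP ∧ g * Γ.ι₂ (up s) * g⁻¹ ∈ Γ.CP

omit [Finite G] in
theorem Fr.neg₁ (h : Γ.Fr g) (r : F) :
    Γ.t * (g * Γ.ι₁ (up r) * g⁻¹) * Γ.t⁻¹ = g * Γ.ι₁ (up (-r)) * g⁻¹ := by
  rw [← e_up₁]; nth_rw 1 2 [← h.ge]; group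

omit [Finite G] in
theorem Fr.neg₂ (h : Γ.Fr g) (r : F) :
    Γ.t * (g * Γ.ι₂ (up r) * g⁻¹) * Γ.t⁻¹ = g * Γ.ι₂ (up (-r)) * g⁻¹ := by
  rw [← e_up₂]; nth_rw 1 2 [← h.ge]; group

namespace Rd

variable (h : Γ.Rd M g)
include h

omit [Finite G] in
theorem y₁_mem (s : F) : g * Γ.ι₁ (up s) * g⁻¹ ∈ M := h.oc.mem _
  (by rw [← MulAut.conj_apply, MulEquiv.orderOf_eq]; exact odd_up Γ.odd _ _) (fun u => ((h.cp s).1 u).2)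
  (by rw [h.fr.neg₁, up_neg, map_inv, _root_.conj_inv])

omit [Finite G] in
theorem y₂_mem (s : F) : g * Γ.ι₂ (up s) * g⁻¹ ∈ M := h.oc.mem _
  (by rw [← MulAut.conj_apply, MulEquiv.orderOf_eq]; exact odd_up Γ.odd _ _) (fun u => ((h.cp s).2 u).2)
  (by rw [h.fr.neg₂, up_neg, map_inv, _root_.conj_inv])

omit [Finite G] in
theorem nrm₁ (s : SL(2, F)) (hx : x ∈ M) : Γ.ι₁ s * x * (Γ.ι₁ s)⁻¹ ∈ M :=
  h.oc.nrm_of_comm (fun _ => Γ.two.comm _ _) hx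

omit [Finite G] in
theorem z_mem (s : F) : Γ.ι₁ nn * g * Γ.ι₁ (up s) * (Γ.ι₁ nn * g)⁻¹ ∈ M :=
  SK.conj_assoc' _ g _ ▸ h.nrm₁ nn (h.y₁_mem s)

theorem mem_CP (hx : x ∈ M) (he : Commute x (Γ.t * Γ.d)) : x ∈ Γ.CP := by
  obtain ⟨u, v, hu, hv, rfl⟩ := Γ.unip' h.h3 h.oc.odd (Γ.td_norm h.oc.nrm) h.fr.gT h.fr.ge hx (h.fr.gt ▸ he)
    (h.oc.inv_of_comm Γ.e_up₂ Γ.e_t hx he)
  have hT := Γ.cm_T (Γ.td_norm h.oc.nrm) h.fr.gT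
  have nt : Γ.t ∉ cm M g := fun k => by
    have := odd_of_mem h.oc.odd k
    rw [MulEquiv.coe_toMonoidHom, MulEquiv.orderOf_eq, Γ.two.orderOf_j] at this
    exact absurd this (by decide)
  obtain ⟨a, rfl⟩ : ∃ a, u = up a := hu.elim id fun ⟨r, e⟩ => ⟨0, by_contra fun k =>
    nt (neg_mem h.y₁_mem ((Γ.roots₁ h.h3 hT hx fun e' => k (by rw [e, e', lo_zero', up_zero])).2 e))⟩
  obtain ⟨b, rfl⟩ : ∃ a, v = up a := hv.elim id fun ⟨r, e⟩ => ⟨0, by_contra fun k => nt (by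
    rw [t, Two.j, ← Γ.two.neg]
    exact neg_mem h.y₂_mem ((Γ.roots₂ h.h3 hT hx fun e' => k (by rw [e, e', lo_zero', up_zero])).2 e))⟩
  rw [← conj_mul]
  exact mul_mem (h.cp a).1 (h.cp b).2

theorem comm_lo (hx : x ∈ M) (hd : Commute x Γ.d) (s : F) : Commute x (Γ.ι₁ (lo s)) := by
  have := (h.mem_CP (h.nrm₁ nn hx) (Γ.n₁_d ▸ hd.conj _) (-s)).1
  rwa [← A2.nn_lo, map_mul, map_mul, map_inv, Commute.conj_iff] at this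

theorem act_up (hm : m ∈ M) (hd : Commute m Γ.d) (a : F) : ∃ ε ∈ M, ∃ s, Commute ε (Γ.t * Γ.d) ∧
    Γ.ι₁ (up a) * m * (Γ.ι₁ (up a))⁻¹ = m * ε * Γ.ι₂ (up s) := by
  obtain ⟨c, -, c', hc', s, e1, e2, e⟩ := h.oc.exists_mul le_rfl Γ.dd Γ.d_t (Γ.td_norm h.oc.nrm _ Γ.d_mem_T)
    (fun _ => h.oc.nrm_j) (h.nrm₁ (up (a / 2)) hm)
  have i1 : Γ.d * c' * Γ.d⁻¹ = c'⁻¹ := by
    rw [show Γ.d = Γ.t * (Γ.t * Γ.d) by rw [← mul_assoc, tt, one_mul], SK.conj_assoc', e2.symm.mul_inv_cancel,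
      h.oc.inv_of_comm Γ.e_up₂ Γ.e_t hc' e2]
  have e3 := congrArg (Γ.d * · * Γ.d⁻¹) e
  simp only [← conj_mul, ← _root_.conj_inv, d_up₁, d_up₂, hd.symm.mul_inv_cancel, e1.symm.mul_inv_cancel, i1,
    up_neg, map_inv, inv_inv] at e3
  refine ⟨c' * c', mul_mem hc' hc', s + s, e2.mul_left e2, ?_⟩
  rw [show a = a / 2 + a / 2 by field_simp [Γ.two_ne]; ring, up_add, up_add, map_mul, map_mul]
  exact aux1 e e3 (h.mem_CP hc' e2 _).1.symm (Γ.two.comm _ _) (h.oc.cen _ hc' s)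

theorem act_lo (hm : m ∈ M) (he : Commute m (Γ.t * Γ.d)) (a : F) : ∃ δ ∈ M, ∃ s, Commute δ Γ.d ∧
    Γ.ι₁ (lo a) * m * (Γ.ι₁ (lo a))⁻¹ = m * δ * Γ.ι₂ (up s) := by
  obtain ⟨ε, hε, s, e1, e⟩ := h.act_up (h.nrm₁ nn hm) (Γ.n₁_td ▸ he.conj _) (-a)
  refine ⟨_, h.nrm₁ nn⁻¹ hε, s, by simpa [← Γ.n₁_d, mul_assoc] using e1.conj (Γ.ι₁ nn)⁻¹, ?_⟩
  rw [← A2.nn_lo, map_mul, map_mul, map_inv, ← (Γ.two.comm nn (up s)).mul_inv_cancel] at e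
  refine (MulAut.conj (Γ.ι₁ nn)).injective ?_
  simpa [mul_assoc] using e

theorem modl (hm : m ∈ M) (hd : Commute m Γ.d) (c : Fˣ) : ∃ s, Γ.ι₁ (up (c : F)) * m * (Γ.ι₁ (up (c : F)))⁻¹ =
    m * (Γ.ι₁ (dg c * nn) * m * (Γ.ι₁ (dg c * nn))⁻¹) * Γ.ι₂ (up s) := by
  obtain ⟨ε, hε, s, e1, e⟩ := h.act_up hm hd c
  obtain ⟨δ, hδ, s', e2, e'⟩ := h.act_lo hε e1 (-((c⁻¹ : Fˣ) : F))
  obtain ⟨σ, e3⟩ := h.oc.comm hδ hε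
  have k := (h.comm_lo hm hd (-((c⁻¹ : Fˣ) : F))).symm.mul_inv_cancel
  have e4 : Γ.ι₁ (dg c * nn) * m * (Γ.ι₁ (dg c * nn))⁻¹ * ε⁻¹ = m * δ * Γ.ι₂ (up (σ + (s' + s))) := by
    rw [← A2.n1, map_mul, map_mul, SK.conj_assoc', k, SK.conj_assoc', e, ← conj_mul, ← conj_mul, k, e',
      (Γ.two.comm _ _).mul_inv_cancel, up_add, map_mul, ← mul_assoc (m * δ), mul_assoc m δ, ← e3,
      ← (h.oc.cen _ hε (s' + s)).mul_inv_cancel, up_add, map_mul]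
    group
  have e5 : Commute (Γ.t * Γ.d) (m * δ * Γ.ι₂ (up (σ + (s' + s)))) := by
    refine e4 ▸ Commute.mul_right ?_ e1.symm.inv_right
    rw [← (Γ.T_comm (Γ.dg₁_mem_T c) (mul_mem Γ.t_mem_T Γ.d_mem_T)).mul_inv_cancel, ← n₁_d, ← SK.conj_assoc',
      ← map_mul]
    exact hd.symm.conj _
  have e6 := R2.eq_one_of_odd_of_sq (odd_of_mem h.oc.odd (mul_mem (mul_mem hm hδ) (h.oc.up_mem (σ + (s' + s))))) (by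
    nth_rw 1 [← e5.mul_inv_cancel]
    rw [← conj_mul, e_up₂, SK.conj_assoc', (hd.mul_left e2).symm.mul_inv_cancel,
      h.oc.inv_of_comm Γ.d_up₂ Γ.d_t (mul_mem hm hδ) (hd.mul_left e2), up_neg, map_inv,
      ← (h.oc.cen _ (mul_mem hm hδ) _).mul_inv, inv_mul_cancel])
  exact ⟨s, by rw [e, mul_inv_eq_one.1 (e4.trans e6)]⟩

theorem star (c : Fˣ) : ∃ κ : Fˣ, ∀ b, ∃ s,
    Γ.ι₁ (up (c : F)) * (Γ.ι₁ nn * g * Γ.ι₁ (up b) * (Γ.ι₁ nn * g)⁻¹) * (Γ.ι₁ (up (c : F)))⁻¹ =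
      Γ.ι₁ nn * g * Γ.ι₁ (up b) * (Γ.ι₁ nn * g)⁻¹ * (g * Γ.ι₁ (up (κ * b)) * g⁻¹) * Γ.ι₂ (up s) := by
  obtain ⟨κ, hκ⟩ := Γ.act₁ (conj_mem_of_norm' h.fr.gT (mul_mem (Γ.dg₁_mem_T c) Γ.t_mem_T))
  refine ⟨κ, fun b => (h.modl (h.z_mem b) (h.fr.kt ▸ (Γ.two.comm₁ _).conj _) c).imp fun s e => ?_⟩
  rw [e, ← (hκ b).1, ← n₁_sq, map_mul]; group

theorem star' (a b : F) : ∃ c s,
    Γ.ι₁ (up a) * (Γ.ι₁ nn * g * Γ.ι₁ (up b) * (Γ.ι₁ nn * g)⁻¹) * (Γ.ι₁ (up a))⁻¹ =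
      Γ.ι₁ nn * g * Γ.ι₁ (up b) * (Γ.ι₁ nn * g)⁻¹ * (g * Γ.ι₁ (up c) * g⁻¹) * Γ.ι₂ (up s) := by
  by_cases ha : a = 0
  · exact ⟨0, 0, by simp [ha, up_zero]⟩
  · exact let ⟨_, k⟩ := h.star (Units.mk0 a ha); ⟨_, k b⟩

theorem gg : g * g ∈ Γ.T := by
  refine h.fr.rel.2.2.2.2.resolve_right fun ⟨τ, hτ, e⟩ => ?_
  obtain ⟨κ, hκ⟩ := h.star 1
  obtain ⟨r, e1⟩ := hκ 1
  obtain ⟨a, ha⟩ := Γ.act₁ hτ
  obtain ⟨b, hb⟩ := Γ.act₁ (inv_mem hτ)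
  have g2 : g * Γ.ι₁ nn * g⁻¹ * (g * Γ.ι₁ nn * g⁻¹) = Γ.t * Γ.d := by rw [conj_mul, n₁_sq, h.fr.gt]
  have gd : g * Γ.ι₁ nn * g⁻¹ * Γ.d * (g * Γ.ι₁ nn * g⁻¹)⁻¹ = Γ.t := by
    nth_rw 1 [← h.fr.gd, ← h.fr.ge, ← n₁_d]; group
  have k1 : g * Γ.ι₁ nn * g⁻¹ * (g * Γ.ι₁ (up (κ * 1)) * g⁻¹) * (g * Γ.ι₁ nn * g⁻¹)⁻¹ =
      g * Γ.ι₁ (lo (-(κ * 1))) * g⁻¹ := by rw [← A2.nn_up, map_mul, map_mul, map_inv]; group
  have ge : Commute (g * Γ.ι₁ nn * g⁻¹) (Γ.t * Γ.d) := g2 ▸ (Commute.refl _).mul_right (Commute.refl _)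
  generalize g * Γ.ι₁ nn * g⁻¹ = γ at e g2 gd k1 ge
  have k2 : γ * Γ.ι₁ (up ((1 : Fˣ) : F)) * γ⁻¹ = Γ.ι₁ nn * g * Γ.ι₁ (up (a * 1)) * (Γ.ι₁ nn * g)⁻¹ := by
    rw [e, SK.conj_assoc', (Γ.two.comm _ _).symm.mul_inv_cancel, SK.conj_assoc', Units.val_one, (ha 1).1]
  have k3 : γ * (Γ.ι₁ nn * g * Γ.ι₁ (up 1) * (Γ.ι₁ nn * g)⁻¹) * γ⁻¹ = (Γ.ι₁ (up (b * 1)))⁻¹ := by
    rw [← map_inv, ← up_neg, ← e_up₁, ← g2, ← (Γ.two.comm (up (b * 1)) nn).symm.inv_left.mul_inv_cancel,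
      ← (hb 1).1, show Γ.ι₁ nn * g = γ * (Γ.ι₂ nn)⁻¹ * τ⁻¹ by rw [e]; group]
    group
  have e2 := congrArg (γ * · * γ⁻¹) e1
  beta_reduce at e2
  rw [← conj_mul (b := γ), ← conj_mul (b := γ), ← _root_.conj_inv, ← conj_mul (b := γ) (c := Γ.ι₂ _),
    ← conj_mul (b := γ) (c := g * _ * _), k1, k2, k3] at e2
  obtain ⟨c, s, e3⟩ := h.star' (b * 1) (a * 1)
  obtain ⟨σ, e4⟩ := h.oc.comm (h.y₁_mem c) (h.z_mem (a * 1))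
  have e5 := (h.oc.cen _ (h.z_mem (a * 1)) s).mul_inv_cancel
  have := aux2 (A := g * Γ.ι₁ (lo (-(κ * 1))) * g⁻¹) (B := γ * Γ.ι₂ (up r) * γ⁻¹) (y := g * Γ.ι₁ (up c) * g⁻¹)
    (S := Γ.ι₂ (up (σ + s))) (e := Γ.t * Γ.d) (t := Γ.t) (by
      rw [up_add, map_mul, ← mul_assoc _ (Γ.ι₂ _), ← e4, ← e5, conj_mul, ← mul_assoc _ _ (Γ.ι₂ (up s)), ← e3,
        ← mul_right_inj (Γ.ι₁ (up (b * 1)))⁻¹, ← mul_assoc _⁻¹, ← e2]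
      group)
    (h.fr.gt ▸ (Two.j_comm₁ _).conj g) (h.fr.gt ▸ (Two.j_comm₁ _).conj g)
    (by rw [← SK.conj_assoc', ← ge.eq, SK.conj_assoc', e_up₂, up_neg, map_inv, _root_.conj_inv])
    (by rw [e_up₂, up_neg, map_inv])
    (by rw [← gd, _root_.conj_inv, conj_mul, conj_mul, d_up₂, up_neg, map_inv, _root_.conj_inv])
    (Two.j_comm₂ _) (by rw [← MulAut.conj_apply, MulEquiv.orderOf_eq]; exact odd_up Γ.odd _ _) (odd_up Γ.odd _ _)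
  rw [mul_left_inj, mul_right_inj, Γ.two.inj₁.eq_iff, up, lo, mkS_inj] at this
  simpa using this.2.2.1

theorem c2 (a b : F) : Commute (Γ.ι₁ (lo a)) (g * Γ.ι₁ (lo b) * g⁻¹) := by
  obtain ⟨τ, hτ, e⟩ := h.fr.rel.2.1
  obtain ⟨c, hc⟩ := Γ.act₁ hτ
  have := ((h.cp (-(c * b))).2 (-a)).1.symm.conj Γ.w
  rwa [w_ι₁, A2.nn_up, neg_neg, show Γ.w * (g * Γ.ι₂ (up (-(c * b))) * g⁻¹) * Γ.w⁻¹ =
    g * (g⁻¹ * Γ.w * g * Γ.ι₂ (up (-(c * b))) * (g⁻¹ * Γ.w * g)⁻¹) * g⁻¹ by group, e, SK.conj_assoc', n_ι₂,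
    SK.conj_assoc', w_ι₁, A2.nn_up, (hc _).2, neg_neg, Units.inv_mul_cancel_left] at this

theorem zy (a b : F) : Commute (g * Γ.ι₁ (up a) * g⁻¹) (Γ.ι₁ nn * g * Γ.ι₁ (up b) * (Γ.ι₁ nn * g)⁻¹) := by
  have hτ : (Γ.ι₁ nn * g)⁻¹ * (g * Γ.ι₁ nn * g * (Γ.ι₁ nn)) ∈ Γ.T := by
    convert mul_mem (mul_mem (conj_mem_of_norm' (mul_mem Γ.n₁_norm h.fr.gT) h.fr.rel.2.2.2.1)
      (conj_mem_of_norm' h.fr.gT (inv_mem Γ.t_mem_T))) (inv_mem h.gg) using 1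
    rw [← n₁_sq, pow_three]; group
  obtain ⟨c, hc⟩ := Γ.act₁ hτ
  have := (h.c2 (-a) (-((c⁻¹ : Fˣ) * b))).conj (g * Γ.ι₁ nn)
  rw [SK.conj_assoc' g, ← map_inv, ← map_mul, ← map_mul, A2.nn_lo, neg_neg, ← A2.nn_up] at this
  rw [← Units.mul_inv_cancel_left c b, ← (hc _).1]
  convert this using 1
  simp [mul_assoc]

theorem a2h : A2H Γ.ι₁ Γ.T g := by
  refine ⟨Γ.two.inj₁, fun _ => Γ.act₁, Γ.dg₁_mem_T, h.fr.gT, Γ.n₁_norm, h.gg, h.fr.rel.2.2.2.1, h.fr.neg₁,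
    fun a b => ((h.cp b).1 a).1.symm, h.c2, fun a b => ?_⟩
  obtain ⟨c, s, e⟩ := h.star' a b
  exact ⟨c, aux3 e (Two.j_comm₁ _) (Two.j_comm₂ _) (h.oc.inv_of_comm Γ.d_up₂ Γ.d_t (h.z_mem b)
    (h.fr.kt ▸ (Γ.two.comm₁ _).conj _)) (by rw [h.fr.neg₁, up_neg, map_inv, _root_.conj_inv]) (h.zy c b)
    (h.oc.cen _ (mul_mem (h.z_mem b) (h.y₁_mem c)) s) (odd_up Γ.odd _ _)⟩

end Rd

end Dat

theorem Dat.Fr.exists_a2 {G F : Type*} [Group G] [Finite G] [Field F] [Fintype F] {Γ : Dat G F} {g : G}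
    (h : Γ.Fr g) (h3 : Fintype.card F ≠ 3) (hs : Γ.Sg) : ∃ g', Γ.Fr g' ∧ A2H Γ.ι₁ Γ.T g' := by
  obtain ⟨p, hp⟩ := CharP.exists F
  have : Fact p.Prime := ⟨CharP.char_is_prime F p⟩
  obtain ⟨M, H, hM⟩ := h.exists_oc p h3
  obtain ⟨g', h', c⟩ := h.exists_cp p h3 H hM hs
  exact ⟨g', h', Dat.Rd.a2h ⟨h', h3, H, c⟩⟩

end CL.L4
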