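import Cfsg.Agent.INV.L4.Defs
import Cfsg.Agent.INV.R2.SwapK2

/-!
The torus, its normaliser and the centraliser of the four-group `⟨t, d⟩`.
-/

set_option autoImplicit false

namespace CL.L4

open Matrix Subgroup Cfsg CL.ABG CL.R2 CL.L4.LL
open scoped MatrixGroups

theorem conj_mem_of_norm {G : Type*} [Group G] {T : Subgroup G} {k x : G} (hk : k ∈ normalizer (T : Set G))
    (hx : x ∈ T) : k * x * k⁻¹ ∈ T := (mem_normalizer_iff.1 hk x).1 hx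

theorem conj_mem_of_norm' {G : Type*} [Group G] {T : Subgroup G} {k x : G} (hk : k ∈ normalizer (T : Set G))
    (hx : x ∈ T) : k⁻¹ * x * k ∈ T := by simpa using conj_mem_of_norm (inv_mem hk) hx

theorem weyl {W : Type*} [Group W] {a b m c : W} (a2 : a * a = 1) (m2 : m * m = 1) (ab : b * a = a * b)
    (ma : m * a * m⁻¹ = b) (cw : c * (a * b) * c⁻¹ = a * b * m) (m1 : m ≠ 1) (w1 : a * b ≠ 1)
    (h1 : c * c = 1 ∨ c * c = a * b ∨ c * c = m ∨ c * c = a * b * m)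
    (h2 : c * a * (c * a * (c * a)) = 1 ∨ c * a * (c * a * (c * a)) = a * b ∨
      c * a * (c * a * (c * a)) = m ∨ c * a * (c * a * (c * a)) = a * b * m) :
    c⁻¹ * m * c = m ∧ c⁻¹ * (a * b) * c = a * b * m ∧ (a * c)⁻¹ * m * (a * c) = a * b ∧ (c * a) ^ 3 = 1 ∧
      (c * c = 1 ∨ c * a * c⁻¹ = a * c * b) := by
  have ai : a⁻¹ = a := inv_eq_of_mul_eq_one_right a2
  have mi : m⁻¹ = m := inv_eq_of_mul_eq_one_right m2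
  have mb : m * b * m⁻¹ = a := by rw [← ma, ← SK.conj_assoc', m2]; simp
  have b2 : b * b = 1 := by rw [← ma, conj_mul, a2]; simp
  have mw : Commute m (a * b) := mul_inv_eq_iff_eq_mul.1 (by rw [← conj_mul, ma, mb, ab])
  have w2 : a * b * (a * b) = 1 := by rw [mul_assoc, ← mul_assoc b, ab, mul_assoc a b, b2, mul_one, a2]
  have am : a * m * a⁻¹ = a * b * m := by rw [← ma, ai, mi]; simp only [mul_assoc, m2, mul_one]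
  have aw : a * (a * b) * a⁻¹ = a * b := by rw [← mul_assoc a a, a2, one_mul, ai, ab]
  have t3 : c * c = m → c * a * (c * a * (c * a)) = 1 → c * a * c⁻¹ = a * c * b := fun e r => by
    have e1 : c * m = c⁻¹ := eq_inv_of_mul_eq_one_right (by rw [← mul_assoc, e, m2])
    have e2 : c * a * c = a⁻¹ * c⁻¹ * a⁻¹ := by
      rw [← _root_.mul_inv_rev, ← _root_.mul_inv_rev]; exact eq_inv_of_mul_eq_one_left (by simpa only [mul_assoc] using r)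
    rw [← ma, mi, ← e1, ← mul_assoc (c * a), e2, ai, ← e1]; simp only [mul_assoc]
  generalize hw : a * b = w at *
  have cc : Commute (c * c) w := by
    rcases h1 with e | e | e | e <;> rw [e]
    exacts [Commute.one_left w, mw, (Commute.refl w).mul_left mw]
  have c2 : c * (w * m) * c⁻¹ = w := by rw [← cw, ← SK.conj_assoc', cc.mul_inv_cancel]
  have c3 : c * m * c⁻¹ = m := by
    rw [← conj_mul, cw, mul_assoc w, mul_eq_left, ← m2] at c2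
    exact mul_left_cancel c2
  have c4 : c⁻¹ * m * c = m := by nth_rw 1 [← c3]; group
  have f : ∀ {x y : W}, x * x = y ∨ x * (x * x) = y → x * y * x⁻¹ = y := by
    rintro x y (rfl | rfl) <;> group
  have wm : w ≠ w * m := fun e => m1 (left_eq_mul.1 e)
  have r4 : c * a * (c * a * (c * a)) = 1 := by
    rcases h2 with e | e | e | e
    · exact e
    all_goals have := f (Or.inr e); rw [SK.conj_assoc'] at this
    · rw [aw, cw] at this; exact (wm this.symm).elim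
    · rw [am, c2] at this
      rw [this, c3, m2] at cw; exact (m1 cw).elim
    · rw [← conj_mul (b := a), aw, am, ← mul_assoc w, w2, one_mul, c3] at this
      exact (w1 (right_eq_mul.1 this)).elim
  refine ⟨c4, by nth_rw 1 [← c2]; group, ?_, by rw [pow_three, r4], ?_⟩
  · rw [ai] at am
    rw [_root_.mul_inv_rev, ai, show c⁻¹ * a * m * (a * c) = c⁻¹ * (a * m * a) * c by group, am, ← cw]; group
  rcases h1 with e | e | e | e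
  · exact Or.inl e
  · exact (wm ((f (Or.inl e)).symm.trans cw)).elim
  · exact Or.inr (t3 e r4)
  · exact (wm (c2.symm.trans (f (Or.inl e)))).elim

namespace Dat

variable {G F : Type*} [Group G] [Field F] [Fintype F] (Γ : Dat G F) {x τ : G}

theorem w_dgl {a b c e : F} (h : a * b * c * e = 1) :
    Γ.w * Γ.ψ (dgl a b c e h) * Γ.w⁻¹ = Γ.ψ (dgl b a e c (by linear_combination h)) := by
  rw [← Γ.n₁_dgl (a := a) (b := b) (by linear_combination h), ← Γ.n₂_dgl h, w]; group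

theorem ww : Γ.w * Γ.w = 1 := by rw [w_eq, ← map_mul, nn_mul_nn, Two.dia_neg, map_one]
theorem w_inv : Γ.w⁻¹ = Γ.w := inv_eq_of_mul_eq_one_right Γ.ww
theorem w_t : Commute Γ.w Γ.t := Two.dia_comm_j _
theorem n_w : Commute Γ.n Γ.w := Γ.n_dia _
theorem w_mem_Y : Γ.w ∈ Γ.two.Y := Two.dia_mem_Y _
theorem w_ψ : ∃ y, Γ.w = Γ.ψ y := ⟨_, Γ.dia_eq _⟩

theorem w_d : Commute Γ.w Γ.d := mul_inv_eq_iff_eq_mul.1 ((Γ.w_dgl _).trans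
  (Γ.dgl_eq_iff.2 ⟨-1, by ring, by ring, by ring, by ring⟩))

theorem w_ι₁ (s : SL(2, F)) : Γ.w * Γ.ι₁ s * Γ.w⁻¹ = Γ.ι₁ (nn * s * nn⁻¹) := Two.dia_conj₁ _ _
theorem w_ι₂ (s : SL(2, F)) : Γ.w * Γ.ι₂ s * Γ.w⁻¹ = Γ.ι₂ (nn * s * nn⁻¹) := Two.dia_conj₂ _ _

theorem T_ψ (h : τ ∈ Γ.T) : ∃ y, τ = Γ.ψ y := let ⟨y, _, e⟩ := h; ⟨y, e.symm⟩
theorem T_t (h : τ ∈ Γ.T) : Commute τ Γ.t := Γ.T_comm h Γ.t_mem_T
theorem T_d (h : τ ∈ Γ.T) : Commute τ Γ.d := Γ.T_comm h Γ.d_mem_T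

theorem Y_ψ (h : x ∈ Γ.two.Y) : ∃ y, x = Γ.ψ y :=
  let ⟨a, b, e⟩ := Γ.two.mem_Y.1 h; ⟨i1 a * i2 b, e.symm.trans (map_mul Γ.ψ _ _).symm⟩

theorem w_notMem : Γ.w ∉ Γ.T := fun h => by
  obtain ⟨a, b, c, e, h, h1⟩ := Γ.mem_T.1 h
  obtain ⟨k, h2, -⟩ := Γ.eq_iff.1 ((Γ.dia_eq _).symm.trans h1)
  simpa [coe_nn] using congrFun (congrFun h2 0) 1

theorem mem_X (h1 : Commute x Γ.t) (h2 : Commute x Γ.d) :
    ∃ τ ∈ Γ.T, x = τ ∨ x = τ * Γ.w ∨ x = τ * Γ.n ∨ x = τ * Γ.w * Γ.n := by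
  have key : ∀ y, Commute (Γ.ψ y) Γ.d → Γ.ψ y ∈ Γ.T ∨ Γ.ψ y * Γ.w ∈ Γ.T := fun y h => by
    obtain ⟨k, e1, e2⟩ := Γ.eq_iff.1 ((map_mul Γ.ψ _ _).trans (h.eq.trans (map_mul Γ.ψ _ _).symm))
    have dA := y.detA
    rw [eta_fin_two y.A] at dA
    rw [mul_A, mul_A, eta_fin_two y.A] at e1
    rw [mul_B, mul_B, eta_fin_two y.B] at e2
    simp [-mul_eq_zero] at e1 e2 dA
    have two := Γ.two_ne
    by_cases hk : k = 1
    · subst hk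
      refine Or.inl ⟨y, mem_DD.2 ⟨?_, ?_, ?_, ?_⟩, rfl⟩ <;> refine mul_left_cancel₀ two ?_
      exacts [by linear_combination -e1.1.2, by linear_combination e1.2.1, by linear_combination -e2.1.2,
        by linear_combination e2.2.1]
    · have hk' := sub_ne_zero.2 hk
      refine Or.inr ⟨y * ⟨nn.1, nn.1, by simp⟩, mem_DD.2 ?_, by rw [map_mul, ← dia_eq, w_eq]⟩
      simp [coe_nn, Matrix.mul_apply, Fin.sum_univ_two]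
      refine ⟨?_, ?_, ?_, ?_⟩ <;> refine mul_left_cancel₀ hk' ?_
      exacts [by linear_combination -e1.1.1, by linear_combination -e1.2.2, by linear_combination -e2.1.1,
        by linear_combination -e2.2.2]
  obtain ⟨y, rfl | rfl⟩ := Γ.comm_iff.1 h1
  · rcases key y h2 with h | h
    exacts [⟨_, h, Or.inl rfl⟩, ⟨_, h, Or.inr (Or.inl (by rw [mul_assoc, ww, mul_one]))⟩]
  · rcases key y (by simpa [mul_assoc, Γ.n2] using h2.mul_left Γ.n_d) with h | h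
    exacts [⟨_, h, Or.inr (Or.inr (Or.inl rfl))⟩,
      ⟨_, h, Or.inr (Or.inr (Or.inr (by rw [mul_assoc (Γ.ψ y), ww, mul_one])))⟩]

theorem act₁ (h' : τ ∈ Γ.T) : ∃ c : Fˣ, ∀ r, τ * Γ.ι₁ (up r) * τ⁻¹ = Γ.ι₁ (up (c * r)) ∧
    τ * Γ.ι₁ (lo r) * τ⁻¹ = Γ.ι₁ (lo ((c⁻¹ : Fˣ) * r)) := by
  obtain ⟨a, b, c, e, h, rfl⟩ := Γ.mem_T.1 h'
  exact ⟨⟨a * a * c * e, b * b * c * e, by linear_combination (a * b * c * e + 1) * h,
    by linear_combination (a * b * c * e + 1) * h⟩, fun r => ⟨Γ.dgl_up₁ h r, Γ.dgl_lo₁ h r⟩⟩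

theorem act₂ (h' : τ ∈ Γ.T) : ∃ c : Fˣ, ∀ r, τ * Γ.ι₂ (up r) * τ⁻¹ = Γ.ι₂ (up (c * r)) ∧
    τ * Γ.ι₂ (lo r) * τ⁻¹ = Γ.ι₂ (lo ((c⁻¹ : Fˣ) * r)) := by
  obtain ⟨a, b, c, e, h, rfl⟩ := Γ.mem_T.1 h'
  exact ⟨⟨a * b * c * c, a * b * e * e, by linear_combination (a * b * c * e + 1) * h,
    by linear_combination (a * b * c * e + 1) * h⟩, fun r => ⟨Γ.dgl_up₂ h r, Γ.dgl_lo₂ h r⟩⟩

theorem n₁_n : Γ.ι₁ nn * Γ.n * (Γ.ι₁ nn)⁻¹ = Γ.t * Γ.w * Γ.n := by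
  rw [mul_assoc, ← map_inv, mul_inv_eq_iff_eq_mul.1 (Γ.n_ι₁ _), SK.inv_neg nn_mul_nn, Two.ι₂_neg_eq,
    ← Γ.w_t.eq, w]
  simp only [mul_assoc]

theorem mem_T_of_comm₁ (h1 : Commute x Γ.t) (h2 : Commute x Γ.d) {c : Fˣ} (hc : (c : F) * c ≠ 1)
    (h : Commute x (Γ.ι₁ (dg c))) : x ∈ Γ.T := by
  have k : ∀ y, Γ.two.Swp y → ¬ Commute y (Γ.ι₁ (dg c)) := fun y hy h => by
    obtain ⟨s, hs⟩ := hy.1 (dg c)
    rcases Γ.two.inter _ _ (h.mul_inv_cancel.symm.trans hs) with e | e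
    · rw [← dg_one, dg_inj] at e; simp [e] at hc
    · rw [← dg_neg_one, dg_inj] at e; simp [e] at hc
  obtain ⟨τ, hτ, rfl | rfl | rfl | rfl⟩ := Γ.mem_X h1 h2
  · exact hτ
  · have := ((Γ.T_comm hτ (Γ.dg₁_mem_T c)).inv_left.mul_left h).mul_inv_cancel
    rw [inv_mul_cancel_left, w_ι₁, nn_mul_dg, mul_inv_cancel_right] at this
    exact absurd (by rw [← Units.val_mul, ← congrArg (c * ·) (dg_inj.1 (Γ.two.inj₁ this))]; simp) hc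
  · obtain ⟨y, rfl⟩ := Γ.T_ψ hτ
    exact (k _ (Γ.swp_out y) h).elim
  · obtain ⟨y, rfl⟩ := Γ.T_ψ hτ
    obtain ⟨z, hz⟩ := Γ.w_ψ
    exact (k _ (by rw [hz, ← map_mul]; exact Γ.swp_out _) h).elim

theorem d_up₁ (r : F) : Γ.d * Γ.ι₁ (up r) * Γ.d⁻¹ = Γ.ι₁ (up (-r)) := by rw [d, dgl_up₁]; simp
theorem d_lo₁ (r : F) : Γ.d * Γ.ι₁ (lo r) * Γ.d⁻¹ = Γ.ι₁ (lo (-r)) := by rw [d, dgl_lo₁]; simp
theorem d_up₂ (r : F) : Γ.d * Γ.ι₂ (up r) * Γ.d⁻¹ = Γ.ι₂ (up (-r)) := by rw [d, dgl_up₂]; simp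
theorem d_lo₂ (r : F) : Γ.d * Γ.ι₂ (lo r) * Γ.d⁻¹ = Γ.ι₂ (lo (-r)) := by rw [d, dgl_lo₂]; simp

theorem n₁_td : Γ.ι₁ nn * (Γ.t * Γ.d) * (Γ.ι₁ nn)⁻¹ = Γ.d := by
  rw [← conj_mul, n₁_d, (Γ.two.comm₁ _).mul_inv_cancel, ← mul_assoc, tt, one_mul]

theorem n₁_sq : Γ.ι₁ nn * Γ.ι₁ nn = Γ.t := by rw [← map_mul, nn_mul_nn]
theorem n₂_sq : Γ.ι₂ nn * Γ.ι₂ nn = Γ.t := by rw [← map_mul, nn_mul_nn]; exact Γ.two.neg

theorem out_notMem (y : LL F) : Γ.ψ y * Γ.n ∉ Γ.T := fun h =>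
  let ⟨z, e⟩ := Γ.T_ψ h; Γ.out' z y e.symm

variable [Finite G]

theorem norm_of {k : G} (h : ∀ a b c e h, k * Γ.ψ (dgl a b c e h) * k⁻¹ ∈ Γ.T) :
    k ∈ normalizer (Γ.T : Set G) := mem_normalizer_fintype fun _ hx => by
  obtain ⟨a, b, c, e, h', rfl⟩ := Γ.mem_T.1 hx
  exact h a b c e h'

theorem n₁_norm : Γ.ι₁ nn ∈ normalizer (Γ.T : Set G) :=
  Γ.norm_of fun _ _ _ _ h => Γ.mem_T.2 ⟨_, _, _, _, _, Γ.n₁_dgl h⟩
theorem n₂_norm : Γ.ι₂ nn ∈ normalizer (Γ.T : Set G) :=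
  Γ.norm_of fun _ _ _ _ h => Γ.mem_T.2 ⟨_, _, _, _, _, Γ.n₂_dgl h⟩
theorem n_norm : Γ.n ∈ normalizer (Γ.T : Set G) :=
  Γ.norm_of fun _ _ _ _ h => Γ.mem_T.2 ⟨_, _, _, _, _, Γ.n_dgl h⟩
theorem w_norm : Γ.w ∈ normalizer (Γ.T : Set G) := mul_mem Γ.n₁_norm Γ.n₂_norm

theorem mem_T_of_comm₂ (h1 : Commute x Γ.t) (h2 : Commute x Γ.d) {c : Fˣ} (hc : (c : F) * c ≠ 1)
    (h : Commute x (Γ.ι₂ (dg c))) : x ∈ Γ.T := by
  have := Γ.mem_T_of_comm₁ ((Γ.n_t.mul_left h1).mul_left Γ.n_t.inv_left)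
    ((Γ.n_d.mul_left h2).mul_left Γ.n_d.inv_left) hc (Γ.n_ι₂ _ ▸ h.conj Γ.n)
  simpa [mul_assoc] using conj_mem_of_norm' Γ.n_norm this

namespace Fr

variable {Γ} {g : G} (h : Γ.Fr g)
include h

omit [Finite G] in
theorem gd : g * Γ.d * g⁻¹ = Γ.d := by
  have := congrArg₂ (· * ·) h.gt h.ge
  simp only [conj_mul] at this
  rwa [← mul_assoc Γ.t, tt, one_mul, Γ.d_t.symm.eq, mul_assoc Γ.d, tt, mul_one] at this

omit [Finite G] in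
theorem conj_X (h1 : Commute x Γ.t) (h2 : Commute x Γ.d) :
    Commute (g * x * g⁻¹) Γ.t ∧ Commute (g * x * g⁻¹) Γ.d :=
  ⟨h.ge ▸ (h1.mul_right h2).conj g, h.gd ▸ h2.conj g⟩

omit [Finite G] in
theorem mul_w [Finite G] : Γ.Fr (g * Γ.w) := by
  refine ⟨?_, ?_, mul_mem h.gT Γ.w_norm, ?_⟩
  · rw [SK.conj_assoc', Γ.w_t.mul_inv_cancel, h.gt]
  · rw [SK.conj_assoc', (Γ.w_t.mul_right Γ.w_d).mul_inv_cancel, h.ge]
  · rw [SK.conj_assoc', mul_inv_cancel_right]; exact h.gw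

/-- The relations in the Weyl group. -/
theorem rel : (∃ τ ∈ Γ.T, g⁻¹ * Γ.n * g = τ * Γ.n) ∧ (∃ τ ∈ Γ.T, g⁻¹ * Γ.w * g = τ * Γ.w * Γ.n) ∧
    (∃ τ ∈ Γ.T, (Γ.ι₁ nn * g)⁻¹ * Γ.n * (Γ.ι₁ nn * g) = τ * Γ.w) ∧ (g * Γ.ι₁ nn) ^ 3 ∈ Γ.T ∧
    (g * g ∈ Γ.T ∨ ∃ τ ∈ Γ.T, g * Γ.ι₁ nn * g⁻¹ = Γ.ι₁ nn * g * τ * Γ.ι₂ nn) := by
  let N := normalizer (Γ.T : Set G)
  let π := QuotientGroup.mk' (Γ.T.subgroupOf N)
  have e : ∀ x y : N, π x = π y ↔ ∃ τ ∈ Γ.T, (x : G) = τ * y := fun x y => by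
    rw [← mul_inv_eq_one, ← map_inv, ← map_mul, ← MonoidHom.mem_ker, QuotientGroup.ker_mk']
    exact ⟨fun h => ⟨_, h, by simp⟩, fun ⟨τ, h1, h2⟩ => by simpa [mem_subgroupOf, h2]⟩
  have e1 : ∀ x : N, π x = 1 ↔ (x : G) ∈ Γ.T := fun x => QuotientGroup.eq_one_iff x
  let A : N := ⟨_, Γ.n₁_norm⟩
  let B : N := ⟨_, Γ.n₂_norm⟩
  let M : N := ⟨_, Γ.n_norm⟩
  let C : N := ⟨g, h.gT⟩
  have hX : ∀ x : N, Commute (x : G) Γ.t → Commute (x : G) Γ.d →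
      π x = 1 ∨ π x = π A * π B ∨ π x = π M ∨ π x = π A * π B * π M := fun x h1 h2 => by
    obtain ⟨τ, hτ, k | k | k | k⟩ := Γ.mem_X h1 h2
    exacts [Or.inl ((e1 _).2 (k ▸ hτ)), Or.inr (Or.inl ((e x (A * B)).2 ⟨τ, hτ, k⟩)),
      Or.inr (Or.inr (Or.inl ((e x M).2 ⟨τ, hτ, k⟩))),
      Or.inr (Or.inr (Or.inr ((e x (A * B * M)).2 ⟨τ, hτ, k.trans (mul_assoc _ _ _)⟩)))]
  have a2 : π A * π A = 1 := (e1 (A * A)).2 (Γ.n₁_sq.symm ▸ Γ.t_mem_T : Γ.ι₁ nn * Γ.ι₁ nn ∈ _)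
  have m2 : π M * π M = 1 := (e1 (M * M)).2 (Γ.n2.symm ▸ one_mem _ : Γ.n * Γ.n ∈ _)
  have ab : π B * π A = π A * π B := congrArg π (Subtype.ext (Γ.two.comm _ _).symm : B * A = A * B)
  have ma : π M * π A * (π M)⁻¹ = π B := congrArg π (Subtype.ext (Γ.n_ι₁ _) : M * A * M⁻¹ = B)
  have cw : π C * (π A * π B) * (π C)⁻¹ = π A * π B * π M :=
    (e (C * (A * B) * C⁻¹) (A * B * M)).2 (h.gw.imp fun τ k => ⟨k.1, k.2.trans (mul_assoc _ _ _)⟩)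
  have h1 := hX (C * C) (mul_inv_eq_iff_eq_mul.1 (by
      rw [Subgroup.coe_mul, SK.conj_assoc', h.gt, h.ge]))
    (mul_inv_eq_iff_eq_mul.1 (by rw [Subgroup.coe_mul, SK.conj_assoc', h.gd, h.gd]))
  have k1 : g * Γ.ι₁ nn * Γ.t * (g * Γ.ι₁ nn)⁻¹ = Γ.t * Γ.d := by
    rw [SK.conj_assoc', (Γ.two.comm₁ _).mul_inv_cancel, h.gt]
  have k2 : g * Γ.ι₁ nn * (Γ.t * Γ.d) * (g * Γ.ι₁ nn)⁻¹ = Γ.d := by rw [SK.conj_assoc', n₁_td, h.gd]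
  have k3 : g * Γ.ι₁ nn * Γ.d * (g * Γ.ι₁ nn)⁻¹ = Γ.t := by rw [SK.conj_assoc', n₁_d, h.ge]
  have h2 := hX (C * A * (C * A * (C * A))) (mul_inv_eq_iff_eq_mul.1 (by
      simp only [Subgroup.coe_mul]; rw [SK.conj_assoc', SK.conj_assoc' (g * Γ.ι₁ nn), k1, k2, k3]))
    (mul_inv_eq_iff_eq_mul.1 (by
      simp only [Subgroup.coe_mul]; rw [SK.conj_assoc', SK.conj_assoc' (g * Γ.ι₁ nn), k3, k1, k2]))
  have m1 : π M ≠ 1 := fun k => Γ.out_notMem 1 (by simpa using (e1 M).1 k)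
  have w1 : π A * π B ≠ 1 := fun k => Γ.w_notMem ((e1 (A * B)).1 k)
  obtain ⟨r1, r2, r3, r4, r5⟩ := weyl a2 m2 ab ma cw m1 w1 (by simpa using h1) (by simpa using h2)
  refine ⟨(e (C⁻¹ * M * C) M).1 r1, ((e (C⁻¹ * (A * B) * C) (A * B * M)).1 r2).imp fun τ k =>
    ⟨k.1, k.2.trans (mul_assoc _ _ _).symm⟩, (e ((A * C)⁻¹ * M * (A * C)) (A * B)).1 r3,
    (e1 ((C * A) ^ 3)).1 (by rwa [map_pow]), r5.imp (e1 (C * C)).1 fun k => ?_⟩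
  obtain ⟨τ, hτ, k⟩ := (e (C * A * C⁻¹) (A * C * B)).1 k
  exact ⟨_, conj_mem_of_norm' (A * C).2 hτ, k.trans (by simp [A, B, C, mul_assoc])⟩

end Fr

end Dat

end CL.L4
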