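import Cfsg.Agent.INV.L4.FusB
import Cfsg.Agent.INV.L4.Api

/-!
An element interchanging two involutions of the four-group `⟨t, d⟩` normalises the torus.
-/

set_option autoImplicit false

noncomputable section

namespace CL.L4

open Matrix Subgroup Cfsg CL.ABG CL.R2 CL.L4.LL
open scoped MatrixGroups

namespace LL

variable {F : Type*} [Field F] [Fintype F] (x y : LL F)

open Classical in
/-- The quadratic character of the first determinant. -/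
def sg : F := (quadraticChar F x.A.det : ℤ)

theorem sg_mul : sg (x * y) = sg x * sg y := by rw [sg, mul_A, det_mul, map_mul, Int.cast_mul, sg, sg]

theorem sg_sq : sg x * sg x = 1 := by
  classical
  rw [sg, ← Int.cast_mul, ← sq]
  convert Int.cast_one
  convert quadraticChar_sq_one x.detA

theorem sg_of {c : F} (h : x.A.det = c * c) : sg x = 1 := by
  classical
  rw [sg]
  convert Int.cast_one
  convert (quadraticChar_one_iff_isSquare x.detA).2 ⟨c, h⟩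

theorem sg_sw : sg (sw x) = sg x := by
  have := sg_of (x * sw x) (c := 1) (by simp [x.det])
  rw [sg_mul] at this
  linear_combination (-sg (sw x)) * sg_sq x + sg x * this

theorem sg_neg (h : ¬ IsSquare x.A.det) : sg x = -1 := by
  classical
  rw [sg, ← Int.cast_one, ← Int.cast_neg]
  congr 1
  convert quadraticChar_neg_one_iff_not_isSquare.2 h

theorem det_sg : (sg x • x.A).det = x.A.det := by rw [det_smul, Fintype.card_fin, sq, sg_sq, one_mul]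

/-- The sign twist of the first block. -/
def ch : LL F →* LL F := MonoidHom.mk' (fun x => ⟨sg x • x.A, x.B, by rw [det_sg, x.det]⟩)
  fun x y => LL.ext (by simp [sg_mul, smul_smul, mul_comm]) rfl

@[simp] theorem ch_A : (ch x).A = sg x • x.A := rfl
@[simp] theorem ch_B : (ch x).B = x.B := rfl

theorem ch_ch : ch (ch x) = x := LL.ext (by
  rw [ch_A, ch_A, show sg (ch x) = sg x by rw [sg, ch_A, det_sg, sg], smul_smul, sg_sq, one_smul]) rfl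

theorem ch_of {c : F} (h : x.A.det = c * c) : ch x = x := LL.ext (by rw [ch_A, sg_of x h, one_smul]) rfl

theorem ch_mem {x : LL F} (h : x ∈ DD F) : ch x ∈ DD F := by
  rw [mem_DD] at h ⊢; simp [h]

end LL

theorem exists_dg_of_comm {F : Type*} [Field F] {s : SL(2, F)} {c : Fˣ} (hc : (c : F) * c ≠ 1)
    (h : dg c * s = s * dg c) : ∃ l, s = dg l := by
  have h1 := congrFun (congrFun (congrArg Subtype.val h) 0) 1
  have h2 := congrFun (congrFun (congrArg Subtype.val h) 1) 0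
  simp [coe_dg, Matrix.mul_apply, Fin.sum_univ_two] at h1 h2
  field_simp at h1 h2
  obtain ⟨l, b, rfl⟩ := bruhat_small (s := s) (mul_left_cancel₀ (sub_ne_zero.2 hc) (by linear_combination -h2))
  have : (dg l * up b).1 0 1 = 0 := mul_left_cancel₀ (sub_ne_zero.2 hc) (by linear_combination h1)
  simp [coe_dg, coe_up, Matrix.mul_apply, Fin.sum_univ_two] at this
  exact ⟨l, by rw [this, up_zero, mul_one]⟩

namespace Dat

variable {G F : Type*} [Group G] [Field F] [Fintype F] (Γ : Dat G F)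

/-- The datum twisted by the quadratic character. -/
def chi : Dat G F where
  ψ := Γ.ψ.comp ch
  n := Γ.n
  odd := Γ.odd
  ker x := by
    refine ⟨fun h => ?_, fun ⟨c, h1, h2⟩ => (Γ.ker _).2 ⟨c, by rwa [ch_of x (c := c) (by simp [h1, sq])], h2⟩⟩
    obtain ⟨c, h1, h2⟩ := (Γ.ker _).1 h
    exact ⟨c, by rwa [ch_of x (c := c) (by rw [← det_sg, ← ch_A, h1]; simp [sq])] at h1, h2⟩
  n2 := Γ.n2
  nsw x := (Γ.nsw _).trans (Γ.eq_of_smul (sg x) (by simp [sg_sw, smul_smul, sg_sq]) rfl)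
  out x := Γ.out _
  cent g hg := by
    rw [MonoidHom.comp_apply, ch_of _ (c := 1) (by rw [i1_A, (-1 : SL(2, F)).2, mul_one])] at hg
    obtain ⟨x, h⟩ := Γ.cent g hg
    exact ⟨ch x, by simpa [ch_ch] using h⟩

theorem chi_ι₁ (s : SL(2, F)) : Γ.chi.ι₁ s = Γ.ι₁ s := congrArg Γ.ψ (ch_of _ (c := 1) (by simp))
theorem chi_ι₂ (s : SL(2, F)) : Γ.chi.ι₂ s = Γ.ι₂ s := congrArg Γ.ψ (ch_of _ (c := 1) (by simp))
theorem chi_t : Γ.chi.t = Γ.t := Γ.chi_ι₁ _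
theorem chi_w : Γ.chi.w = Γ.w := by rw [w, chi_ι₁, chi_ι₂, w]

theorem chi_T : Γ.chi.T = Γ.T := le_antisymm (by rintro _ ⟨x, h, rfl⟩; exact ⟨_, ch_mem h, rfl⟩)
  (by rintro _ ⟨x, h, rfl⟩; exact ⟨_, ch_mem h, congrArg Γ.ψ (ch_ch x)⟩)

theorem chi_d (h : ¬ IsSquare (-1 : F)) : Γ.chi.d = Γ.t * Γ.d := by
  rw [td_eq]
  exact congrArg Γ.ψ (LL.ext (by rw [ch_A, sg_neg _ (by simpa using h)]; simp) rfl)

/-- `g` interchanges `t` and `d`. -/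
structure Sd (g : G) : Prop where
  h1 : g * Γ.t * g⁻¹ = Γ.d
  h2 : g * Γ.d * g⁻¹ = Γ.t

theorem sq_mem_T [Finite G] {x : G} (h1 : Commute x Γ.t) (h2 : Commute x Γ.d) : x * x ∈ Γ.T := by
  have k : ∀ τ ∈ Γ.T, ∀ k ∈ normalizer (Γ.T : Set G), k * k = 1 → τ * k * (τ * k) ∈ Γ.T := fun τ h k hk e => by
    simpa [inv_eq_of_mul_eq_one_right e, mul_assoc] using mul_mem h (conj_mem_of_norm hk h)
  obtain ⟨τ, hτ, rfl | rfl | rfl | rfl⟩ := Γ.mem_X h1 h2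
  exacts [mul_mem hτ hτ, k _ hτ _ Γ.w_norm Γ.ww, k _ hτ _ Γ.n_norm Γ.n2, by
    rw [mul_assoc τ]
    exact k _ hτ _ (mul_mem Γ.w_norm Γ.n_norm) (by rw [Γ.n_w.mul_mul_mul_comm, ww, Γ.n2, one_mul])]

theorem cd [Finite G] (h : IsConj Γ.t Γ.n) {u : SL(2, F)} (hu : u * u = -1) :
    ∃ k, k * Γ.t * k⁻¹ = Γ.n ∧ Commute k (Γ.two.dia u) := by
  obtain ⟨g, h1, -, h3⟩ := Γ.swap_n h
  obtain ⟨s, e⟩ := h3 u
  obtain ⟨c, rfl⟩ := isConj_iff.1 ((SL2Odd.like_SL Γ.odd).conj4 s u (SK.sq_of_dia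
    (by rw [← e, conj_mul, SK.dia_sq hu]; simp) (e ▸ mt conj_eq_one_iff.1 (SK.dia_ne hu))) hu)
  exact ⟨Γ.two.dia c * g, by rw [SK.conj_assoc', h1, (Γ.n_dia c).symm.mul_inv_cancel],
    mul_inv_eq_iff_eq_mul.1 (by rw [SK.conj_assoc', e]; simp)⟩

theorem conj_mem_Y {k y : G} (hk : Commute k Γ.t) (hy : y ∈ Γ.two.Y) : k * y * k⁻¹ ∈ Γ.two.Y := by
  obtain ⟨a, b, rfl⟩ := Γ.two.mem_Y.1 hy
  rw [← conj_mul]
  obtain ⟨x, rfl | rfl⟩ := Γ.comm_iff.1 hk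
  · obtain ⟨a', e1⟩ := (Γ.fix_ψ x).1 a
    obtain ⟨b', e2⟩ := (Γ.fix_ψ x).2 b
    exact Γ.two.mem_Y.2 ⟨a', b', by rw [e1, e2]⟩
  · obtain ⟨a', e1⟩ := (Γ.swp_out x).1 a
    obtain ⟨b', e2⟩ := (Γ.swp_out x).2 b
    exact Γ.two.mem_Y.2 ⟨b', a', by rw [e1, e2, (Γ.two.comm _ _).eq]⟩

namespace Sd

variable {Γ} {g x : G} (h : Γ.Sd g)
include h

theorem inv : Γ.Sd g⁻¹ := ⟨by nth_rw 1 [← h.h2]; group, by nth_rw 1 [← h.h1]; group⟩

theorem conj_X (h1 : Commute x Γ.t) (h2 : Commute x Γ.d) :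
    Commute (g * x * g⁻¹) Γ.t ∧ Commute (g * x * g⁻¹) Γ.d := ⟨h.h2 ▸ h2.conj g, h.h1 ▸ h1.conj g⟩

variable [Finite G]

theorem fr (hT : g ∈ normalizer (Γ.T : Set G)) {τ : G} (hτ : τ ∈ Γ.T) (hw : g * Γ.w * g⁻¹ = τ * Γ.n) :
    Γ.Fr (Γ.ι₁ nn * g * (Γ.ι₁ nn)⁻¹) := by
  refine ⟨?_, ?_, mul_mem (mul_mem Γ.n₁_norm hT) (inv_mem Γ.n₁_norm), _,
    mul_mem (conj_mem_of_norm Γ.n₁_norm hτ) Γ.t_mem_T, ?_⟩ <;> rw [SK.conj_assoc', SK.conj_assoc']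
  · rw [(Γ.two.comm₁ _).inv_left.mul_inv_cancel, h.h1, n₁_d]
  · rw [← n₁_d, ← SK.conj_assoc' _⁻¹, inv_mul_cancel, one_mul, inv_one, mul_one, h.h2,
      (Γ.two.comm₁ _).mul_inv_cancel]
  · rw [(show Commute _ Γ.w from (Commute.refl _).mul_right (Γ.two.comm nn nn)).inv_left.mul_inv_cancel, hw,
      ← conj_mul, n₁_n]
    simp only [mul_assoc]

theorem norm {c : Fˣ} (hc : ((c * c : Fˣ) : F) * (c * c : Fˣ) ≠ 1) : g ∈ normalizer (Γ.T : Set G) :=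
  mem_normalizer_fintype fun τ hτ => by
    have h1 := h.conj_X (Γ.T_t hτ) (Γ.T_d hτ)
    have h2 := h.inv.conj_X (Γ.T_t (Γ.dg₁_mem_T c)) (Γ.T_d (Γ.dg₁_mem_T c))
    refine Γ.mem_T_of_comm₁ h1.1 h1.2 hc ?_
    have := (Γ.T_comm hτ (Γ.sq_mem_T h2.1 h2.2)).conj g
    rwa [conj_mul, ← map_mul, ← dg_mul, ← SK.conj_assoc' g g⁻¹, mul_inv_cancel, one_mul, inv_one,
      mul_one] at this

omit [Finite G] in
theorem cases (hT : g ∈ normalizer (Γ.T : Set G)) : ∃ τ ∈ Γ.T, g * Γ.w * g⁻¹ = τ * Γ.w ∨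
    g * Γ.w * g⁻¹ = τ * Γ.n ∨ g * Γ.w * g⁻¹ = τ * Γ.w * Γ.n := by
  obtain ⟨τ, hτ, e⟩ := Γ.mem_X (h.conj_X Γ.w_t Γ.w_d).1 (h.conj_X Γ.w_t Γ.w_d).2
  refine ⟨τ, hτ, e.resolve_left fun e => Γ.w_notMem ?_⟩
  rw [← e] at hτ
  simpa [mul_assoc] using conj_mem_of_norm' hT hτ

theorem eight {a : F} (ha : a ^ 4 = -1) : ∃ g, Γ.Fr g := by
  have a0 : a ≠ 0 := by rintro rfl; simp at ha
  have two := Γ.two_ne
  have hT := h.norm (c := Units.mk0 a a0) fun e => two (by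
    simp only [Units.val_mul, Units.val_mk0] at e; linear_combination ha - e)
  have hz : a * a * a⁻¹ * a⁻¹ = 1 := by field_simp
  obtain ⟨b, c, e, f, hd, e1⟩ := Γ.mem_T.1 (conj_mem_of_norm hT (Γ.mem_T.2 ⟨_, _, _, _, hz, rfl⟩))
  have e2 : Γ.ψ (dgl b c e f hd) * Γ.ψ (dgl b c e f hd) = Γ.d := by
    rw [← e1, conj_mul, ← h.h1, ← map_mul, dgl_mul, t_eq_dgl]
    congr 2
    refine Γ.dgl_eq_iff.2 ⟨a⁻¹ * a⁻¹, ?_, ?_, by ring, by ring⟩ <;> field_simp <;> linear_combination ha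
  rw [← map_mul, dgl_mul, d] at e2
  obtain ⟨m, m1, m2, m3, m4⟩ := Γ.dgl_eq_iff.1 e2
  have e3 := (show Commute Γ.w _ from mul_inv_eq_iff_eq_mul.1 (Γ.w_dgl hz)).conj g
  rw [e1] at e3
  have b0 : b * b ≠ 0 := mul_self_ne_zero.2 (by rintro rfl; simp at hd)
  obtain ⟨τ, hτ, k | k | k⟩ := h.cases hT
  · have := ((Γ.T_comm hτ (Γ.mem_T.2 ⟨_, _, _, _, hd, rfl⟩)).inv_left.mul_left (k ▸ e3)).mul_inv_cancel
    rw [inv_mul_cancel_left, w_dgl, dgl_eq_iff] at this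
    obtain ⟨k, k1, k2, -⟩ := this
    exact absurd (mul_left_cancel₀ two (by linear_combination m1 + m2 + b * k2 - c * k1)) b0
  · exact ⟨_, h.fr hT hτ k⟩
  · have := ((Γ.T_comm hτ (Γ.mem_T.2 ⟨_, _, _, _, hd, rfl⟩)).inv_left.mul_left (k ▸ e3)).mul_inv_cancel
    rw [mul_assoc τ, inv_mul_cancel_left, SK.conj_assoc', n_dgl, w_dgl, dgl_eq_iff] at this
    obtain ⟨k, k1, -, -, k2⟩ := this
    exact absurd (mul_left_cancel₀ two (by linear_combination m1 + m4 + b * k2 - f * k1)) b0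

theorem nonsq (h1 : ¬ IsSquare (-1 : F)) (h3 : Fintype.card F ≠ 3) :
    ∃ (Γ' : Dat G F) (g : G), Γ'.t = Γ.t ∧ Γ'.Fr g := by
  obtain ⟨l, l0, hl⟩ := R2.exists_sq_ne Γ.odd h3
  have hT := h.norm (c := Units.mk0 l l0) fun e => by
    rw [Units.val_mul, Units.val_mk0, mul_self_eq_one_iff] at e
    exact e.elim (fun e => hl (by rw [sq, e])) fun e => h1 ⟨l, e.symm⟩
  have td : IsConj Γ.t Γ.d := isConj_iff.2 ⟨g, h.h1⟩
  obtain ⟨τ, hτ, k | k | k⟩ := h.cases hT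
  · have key : ∀ v ∈ Γ.two.Y, v * v = 1 → v ≠ 1 → v ≠ Γ.t → (∃ y, g * v * g⁻¹ = Γ.ψ y) →
        g * v * g⁻¹ ∈ Γ.two.Y := fun v hv v2 v1 vt ⟨y, e⟩ => by
      have nc : ¬ IsConj Γ.t (Γ.ψ y) := fun c =>
        vt (Γ.not_y h1 hv (c.trans (isConj_iff.2 ⟨g, e⟩).symm))
      rcases Γ.cls (x := y) (by rw [← e, conj_mul, v2]; simp) (e ▸ mt conj_eq_one_iff.1 v1) with
        c | ⟨z, c⟩ | c | ⟨⟨a, c⟩, -⟩
      exacts [(nc (c ▸ IsConj.refl _)).elim, (nc (td.trans (isConj_iff.2 ⟨_, c⟩))).elim, e ▸ c.2,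
        (h1 ⟨a * a, by rw [← c]; ring⟩).elim]
    obtain ⟨y, hy⟩ := Γ.T_ψ hτ
    obtain ⟨z, hz⟩ := Γ.w_ψ
    have k' : g * Γ.w * g⁻¹ = Γ.ψ (y * z) := by rw [k, map_mul, hy, ← hz]
    have y1 := key _ Γ.w_mem_Y Γ.ww (fun e => Γ.w_notMem (e ▸ one_mem _))
      (fun e => Γ.w_notMem (e ▸ Γ.t_mem_T)) ⟨_, k'⟩
    have y2 := key (Γ.t * Γ.w) (mul_mem (Γ.two.mem_Y.2 ⟨-1, 1, by simp⟩) Γ.w_mem_Y)
      (by rw [Γ.w_t.mul_mul_mul_comm, tt, ww, one_mul])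
      (fun e => Γ.w_notMem ((mul_mem_cancel_left Γ.t_mem_T).1 (e ▸ one_mem _)))
      (fun e => Γ.w_notMem ((mul_mem_cancel_left Γ.t_mem_T).1 (by rw [e]; exact Γ.t_mem_T)))
      ⟨_, by rw [← conj_mul, h.h1, k', d, ← map_mul]⟩
    rw [← conj_mul, h.h1, mul_mem_cancel_right y1] at y2
    exact (Γ.d_ne_t (Γ.not_y h1 y2 td)).elim
  · exact ⟨Γ, _, rfl, h.fr hT hτ k⟩
  · refine ⟨Γ.chi, g, Γ.chi_t, ?_, ?_, by rwa [chi_T], τ, by rwa [chi_T], by rwa [chi_w]⟩ <;>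
      rw [chi_t, chi_d _ h1, ← mul_assoc Γ.t, tt, one_mul]
    exacts [h.h1, h.h2]

theorem out_Y {u : SL(2, F)} (hu : u * u = -1) (hd : Γ.d = Γ.two.dia u) {Γ' : Dat G F} (e : Γ'.t = Γ.t)
    (hc : IsConj Γ.t Γ'.n) (hd' : Γ'.two.dia u = Γ.two.dia u) : g⁻¹ * Γ'.n * g ∈ Γ.two.Y := by
  obtain ⟨k, k1, k2⟩ := Γ'.cd (e ▸ hc) hu
  rw [hd', ← hd] at k2
  have := Γ.conj_mem_Y (k := g⁻¹ * k * g) (mul_inv_eq_iff_eq_mul.1 (by
    rw [SK.conj_assoc', h.h1, SK.conj_assoc', k2.mul_inv_cancel, h.inv.h2])) (hd ▸ Two.dia_mem_Y u)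
  rwa [SK.conj_assoc', h.h2, SK.conj_assoc', ← e, k1, inv_inv] at this

theorem five (hG : ∀ H : Subgroup G, H.index ≠ 2) (h1 : IsSquare (-1 : F)) (h8 : ∀ a : F, a ^ 4 ≠ -1) :
    ∃ g, Γ.Fr g := by
  obtain ⟨i, hi⟩ := id h1
  have i0 : i ≠ 0 := by rintro rfl; simp at hi
  have two := Γ.two_ne
  let I := Units.mk0 i i0
  have hI : ((I⁻¹ : Fˣ) : F) = -i := by
    rw [Units.val_inv_eq_inv_val]; exact inv_eq_of_mul_eq_one_right (by simp [I, ← hi])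
  have hu : dg I * dg I = -1 := by rw [← dg_mul, ← dg_neg_one]; congr 1; exact Units.ext hi.symm
  have hd : Γ.d = Γ.two.dia (dg I) := by
    rw [dia_eq]
    refine Γ.eq_of_smul (-i) ?_ ?_ <;> simp [coe_dg, hI, I, ← hi]
  let κ := dgl 1 i 1 (-i) (by linear_combination hi)
  have hk : Γ.ψ κ * Γ.n * (Γ.ψ κ * Γ.n) = 1 := by
    rw [mul_out]; refine (Γ.ker _).2 ⟨1, ?_, ?_⟩ <;> simp [κ, ← hi, one_fin_two]
  have y1 := h.out_Y hu hd rfl (by simpa using Γ.out5 hG h1 h8 (x := 1) (by simpa using Γ.n2)) rfl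
  have y2 := h.out_Y hu hd (Γ.tw_t κ hk) (Γ.out5 hG h1 h8 hk) (by
    rw [dia_eq, dia_eq, tw_ψ]
    congr 1
    refine LL.ext ?_ rfl
    rw [cj1_A, show κ.A * (dg I).1 = (dg I).1 * κ.A by simp [κ, coe_dg, mul_comm], mul_assoc, A_mul_inv,
      mul_one])
  have y3 := mul_mem y2 y1
  rw [tw_n, show g⁻¹ * (Γ.ψ κ * Γ.n) * g * (g⁻¹ * Γ.n * g) = g⁻¹ * Γ.ψ κ * g⁻¹⁻¹ by
    simp [mul_assoc, ← mul_assoc Γ.n, Γ.n2]] at y3
  obtain ⟨a, b, e⟩ := Γ.two.mem_Y.1 y3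
  have hκ : Γ.ψ κ ∈ Γ.T := Γ.mem_T.2 ⟨_, _, _, _, _, rfl⟩
  have e2 : Γ.ι₁ (a * a) * Γ.ι₂ (b * b) = Γ.ι₁ (-1) * Γ.ι₂ 1 := by
    rw [map_mul, map_mul, (Γ.two.comm a b).mul_mul_mul_comm, e, conj_mul, map_one, mul_one, ← map_mul,
      dgl_mul]
    refine Eq.trans ?_ h.inv.h2
    rw [d]
    congr 4 <;> simp [← hi]
  have hc : ∀ c : Fˣ, dg c * dg c = -1 → (c : F) * c ≠ 1 := fun c e e' => by
    rw [← dg_mul, ← dg_neg_one, dg_inj, Units.ext_iff, Units.val_mul, e'] at e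
    exact two (by simpa [← one_add_one_eq_two, add_eq_zero_iff_eq_neg] using e)
  have c1 := (h.inv.conj_X (Γ.T_t hκ) (Γ.T_d hκ)).2
  have key : ∀ x, Commute x Γ.t → Commute x Γ.d → Commute x (g⁻¹ * Γ.ψ κ * g⁻¹⁻¹) → x ∈ Γ.T := by
    intro x x1 x2 x3
    rw [hd, ← e] at c1
    rw [← e] at x3
    rcases Two.mul_eq_iff.1 e2 with ⟨a2, b2⟩ | ⟨a2, b2⟩
    · have : ∀ {z}, Commute z Γ.t → Commute z (Γ.ι₁ a * Γ.ι₂ b) → Commute z (Γ.ι₁ a) := fun z1 z2 => by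
        rcases (SL2Odd.like_SL Γ.odd).inv_eq b b2 with rfl | rfl
        exacts [by simpa using z2, by simpa [Γ.two.neg] using z2.mul_right z1.inv_right]
      have k := (this (Two.dia_comm_j _) c1.symm).mul_inv_cancel
      rw [Two.dia_conj₁] at k
      obtain ⟨l, rfl⟩ := exists_dg_of_comm (hc I hu) (mul_inv_eq_iff_eq_mul.1 (Γ.two.inj₁ k))
      exact Γ.mem_T_of_comm₁ x1 x2 (hc l a2) (this x1 x3)
    · have : ∀ {z}, Commute z Γ.t → Commute z (Γ.ι₁ a * Γ.ι₂ b) → Commute z (Γ.ι₂ b) := fun z1 z2 => by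
        rcases (SL2Odd.like_SL Γ.odd).inv_eq a (a2.trans (neg_neg _)) with rfl | rfl
        exacts [by simpa using z2, by simpa using z1.inv_right.mul_right z2]
      have k := (this (Two.dia_comm_j _) c1.symm).mul_inv_cancel
      rw [Two.dia_conj₂] at k
      obtain ⟨l, rfl⟩ := exists_dg_of_comm (hc I hu) (mul_inv_eq_iff_eq_mul.1 (Γ.two.inj₂ k))
      exact Γ.mem_T_of_comm₂ x1 x2 (hc l b2) (this x1 x3)
  have hT : g⁻¹ ∈ normalizer (Γ.T : Set G) := mem_normalizer_fintype fun τ hτ =>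
    key _ (h.inv.conj_X (Γ.T_t hτ) (Γ.T_d hτ)).1 (h.inv.conj_X (Γ.T_t hτ) (Γ.T_d hτ)).2
      ((Γ.T_comm hτ hκ).conj _)
  obtain ⟨y, hy⟩ := Γ.Y_ψ y1
  obtain ⟨z, hz⟩ := Γ.w_ψ
  obtain ⟨τ, hτ, k⟩ := Γ.mem_X (h.inv.conj_X Γ.n_t Γ.n_d).1 (h.inv.conj_X Γ.n_t Γ.n_d).2
  obtain ⟨v, hv⟩ := Γ.T_ψ hτ
  rw [inv_inv] at k
  rcases k with k | k | k | k
  · rw [← k] at hτ
    exact (Γ.out_notMem 1 (by simpa [mul_assoc] using conj_mem_of_norm' hT hτ)).elim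
  · exact ⟨_, h.fr (inv_mem_iff.1 hT) (conj_mem_of_norm' hT (inv_mem hτ)) (by
      rw [eq_inv_mul_iff_mul_eq.2 k.symm]; group)⟩
  · exact (Γ.out' _ _ (hy.symm.trans (hv ▸ k))).elim
  · exact (Γ.out' _ (v * z) (by rw [← hy, k, map_mul, hv, ← hz])).elim

end Sd

end Dat

theorem Dat.exists_fr {G F : Type*} [Group G] [Finite G] [Field F] [Fintype F] (Γ : Dat G F)
    (hG : ∀ H : Subgroup G, H.index ≠ 2) (h3 : Fintype.card F ≠ 3) :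
    ∃ (Γ' : Dat G F) (g : G), Γ'.t = Γ.t ∧ Γ'.Fr g := by
  obtain ⟨g, h1, h2⟩ := Γ.swap_d (Γ.td hG)
  have h : Γ.Sd g := ⟨h1, h2⟩
  by_cases h1 : IsSquare (-1 : F)
  · by_cases h8 : ∃ a : F, a ^ 4 = -1
    · exact let ⟨_, ha⟩ := h8; let ⟨g, hg⟩ := h.eight ha; ⟨Γ, g, rfl, hg⟩
    · exact let ⟨g, hg⟩ := h.five hG h1 (not_exists.1 h8); ⟨Γ, g, rfl, hg⟩
  · exact h.nonsq h1 h3

end CL.L4
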