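import Cfsg.Agent.INV.L4.Defs
import Cfsg.Agent.INV.L4.FusA0

set_option autoImplicit false

namespace CL.L4

open Matrix Subgroup Cfsg CL.ABG CL.R2 CL.L4.LL
open scoped MatrixGroups

namespace Dat

variable {G F : Type*} [Group G] [Finite G] [Field F] [Fintype F] (Γ : Dat G F)

/-- BLOCK FusA (~350 lines), local fusion.  `C = C(t)`, inner = `ψ x`, outer = `ψ x * n`, `D = dia SL₂`, `J = nn`.
`ppow`: odd order gives inner (`mul_out`, `eq_pow_sq_of_odd`); `A^(p^m) = c = B^(p^m)`, `c = c'^(p^m)` (Frobenius onto), `(A - c')^(p^m) = 0`, so `A = c' u`, `B = c' v`, `u`, `v` unipotent (Cayley-Hamilton). -/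
theorem ppow (p : ℕ) [Fact p.Prime] [CharP F p] {x : G} (hx : Commute x Γ.t) (h : ∃ m, x ^ p ^ m = 1) :
    ∃ u v : SL(2, F), u ^ p = 1 ∧ v ^ p = 1 ∧ x = Γ.ι₁ u * Γ.ι₂ v := by
  obtain ⟨u, v, hu, hv, e⟩ := Γ.ppow' p hx h
  exact ⟨u, v, pow_of_trace p hu, pow_of_trace p hv, e.trans (Γ.pr_eq u v).symm⟩

/-- `d` inverts the entries off the diagonal up to sign: it centralises no `p`-element of `C` (`Fix.comm_up` style, `u d₁ = ± d₁ u`, traces). -/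
theorem eq_one_of_d (p : ℕ) [Fact p.Prime] [CharP F p] {x : G} (hx : Commute x Γ.t) (hd : Commute x Γ.d)
    (h : ∃ m, x ^ p ^ m = 1) : x = 1 :=
  Γ.no_p p (by simp [trace_fin_two]) (by simp [trace_fin_two]) hx hd h

/-- Inner involutions: `A² = c = B²`, `c⁴ = 1`.  Both scalar: `t`.  One scalar `a`, the other of trace 0: `a⁴ = -1` (type s).  Both of trace 0: `det A = det B = -c`, `c = ±1`; `c = 1` (or `c = -1 = i²`, scale by `i`):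
diagonalise `A = P d₁ P⁻¹`, `B = Q d₁ Q⁻¹` and correct `det P det Q` by a diagonal matrix; otherwise `A, B ∈ SL₂` (type y). -/
theorem cls {x : LL F} (h2 : Γ.ψ x * Γ.ψ x = 1) (h1 : Γ.ψ x ≠ 1) :
    Γ.ψ x = Γ.t ∨ (∃ y, Γ.ψ y * Γ.d * (Γ.ψ y)⁻¹ = Γ.ψ x) ∨ (¬ IsSquare (-1 : F) ∧ Γ.ψ x ∈ Γ.two.Y) ∨
      ((∃ a : F, a ^ 4 = -1) ∧ Γ.ψ x ≠ Γ.t ∧
        ((∀ s, Commute (Γ.ψ x) (Γ.ι₁ s)) ∨ ∀ s, Commute (Γ.ψ x) (Γ.ι₂ s))) := by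
  by_cases ht : Γ.ψ x = Γ.t
  · exact Or.inl ht
  obtain ⟨c, e1, e2⟩ := Γ.sq_inn.1 h2
  rcases scal_or_trace e1 with ⟨a, hA⟩ | hA
  · exact Or.inr (Or.inr (Or.inr ⟨⟨a, (Γ.scal₁ h2 hA).resolve_left (not_or.2 ⟨h1, ht⟩)⟩, ht,
      Or.inl (Γ.comm₁_of_scal hA)⟩))
  rcases scal_or_trace e2 with ⟨a, hB⟩ | hB
  · exact Or.inr (Or.inr (Or.inr ⟨⟨a, (Γ.scal₂ h2 hB).resolve_left (not_or.2 ⟨h1, ht⟩)⟩, ht,
      Or.inr (Γ.comm₂_of_scal hB)⟩))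
  have dA := det_of_trace e1 hA
  have dB := det_of_trace e2 hB
  have hc : c * c = 1 := by have := x.det; rw [dA, dB] at this; linear_combination this
  rcases mul_self_eq_one_iff.1 hc with rfl | rfl
  · exact Or.inr (Or.inl (Γ.conj_d hA hB dA))
  by_cases hs : IsSquare (-1 : F)
  · obtain ⟨i, hi⟩ := hs
    have e : Γ.ψ ⟨i • x.A, i • x.B, by
        rw [det_smul, det_smul, dA, dB, Fintype.card_fin, pow_two, ← hi]; ring⟩ = Γ.ψ x :=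
      Γ.eq_of_smul i rfl rfl
    refine Or.inr (Or.inl (e ▸ Γ.conj_d ?_ ?_ ?_))
    · simp [hA]
    · simp [hB]
    · simp [dA, pow_two, ← hi]
  · exact Or.inr (Or.inr (Or.inl ⟨hs, Γ.mem_Y_of_det (c := 1) (by rw [dA]; ring) (by ring)⟩))

/-- Square roots of `t` lie in `L₁ ∪ L₂` if `-1` is not a square (outer: `AB = -c`, `BA = c`). -/
theorem root (h : ¬ IsSquare (-1 : F)) {x : G} (hx : x * x = Γ.t) : x ∈ Γ.two.L₁ ∨ x ∈ Γ.two.L₂ := by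
  have sq : ∀ a : F, a ^ 4 = 1 → a * a = 1 := fun a e =>
    (mul_self_eq_one_iff.1 (by linear_combination e : a * a * (a * a) = 1)).resolve_right
      fun e' => h ⟨a, e'.symm⟩
  obtain ⟨y, rfl | rfl⟩ := Γ.comm_iff.1 (hx ▸ (Commute.refl x).mul_right (Commute.refl x))
  · rw [← map_mul] at hx
    obtain ⟨c, e1, e2⟩ := Γ.eq_iff.1 hx
    replace e1 : y.A * y.A = (-c) • 1 := by simpa using e1
    replace e2 : y.B * y.B = c • 1 := e2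
    have hd := y.det
    rcases scal_or_trace e1 with ⟨a, hA⟩ | hA <;> rcases scal_or_trace e2 with ⟨b, hB⟩ | hB
    · rw [hA] at e1
      rw [hB] at e2
      rw [hA, hB, det_scal, det_scal, sq_of_scal e1, sq_of_scal e2] at hd
      exact absurd ⟨c, by linear_combination hd⟩ h
    · rw [hA] at e1
      rw [hA, det_scal] at hd
      have k := sq a (by rw [det_of_trace e2 hB, ← sq_of_scal e1] at hd; linear_combination hd)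
      exact Or.inr ⟨⟨a • y.B, by rw [det_smul, Fintype.card_fin, pow_two, hd]⟩,
        Γ.eq_of_smul a (by change 1 = a • y.A; rw [hA, smul_smul, k, one_smul]) rfl⟩
    · rw [hB] at e2
      rw [hB, det_scal, mul_comm] at hd
      have k := sq b (by rw [det_of_trace e1 hA, ← sq_of_scal e2] at hd; linear_combination hd)
      exact Or.inl ⟨⟨b • y.A, by rw [det_smul, Fintype.card_fin, pow_two, hd]⟩,
        Γ.eq_of_smul b rfl (by change 1 = b • y.B; rw [hB, smul_smul, k, one_smul])⟩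
    · rw [det_of_trace e1 hA, det_of_trace e2 hB] at hd
      exact absurd ⟨c, by linear_combination hd⟩ h
  · rw [mul_out] at hx
    obtain ⟨c, e1, e2⟩ := Γ.eq_iff.1 hx
    replace e1 : y.A * y.B = (-c) • 1 := by simpa using e1
    replace e2 : y.B * y.A = c • 1 := e2
    have k := trace_mul_comm y.A y.B
    rw [e1, e2, trace_smul, trace_smul, trace_one, Fintype.card_fin, smul_eq_mul, smul_eq_mul] at k
    have k1 : c = 0 := by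
      have : 2 * (2 * c) = 0 := by push_cast at k; linear_combination -k
      simpa [Γ.two_ne] using this
    have := congrArg det e1
    rw [det_mul, y.det, k1, neg_zero, zero_smul, det_zero] at this
    exact absurd this one_ne_zero

/-- `Pair.conj_invol`: `v = dia J`.  It has the non-commuting roots `ψ ⟨1, J⟩ n`, `ψ ⟨1 + J, (1 + J) / 2⟩ n` in `C`.  If `k v k⁻¹ = t`, their conjugates are non-commuting roots of `t`, both in one `Lᵢ`, centralised by `t' = k t k⁻¹ ∈ C`;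
so `t'` is inner with scalar `i`-th block, `t' = t` (`a⁴ = -1` is impossible), `v = t`. -/
theorem not_y (h : ¬ IsSquare (-1 : F)) {v : G} (hv : v ∈ Γ.two.Y) (hc : IsConj Γ.t v) : v = Γ.t := by
  by_contra hne
  have h2 := Γ.two_ne
  obtain ⟨c, rfl⟩ := isConj_iff.1 hc
  obtain ⟨y, -, e⟩ := Γ.two.pair.conj_invol hv (by rw [conj_mul, Γ.tt]; simp)
    (mt conj_eq_one_iff.1 Γ.t_ne) hne (Two.dia_mem_Y nn) (Γ.dia_sq nn_mul_nn) (Γ.dia_ne_one nn_mul_nn)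
    (Γ.dia_ne_t nn)
  let x₁ : LL F := ⟨1, nn.1, by simp⟩
  let x₂ : LL F := ⟨!![1, 1; -1, 1], !![2⁻¹, 2⁻¹; -2⁻¹, 2⁻¹], by
    simp only [det_fin_two_of]; field_simp; ring⟩
  have i2 : (2 : F)⁻¹ + 2⁻¹ = 1 := by field_simp; ring
  have r1 : Γ.ψ x₁ * Γ.n * (Γ.ψ x₁ * Γ.n) = Γ.two.dia nn := by
    rw [mul_out, dia_eq']; congr 1; exact LL.ext (one_mul _) (mul_one _)
  have r2 : Γ.ψ x₂ * Γ.n * (Γ.ψ x₂ * Γ.n) = Γ.two.dia nn := by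
    rw [mul_out, dia_eq']; congr 1
    refine LL.ext ?_ ?_ <;> simp [x₂, coe_nn, i2, ← neg_add]
  have r3 : ¬ Commute (Γ.ψ x₁ * Γ.n) (Γ.ψ x₂ * Γ.n) := fun k => by
    rw [commute_iff_eq, mul_out, mul_out] at k
    obtain ⟨a, k, -⟩ := Γ.eq_iff.1 k
    simp [x₁, x₂, coe_nn] at k
    exact one_ne_zero (by linear_combination k.1.1 + k.1.2 - i2 : (1 : F) = 0)
  have main : ∀ k : G, k * Γ.two.dia nn * k⁻¹ = Γ.t → k * (Γ.ψ x₁ * Γ.n) * k⁻¹ ∈ Γ.two.L₁ →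
      k * (Γ.ψ x₂ * Γ.n) * k⁻¹ ∈ Γ.two.L₁ → False := by
    rintro k e ⟨s₁, e1⟩ ⟨s₂, e2⟩
    have c1 : Commute (k * Γ.t * k⁻¹) (Γ.ι₁ s₁) :=
      e1 ▸ ((Γ.ψ_t _).mul_left Γ.n_t).symm.conj k
    have c2 : Commute (k * Γ.t * k⁻¹) (Γ.ι₁ s₂) :=
      e2 ▸ ((Γ.ψ_t _).mul_left Γ.n_t).symm.conj k
    have nc : s₁.1 * s₂.1 ≠ s₂.1 * s₁.1 := fun q => r3 (by
      have := (Commute.map (show Commute s₁ s₂ from Subtype.ext q) Γ.ι₁).conj k⁻¹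
      rw [e1, e2] at this
      simpa [mul_assoc] using this)
    obtain ⟨z, e3 | e3⟩ := Γ.comm_iff.1 (e ▸ (Γ.dia_t nn).symm.conj k : Commute (k * Γ.t * k⁻¹) Γ.t)
    · rw [e3] at c1 c2
      have q : ∀ s, Commute (Γ.ψ z) (Γ.ι₁ s) → s.1 * z.A = z.A * s.1 :=
        fun s => ((Γ.acts₁ z).comm_iff Γ.two.inj₁).1
      obtain ⟨a, hA⟩ := scal_of_comm (q _ c1) (q _ c2) nc
      rcases Γ.scal₁ (by rw [← e3, conj_mul, Γ.tt]; simp) hA with (k1 | k1) | k1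
      · exact Γ.t_ne (conj_eq_one_iff.1 (e3.trans k1))
      · exact Γ.dia_ne_t nn (conj_injective ((e3.trans k1).symm ▸ e))
      · exact h ⟨a * a, by linear_combination -k1⟩
    · rw [e3] at c1
      obtain ⟨a, k1, -⟩ := Γ.comm_out.1 c1
      have k2 : (1 : Matrix (Fin 2) (Fin 2) F) = a • s₁.1 :=
        right_cancel_of_det z.detA (by simpa using k1)
      have k3 : a ≠ 0 := by rintro rfl; simp at k2
      exact nc (by rw [← inv_smul_eq_iff₀ k3] at k2; simp [← k2])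
  have e' : (y * c)⁻¹ * Γ.two.dia nn * (y * c)⁻¹⁻¹ = Γ.t := by rw [← e]; group
  generalize (y * c)⁻¹ = k at e'
  have sw : ∀ x, k * x * k⁻¹ ∈ Γ.two.L₂ → Γ.n * k * x * (Γ.n * k)⁻¹ ∈ Γ.two.L₁ := by
    rintro x ⟨s, e⟩
    exact ⟨s, by rw [← Γ.n_ι₂, e]; group⟩
  rcases Γ.root h (x := k * (Γ.ψ x₁ * Γ.n) * k⁻¹) (by rw [conj_mul, r1, e']) with a1 | a1 <;>
    rcases Γ.root h (x := k * (Γ.ψ x₂ * Γ.n) * k⁻¹) (by rw [conj_mul, r2, e']) with a2 | a2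
  · exact main k e' a1 a2
  · exact r3 (by simpa [mul_assoc] using Commute.conj (Γ.two.pair.comm _ a1 _ a2) k⁻¹)
  · exact r3 (by simpa [mul_assoc] using (Commute.conj (Γ.two.pair.comm _ a2 _ a1) k⁻¹).symm)
  · exact main (Γ.n * k) (by
      rw [show Γ.n * k * Γ.two.dia nn * (Γ.n * k)⁻¹ = Γ.n * (k * Γ.two.dia nn * k⁻¹) * Γ.n⁻¹ by group, e',
        Γ.n_t.eq, mul_inv_cancel_right]) (sw _ a1) (sw _ a2)

/-- Type s is not conjugate to `t`: if `k s k⁻¹ = t`, `s` centralising `Lᵢ`, then `k Lᵢ k⁻¹ ≤ Y` (`ppow`, `nn_eq_ulu`), `t' = k t k⁻¹ ∈ Y` is an involution `≠ t`, `= ι₁ j ι₂ j'` with `j² = j'² = -1` (`Pair.invol`), and centralises a `p`-element `≠ 1` of `C`: impossible. -/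
theorem inn {x : LL F} (h : IsConj Γ.t (Γ.ψ x)) :
    Γ.ψ x = Γ.t ∨ ∃ y, Γ.ψ y * Γ.d * (Γ.ψ y)⁻¹ = Γ.ψ x := by
  obtain ⟨p, _⟩ := CharP.exists F
  have : Fact p.Prime := ⟨CharP.char_is_prime F p⟩
  obtain ⟨c, e⟩ := isConj_iff.1 h
  rcases Γ.cls (x := x) (by rw [← e, conj_mul, Γ.tt]; simp) (e ▸ mt conj_eq_one_iff.1 Γ.t_ne) with
    k | k | ⟨k, k'⟩ | ⟨-, k, k'⟩
  · exact Or.inl k
  · exact Or.inr k
  · exact Or.inl (Γ.not_y k k' h)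
  exfalso
  have main : ∀ ι : SL(2, F) →* G, Function.Injective ι → ι (-1) = Γ.t →
      (∀ s, Commute (Γ.ψ x) (ι s)) → False := by
    intro ι hι h1 hc
    have a1 : ∀ s, Commute (c⁻¹ * ι s * c⁻¹⁻¹) Γ.t := fun s => by
      simpa [← e, mul_assoc] using (hc s).symm.conj c⁻¹
    have a2 : ∀ s : SL(2, F), s.1.trace = 2 → ∃ m, (c⁻¹ * ι s * c⁻¹⁻¹) ^ p ^ m = 1 := fun s hs =>
      ppow_conj _ ⟨1, by rw [pow_one, ← map_pow, pow_of_trace p hs, map_one]⟩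
    have a3 : ∀ s : SL(2, F), s.1.trace = 2 → c⁻¹ * ι s * c⁻¹⁻¹ ∈ Γ.two.Y := fun s hs => by
      obtain ⟨u, v, -, -, e⟩ := Γ.ppow p (a1 s) (a2 s hs)
      exact Γ.two.mem_Y.2 ⟨u, v, e.symm⟩
    have a4 : c⁻¹ * ι nn * c⁻¹⁻¹ ∈ Γ.two.Y := by
      rw [nn_eq_ulu, map_mul, map_mul, ← conj_mul, ← conj_mul]
      exact mul_mem (mul_mem (a3 _ (trace_up _)) (a3 _ (trace_lo _))) (a3 _ (trace_up _))
    have a5 : c⁻¹ * Γ.t * c⁻¹⁻¹ ∈ Γ.two.Y := by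
      rw [← h1, ← nn_mul_nn, map_mul, ← conj_mul]; exact mul_mem a4 a4
    obtain ⟨_, ⟨j, rfl⟩, _, ⟨j', rfl⟩, b1, b2, b3⟩ := Γ.two.pair.invol a5 (by rw [conj_mul, Γ.tt]; simp)
      (mt conj_eq_one_iff.1 Γ.t_ne) fun q => k (by
        rw [← e]; exact mul_inv_eq_iff_eq_mul.2 (by simpa [mul_assoc, eq_inv_mul_iff_mul_eq] using q.symm))
    have t1 : j * j = -1 := Γ.two.inj₁ ((map_mul _ _ _).trans b1)
    have t2 : j' * j' = -1 := Γ.two.inj₂ ((map_mul _ _ _).trans (b2.trans Γ.two.neg.symm))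
    have := Γ.no_p p (z := pr j j') (trace_of_sq_neg Γ.two_ne t1) (trace_of_sq_neg Γ.two_ne t2)
      (a1 (up 1)) (by
        rw [← pr_eq, b3, ← h1]
        exact (Commute.map (by simp [Commute, SemiconjBy]) ι).conj _) (a2 _ (trace_up 1))
    rw [conj_eq_one_iff, map_eq_one_iff _ hι, up_eq_one] at this
    exact one_ne_zero this
  exact k'.elim (main _ Γ.two.inj₁ rfl) (main _ Γ.two.inj₂ Γ.two.neg)

theorem cent_tn {g : G} (h1 : Commute g Γ.t) (h2 : Commute g Γ.n) :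
    ∃ x : LL F, (x.B = x.A ∨ x.B = -x.A) ∧ (g = Γ.ψ x ∨ g = Γ.ψ x * Γ.n) := by
  obtain ⟨x, e⟩ := Γ.comm_iff.1 h1
  refine ⟨x, ?_, e⟩
  have h3 : Commute (Γ.ψ x) Γ.n := by
    rcases e with rfl | rfl
    · exact h2
    · simpa using h2.mul_left (Commute.refl Γ.n).inv_left
  obtain ⟨c, e1, e2⟩ := Γ.comm_n.1 h3
  have h4 : (c * c) • (1 : Matrix (Fin 2) (Fin 2) F) = (1 : F) • 1 := right_cancel_of_det x.detA (by
    rw [smul_mul_assoc, smul_mul_assoc, one_mul, one_smul, mul_smul, ← e2, ← e1])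
  exact (mul_self_eq_one_iff.1 (smul_one_inj h4)).imp (fun k => by simpa [k] using e2)
    fun k => by simpa [k] using e2

/-- `p`-elements of `C(t, n)` are in `D`; hence an element normalising `{t, n}` normalises `D` (generated by `dia (up _)`, `dia (lo _)`). -/
theorem norm_dia {Γ' : Dat G F} (e : Γ'.t = Γ.t) {k : G}
    (h : (k * Γ.t * k⁻¹ = Γ.t ∧ k * Γ.n * k⁻¹ = Γ'.n) ∨ (k * Γ.t * k⁻¹ = Γ'.n ∧ k * Γ.n * k⁻¹ = Γ.t))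
    (s : SL(2, F)) : ∃ s', k * Γ.two.dia s * k⁻¹ = Γ'.two.dia s' := by
  obtain ⟨p, _⟩ := CharP.exists F
  have : Fact p.Prime := ⟨CharP.char_is_prime F p⟩
  have a : ∀ s : SL(2, F), s.1.trace = 2 →
      s ∈ Γ'.two.dia.range.comap ((MulAut.conj k).toMonoidHom.comp Γ.two.dia) := fun s hs => by
    have c1 := (Γ.dia_t s).conj k
    have c2 := (Γ.n_dia s).symm.conj k
    have : Commute (k * Γ.two.dia s * k⁻¹) Γ'.t ∧ Commute (k * Γ.two.dia s * k⁻¹) Γ'.n := by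
      rcases h with ⟨h1, h2⟩ | ⟨h1, h2⟩ <;> rw [h1] at c1 <;> rw [h2] at c2 <;> rw [e]
      exacts [⟨c1, c2⟩, ⟨c2, c1⟩]
    obtain ⟨s', e⟩ := Γ'.p_tn p this.1 this.2
      (ppow_conj _ ⟨1, by rw [pow_one, ← map_pow, pow_of_trace p hs, map_one]⟩)
    exact ⟨s', e.symm⟩
  obtain ⟨s', e⟩ := sl2_gen (fun r => a _ (trace_up r)) (a _ (trace_lo _)) s
  exact ⟨s', e.symm⟩

/-- `x d x⁻¹ = t`, `t' = x t x⁻¹ ∈ C`.  `t'` outer would centralise a `p`-element of `C` (use `tw`), against `eq_one_of_d`; so `inn` applies. -/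
theorem swap_d (h : IsConj Γ.t Γ.d) : ∃ g, g * Γ.t * g⁻¹ = Γ.d ∧ g * Γ.d * g⁻¹ = Γ.t := by
  obtain ⟨p, _⟩ := CharP.exists F
  have : Fact p.Prime := ⟨CharP.char_is_prime F p⟩
  obtain ⟨x, e⟩ := isConj_iff.1 h.symm
  obtain ⟨z, e' | e'⟩ := Γ.comm_iff.1 (e ▸ Γ.d_t.symm.conj x : Commute (x * Γ.t * x⁻¹) Γ.t)
  · rcases Γ.inn (isConj_iff.2 ⟨x, e'⟩) with k | ⟨y, k⟩
    · exact absurd (conj_injective (e.trans (e'.trans k).symm)) Γ.d_ne_t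
    · refine ⟨(Γ.ψ y)⁻¹ * x, ?_, ?_⟩
      · rw [show (Γ.ψ y)⁻¹ * x * Γ.t * ((Γ.ψ y)⁻¹ * x)⁻¹ = (Γ.ψ y)⁻¹ * (x * Γ.t * x⁻¹) * Γ.ψ y by group,
          e', ← k]; group
      · rw [show (Γ.ψ y)⁻¹ * x * Γ.d * ((Γ.ψ y)⁻¹ * x)⁻¹ = (Γ.ψ y)⁻¹ * (x * Γ.d * x⁻¹) * Γ.ψ y by group,
          e, mul_assoc, ← (Γ.ψ_t y).eq, inv_mul_cancel_left]
  · have h2 : Γ.ψ z * Γ.n * (Γ.ψ z * Γ.n) = 1 := by rw [← e', conj_mul, Γ.tt]; simp
    have c1 := ((Γ.tw z h2).dia_t (up 1)).conj x⁻¹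
    have c2 := ((Γ.tw z h2).n_dia (up 1)).symm.conj x⁻¹
    rw [tw_t, ← e] at c1
    rw [tw_n, ← e'] at c2
    exact absurd (conj_eq_one_iff.1 (Γ.eq_one_of_d p (by simpa [mul_assoc] using c2)
      (by simpa [mul_assoc] using c1) (ppow_conj x⁻¹ (ppow_up p _ 1)))) (Γ.tw z h2).dia_up_ne

/-- `x n x⁻¹ = t`, `t' = x t x⁻¹ ∈ C` is outer (`C(t,t') ∋ x dia (up 1) x⁻¹`, `inn`, `eq_one_of_d`), `Γ' = tw` with `n' = t'`.  `k = Γ'.ι₁ J` fixes `t`, `f' = Γ'.dia J` and maps `t' ↦ t' t f'`.  `x⁻¹ f' x = f = dia j₀`, `j₀² = -1` (`norm_dia` for `x⁻¹`; every subgroup is finite).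
`z = x⁻¹ k x` fixes `n`, `f`, maps `t ↦ t n f`; `κ = ι₁ j₀` fixes `t`, `f`, maps `n ↦ n t f`.  `g = κ⁻¹ z⁻¹ κ`. -/
theorem swap_n (h : IsConj Γ.t Γ.n) : ∃ g, g * Γ.t * g⁻¹ = Γ.n ∧ g * Γ.n * g⁻¹ = Γ.t ∧
    ∀ s, ∃ s', g * Γ.two.dia s * g⁻¹ = Γ.two.dia s' := by
  obtain ⟨p, _⟩ := CharP.exists F
  have : Fact p.Prime := ⟨CharP.char_is_prime F p⟩
  suffices ∃ g, g * Γ.t * g⁻¹ = Γ.n ∧ g * Γ.n * g⁻¹ = Γ.t by
    obtain ⟨g, h1, h2⟩ := this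
    exact ⟨g, h1, h2, Γ.norm_dia rfl (Or.inr ⟨h1, h2⟩)⟩
  obtain ⟨x, e⟩ := isConj_iff.1 h.symm
  obtain ⟨z, e' | e'⟩ := Γ.comm_iff.1 (e ▸ Γ.n_t.symm.conj x : Commute (x * Γ.t * x⁻¹) Γ.t)
  · rcases Γ.inn (isConj_iff.2 ⟨x, e'⟩) with k | ⟨y, k⟩
    · exact absurd (conj_injective (e.trans (e'.trans k).symm)) Γ.n_ne_t
    · have c1 := ((Γ.dia_t (up 1)).conj x).conj (Γ.ψ y)⁻¹
      have c2 := ((Γ.n_dia (up 1)).symm.conj x).conj (Γ.ψ y)⁻¹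
      rw [e', ← k] at c1
      rw [e, (Γ.ψ_t y).inv_left.eq, mul_inv_cancel_right] at c2
      exact absurd (conj_eq_one_iff.1 (conj_eq_one_iff.1 (Γ.eq_one_of_d p c2
        (by simpa [mul_assoc] using c1) (ppow_conj _ (ppow_conj x (ppow_up p _ 1)))))) Γ.dia_up_ne
  have h2 : Γ.ψ z * Γ.n * (Γ.ψ z * Γ.n) = 1 := by rw [← e', conj_mul, Γ.tt]; simp
  obtain ⟨Γ', t1, t2⟩ : ∃ Γ' : Dat G F, Γ'.t = Γ.t ∧ x * Γ.t * x⁻¹ = Γ'.n := ⟨Γ.tw z h2, Γ.tw_t z h2, e'⟩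
  have b1 : x⁻¹ * Γ'.t * x⁻¹⁻¹ = Γ.n := by rw [t1, ← e]; group
  have b2 : x⁻¹ * Γ'.n * x⁻¹⁻¹ = Γ.t := by rw [← t2]; group
  obtain ⟨j, hj⟩ := Γ'.norm_dia (Γ' := Γ) t1.symm (k := x⁻¹) (Or.inr ⟨b1, b2.trans t1.symm⟩) nn
  have j2 := Γ'.sq_of_conj nn_mul_nn hj
  obtain ⟨w, w1, w2, w3⟩ : ∃ w, w * Γ.n * w⁻¹ = Γ.n ∧ w * Γ.two.dia j * w⁻¹ = Γ.two.dia j ∧
      w * Γ.t * w⁻¹ = Γ.t * Γ.n * Γ.two.dia j := by
    refine ⟨x⁻¹ * Γ'.ι₁ nn * x⁻¹⁻¹, mul_inv_eq_iff_eq_mul.2 ?_, mul_inv_eq_iff_eq_mul.2 ?_, ?_⟩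
    · exact b1 ▸ Commute.conj (Γ'.two.comm₁ nn) x⁻¹
    · exact hj ▸ Commute.conj (Γ'.ι₁_dia nn) x⁻¹
    · have := congrArg (fun y => x⁻¹ * y * x⁻¹⁻¹) (Γ'.kap nn_mul_nn)
      rw [← hj, ← b1, ← b2]
      simpa [mul_assoc] using this
  have k1 := Γ.kap j2
  have k2 : Γ.ι₁ j * Γ.t * (Γ.ι₁ j)⁻¹ = Γ.t := mul_inv_eq_iff_eq_mul.2 (Γ.two.comm₁ j)
  have k3 : Γ.ι₁ j * Γ.two.dia j * (Γ.ι₁ j)⁻¹ = Γ.two.dia j := mul_inv_eq_iff_eq_mul.2 (Γ.ι₁_dia j)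
  have cj : ∀ a b c y : G, a * b * c * y * (a * b * c)⁻¹ = a * (b * (c * y * c⁻¹) * b⁻¹) * a⁻¹ :=
    fun _ _ _ _ => by group
  have wl : ∀ a b c : G, a * (b * c) * a⁻¹ = a * b * a⁻¹ * (a * c * a⁻¹) := fun _ _ _ => by group
  refine ⟨Γ.ι₁ j * w * Γ.ι₁ j, ?_, ?_⟩
  · rw [cj, k2, w3, ← conj_mul, ← conj_mul, k1, k2, k3, mul_assoc, mul_assoc, Γ.dia_sq j2, mul_one,
      Γ.n_t.eq, ← mul_assoc, Γ.tt, one_mul]
  · rw [cj, k1, wl w, wl w, w1, w2, w3, mul_assoc Γ.n, mul_assoc (Γ.t * Γ.n), Γ.dia_sq j2,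
      mul_one, ← Γ.n_t.eq, ← mul_assoc Γ.n, Γ.n2, one_mul, k2]

/-- conjugate by `ψ ⟨diag (i,1) J⁰.., ..⟩`: `n t = ψ ⟨i•1, (i•1)⁻¹⟩ n`, and `ψ ⟨P, Q⟩ n ψ ⟨P, Q⟩⁻¹ = ψ ⟨P Q⁻¹, Q P⁻¹⟩ n`; `P = diag (i, 1)`, `Q = diag (1, -i)`. -/
theorem conj_nt (h : IsSquare (-1 : F)) : ∃ y, Γ.ψ y * Γ.n * (Γ.ψ y)⁻¹ = Γ.n * Γ.t := by
  obtain ⟨i, hi⟩ := h
  have h0 : i * 1 * 1 * -i = 1 := by linear_combination hi
  refine ⟨dgl i 1 1 (-i) h0, ?_⟩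
  rw [mul_inv_eq_iff_eq_mul, Γ.n_t.eq, mul_assoc, n_mul, ← mul_assoc, mul_left_inj, t_mul]
  exact Γ.eq_of_smul (-i) (by simp [← hi]) (by simp [← hi])

/-- `g` from `swap_n` maps `t · dia J` (in `Y`, `not_y`) to `n · dia j`, `j² = -1`, and `ι₁ j` conjugates `n t` to `n · dia j`. -/
theorem not_nt (h : ¬ IsSquare (-1 : F)) (hn : IsConj Γ.t Γ.n) : ¬ IsConj Γ.t (Γ.n * Γ.t) := by
  intro hc
  obtain ⟨g, h1, -, h3⟩ := Γ.swap_n hn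
  obtain ⟨j, hj⟩ := h3 nn
  have e : IsConj (Γ.t * Γ.two.dia nn) (Γ.n * Γ.two.dia j) :=
    isConj_iff.2 ⟨g, by rw [← conj_mul, h1, hj]⟩
  have := Γ.not_y h (mul_mem (mem_sup_left ⟨-1, rfl⟩) (Two.dia_mem_Y nn))
    ((hc.trans (isConj_iff.2 ⟨_, Γ.kap' (Γ.sq_of_conj nn_mul_nn hj)⟩)).trans e.symm)
  exact Γ.dia_ne_one nn_mul_nn (mul_eq_left.1 this)

/-- `d = dia (dg i)`; `g` from `swap_n` maps `t d` to `n · dia j`, conjugate to `n t`, to `n` (`conj_nt`); `n₁_d`. -/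
theorem td_of_n (h : IsSquare (-1 : F)) (hn : IsConj Γ.t Γ.n) : IsConj Γ.t Γ.d := by
  obtain ⟨g, h1, -, h3⟩ := Γ.swap_n hn
  obtain ⟨y, hy⟩ := Γ.conj_nt h
  obtain ⟨i, hi⟩ := h
  have i0 : i ≠ 0 := by rintro rfl; simp at hi
  have i1 : i⁻¹ = -i := inv_eq_of_mul_eq_one_right (by linear_combination hi)
  have e1 : Γ.two.dia (dg (Units.mk0 i i0)) = Γ.d := by
    rw [dia_eq']
    exact Γ.eq_of_smul i (by simp [coe_dg, i1]) (by simp [coe_dg, i1])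
  have e2 : dg (Units.mk0 i i0) * dg (Units.mk0 i i0) = -1 := Subtype.ext (by
    simp [coe_dg, i1, ← hi, GL2.mat_ext_iff])
  obtain ⟨j, hj⟩ := h3 (dg (Units.mk0 i i0))
  have j2 := Γ.sq_of_conj e2 hj
  rw [e1] at hj
  have e : IsConj (Γ.t * Γ.d) (Γ.n * Γ.two.dia j) := isConj_iff.2 ⟨g, by rw [← conj_mul, h1, hj]⟩
  exact (((hn.trans (isConj_iff.2 ⟨_, hy⟩)).trans (isConj_iff.2 ⟨_, Γ.kap' j2⟩)).trans e.symm).trans
    (isConj_iff.2 ⟨_, Γ.n₁_d⟩).symm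

/-- Every outer involution is conjugate in `C` into `T n`: `ψ ⟨A, c A⁻¹⟩ n`, `A = s · diag (det A, 1)`; conjugate by `ι₁ s⁻¹`. -/
theorem out_conj {x : LL F} (h : Γ.ψ x * Γ.n * (Γ.ψ x * Γ.n) = 1) :
    ∃ y, ∃ τ ∈ Γ.T, Γ.ψ y * (Γ.ψ x * Γ.n) * (Γ.ψ y)⁻¹ = τ * Γ.n := by
  rw [mul_out, Γ.ker] at h
  obtain ⟨c, e1, e2⟩ := h
  replace e1 : x.A * x.B = c • 1 := e1
  replace e2 : x.B * x.A = c • 1 := e2
  have hc : c * c = 1 := by rw [← det_scal, ← e1, det_mul, x.det]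
  have h0 := x.detA
  let s : SL(2, F) := ⟨x.A * !![x.A.det⁻¹, 0; 0, 1], by rw [det_mul, det_fin_two_of]; field_simp; ring⟩
  refine ⟨(i1 s)⁻¹, _, Γ.mem_T.2 ⟨x.A.det, 1, c * x.A.det⁻¹, c, by field_simp; linear_combination hc, rfl⟩, ?_⟩
  rw [map_inv, inv_inv, mul_assoc, mul_assoc, n_mul, ← mul_assoc, ← mul_assoc, mul_left_inj, mul_assoc,
    inv_mul_eq_iff_eq_mul, ← map_mul, ← map_mul]
  congr 1
  refine LL.ext ?_ ?_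
  · change x.A * 1 = x.A * _ * _
    rw [mul_assoc]
    simp [h0, ← one_fin_two]
  · change x.B * (x.A * _) = 1 * _
    rw [← mul_assoc, e2]
    simp

end Dat

end CL.L4
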