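import Cfsg.Agent.INV.L4.FusA
import Cfsg.Agent.INV.ThompsonTransfer
import Cfsg.Agent.INV.R2.SigB
import Cfsg.Agent.SYL.NE1

/-!
Groups with an involution centraliser of type `PSL₄(q)`: global fusion of involutions.
-/

set_option autoImplicit false

namespace CL.L4

open Matrix Subgroup Cfsg CL.ABG CL.R2 CL.L4.LL CL.MSS
open scoped MatrixGroups

namespace FB

variable {G : Type*} [Group G]

theorem relIndex_dvd {S M : Subgroup G} (h : ∀ a ∈ S, ∀ b ∈ S, a ∉ M → b ∉ M → a * b ∈ M) :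
    (S ⊓ M).relIndex S ∣ 2 := by
  rw [relIndex_dvd_two_iff]
  by_cases e : S ≤ M
  · exact ⟨1, one_mem _, fun b hb => Or.inr ⟨hb, e hb⟩⟩
  · obtain ⟨a, ha, ha'⟩ := SetLike.not_le_iff_exists.1 e
    refine ⟨a, ha, fun b hb => ?_⟩
    by_cases hb' : b ∈ M
    · exact Or.inr ⟨hb, hb'⟩
    · exact Or.inl ⟨mul_mem hb ha, h b hb a ha hb' ha'⟩

/-- An element whose centraliser has index at most two in a Sylow subgroup is conjugate into the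
centre or is extremal. -/
theorem extremal [Finite G] (S : Sylow 2 G) {y : G} (hy : y ∈ (S : Subgroup G))
    (h : ((S : Subgroup G) ⊓ centralizer {y}).relIndex S ∣ 2) :
    (∃ g, g * y * g⁻¹ ∈ (S : Subgroup G) ∧ ∀ s ∈ (S : Subgroup G), Commute (g * y * g⁻¹) s) ∨
      SylIn 2 ((S : Subgroup G) ⊓ centralizer {y}) (centralizer {y}) := by
  obtain ⟨P, hP, hle⟩ := exists_sylIn_ge (p := 2) (R := (S : Subgroup G) ⊓ centralizer {y})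
    (H := centralizer {y}) (S.2.to_le inf_le_left) inf_le_right
  by_cases e : P ≤ (S : Subgroup G) ⊓ centralizer {y}
  · exact Or.inr (le_antisymm e hle ▸ hP)
  left
  have h1 := CL.NE.two_mul_card_le hle e
  have h2 := (((S : Subgroup G) ⊓ centralizer {y}).subgroupOf S).card_mul_index
  rw [Nat.card_congr (subgroupOfEquivOfLe inf_le_left).toEquiv] at h2
  have h3 : Nat.card (S : Subgroup G) ≤ Nat.card P := by
    have := Nat.le_of_dvd two_pos h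
    rw [← h2]
    exact (Nat.mul_le_mul_left _ this).trans (by omega)
  obtain ⟨x, -, hx⟩ := ((sylIn_top S).of_card_le hP.pgroup le_top h3).exists_conj (sylIn_top S)
  refine ⟨x, hx ▸ ⟨y, hle ⟨hy, mem_centralizer_singleton_iff.2 rfl⟩, rfl⟩, fun s hs => ?_⟩
  rw [← hx] at hs
  obtain ⟨u, hu, rfl⟩ := hs
  have := mem_centralizer_singleton_iff.1 (hP.le hu)
  change x * y * x⁻¹ * (x * u * x⁻¹) = x * u * x⁻¹ * (x * y * x⁻¹)
  calc _ = x * (y * u) * x⁻¹ := by group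
    _ = _ := by rw [← this]; group

theorem scal_of_comm {F : Type*} [Field F] {m : Matrix (Fin 2) (Fin 2) F} {a b : SL(2, F)}
    (ha : a.1 * m = m * a.1) (hb : b.1 * m = m * b.1) (hab : a * b ≠ b * a) : ∃ c : F, m = c • 1 := by
  rw [← GL2.isScal_iff]
  by_contra h
  exact hab (GL2.centSL_comm h (GL2.mem_centSL.2 ha) (GL2.mem_centSL.2 hb))

theorem isSquare_mul {F : Type*} [Field F] [Fintype F] {a b : F} (ha : ¬ IsSquare a) (hb : ¬ IsSquare b) :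
    IsSquare (a * b) := by
  classical
  have a0 : a ≠ 0 := fun e => ha (e ▸ IsSquare.zero)
  have b0 : b ≠ 0 := fun e => hb (e ▸ IsSquare.zero)
  rw [← quadraticChar_one_iff_isSquare (mul_ne_zero a0 b0), map_mul,
    quadraticChar_neg_one_iff_not_isSquare.2 ha, quadraticChar_neg_one_iff_not_isSquare.2 hb]
  rfl

theorem isSquare_B {F : Type*} [Field F] (x : LL F) : IsSquare x.B.det ↔ IsSquare x.A.det := by
  rw [eq_inv_of_mul_eq_one_right x.det]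
  exact ⟨fun h => by simpa using h.inv, fun h => h.inv⟩

end FB

namespace Dat

variable {G F : Type*} [Group G] [Finite G] [Field F] [Fintype F] (Γ : Dat G F)

omit [Finite G] in
include Γ in
theorem fb_neg_ne_one : (-1 : SL(2, F)) ≠ 1 := Dk.neg_one_ne_one_SL2 Γ.two_ne

omit [Finite G] in
theorem fb_ι₁_ne_ι₂ {a : SL(2, F)} (ha : a * a = -1) (s : SL(2, F)) : Γ.ι₁ a ≠ Γ.ι₂ s := fun e => by
  rcases Γ.two.inter a s e with rfl | rfl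
  · exact Γ.fb_neg_ne_one (by simpa using ha.symm)
  · exact Γ.fb_neg_ne_one (by simpa using ha.symm)

theorem fb_syl' : ∃ S : Sylow 2 G, Γ.t ∈ (S : Subgroup G) ∧ Γ.n ∈ (S : Subgroup G) ∧
    (∀ s ∈ (S : Subgroup G), Commute s Γ.t) ∧
    (∀ z ∈ (S : Subgroup G), (∀ s ∈ (S : Subgroup G), Commute z s) → z = 1 ∨ z = Γ.t) ∧
    ∃ a : SL(2, F), a * a = -1 ∧ Γ.ι₁ a ∈ (S : Subgroup G) := by
  obtain ⟨R, hR, a, ha, b, hb, a2, b2, hab⟩ := exists_quat (F := F) Γ.odd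
  let K : Subgroup G := R.map Γ.ι₁ ⊔ R.map Γ.ι₂
  have hK : IsPGroup 2 K := (hR.map _).to_sup_of_normal_right' (hR.map _) (by
    rintro _ ⟨u, -, rfl⟩
    refine centralizer_le_normalizer _ ?_
    rintro _ ⟨v, -, rfl⟩
    exact (Γ.two.comm u v).symm)
  have hn : zpowers Γ.n ≤ normalizer (K : Set G) := zpowers_le.2 (mem_normalizer_fintype fun x hx => by
    have : K ≤ K.comap (MulAut.conj Γ.n).toMonoidHom := sup_le (by
      rintro _ ⟨u, hu, rfl⟩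
      exact mem_sup_right ⟨u, hu, (Γ.n_ι₁ u).symm⟩) (by
      rintro _ ⟨u, hu, rfl⟩
      exact mem_sup_left ⟨u, hu, (Γ.n_ι₂ u).symm⟩)
    exact this hx)
  have hP := (CL.SylowAux.isPGroup_zpowers_two Γ.n2).to_sup_of_normal_right' hK hn
  have hle : zpowers Γ.n ⊔ K ≤ Γ.two.H := sup_le (zpowers_le.2 (Γ.two.mem_H.2 Γ.n_t))
    ((sup_le_sup (map_le_range _ _) (map_le_range _ _)).trans Γ.two.Y_le_H)
  obtain ⟨P, hP1, hP2⟩ := exists_sylIn_ge hP hle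
  have m1 : ∀ u ∈ R, Γ.ι₁ u ∈ P := fun u hu => hP2 (mem_sup_right (mem_sup_left ⟨u, hu, rfl⟩))
  have m2 : ∀ u ∈ R, Γ.ι₂ u ∈ P := fun u hu => hP2 (mem_sup_right (mem_sup_right ⟨u, hu, rfl⟩))
  have mn : Γ.n ∈ P := hP2 (mem_sup_left (mem_zpowers _))
  have mt : Γ.t ∈ P := by
    have := m1 _ (mul_mem ha ha)
    rwa [a2] at this
  have hc : ∀ s ∈ P, Commute s Γ.t := fun s hs => Γ.two.mem_H.1 (hP1.le hs)
  have hZ : ∀ z ∈ P, (∀ s ∈ P, Commute z s) → z = 1 ∨ z = Γ.t := by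
    intro z hz h
    obtain ⟨x, rfl | rfl⟩ := Γ.comm_iff.1 (hc z hz)
    · obtain ⟨c, hc⟩ := FB.scal_of_comm (((Γ.acts₁ x).comm_iff Γ.two.inj₁).1 (h _ (m1 a ha)))
        (((Γ.acts₁ x).comm_iff Γ.two.inj₁).1 (h _ (m1 b hb))) hab
      obtain ⟨c', hc'⟩ := FB.scal_of_comm (((Γ.acts₂ x).comm_iff Γ.two.inj₂).1 (h _ (m2 a ha)))
        (((Γ.acts₂ x).comm_iff Γ.two.inj₂).1 (h _ (m2 b hb))) hab
      have h1 : Γ.ψ (sw x) = Γ.ψ x := by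
        rw [← Γ.nsw, ← (h _ mn).eq, mul_inv_cancel_right]
      obtain ⟨k, k1, k2⟩ := Γ.eq_iff.1 h1
      simp only [sw_A, sw_B, hc, hc', smul_smul] at k1 k2
      have k3 := smul_one_inj k1
      have k4 := smul_one_inj k2
      have c0 : c ≠ 0 := fun e => x.detA (by simp [hc, e])
      have k5 : k * k = 1 := mul_left_cancel₀ c0 (by rw [k3] at k4; linear_combination -k4)
      rcases mul_self_eq_one_iff.1 k5 with rfl | rfl
      · exact Or.inl ((Γ.ker _).2 ⟨c, hc, by rw [hc', k3, one_mul]⟩)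
      · exact Or.inr (Γ.eq_of_smul c' (by simp [hc, k3]) (by simp [hc']))
    · obtain ⟨s, hs⟩ := (Γ.swp_out x).1 a
      rw [(h _ (m1 a ha)).eq, mul_inv_cancel_right] at hs
      exact absurd hs (Γ.fb_ι₁_ne_ι₂ a2 s)
  have hS : SylIn 2 P ⊤ := hP1.of_normalizer_le le_top fun g hg => by
    have hg' := hg.2
    rcases hZ _ ((mem_normalizer_iff.1 hg' _).1 mt) (fun s hs => by
      have h1 : g⁻¹ * s * g ∈ P := (mem_normalizer_iff''.1 hg' _).1 hs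
      have h2 := (hc _ h1).eq
      change _ * s = s * _
      calc _ = g * (Γ.t * (g⁻¹ * s * g)) * g⁻¹ := by group
        _ = _ := by rw [← h2]; group) with e | e
    · exact absurd (by simpa using e) Γ.t_ne
    · exact Γ.two.mem_H.2 (mul_inv_eq_iff_eq_mul.1 e)
  obtain ⟨S, rfl⟩ := sylIn_top_iff.1 hS
  exact ⟨S, mt, mn, hc, hZ, a, a2, m1 a ha⟩

/-- BLOCK FusB, global fusion: a Sylow subgroup with centre `⟨t⟩`. -/
theorem syl : ∃ S : Sylow 2 G, Γ.t ∈ (S : Subgroup G) ∧ Γ.n ∈ (S : Subgroup G) ∧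
    (∀ s ∈ (S : Subgroup G), Commute s Γ.t) ∧
    ∀ z ∈ (S : Subgroup G), (∀ s ∈ (S : Subgroup G), Commute z s) → z = 1 ∨ z = Γ.t :=
  let ⟨S, h1, h2, h3, h4, _⟩ := Γ.fb_syl'; ⟨S, h1, h2, h3, h4⟩

/-- A normal subgroup of even order meets `Z(S)`. -/
theorem mem_of_normal {N : Subgroup G} [N.Normal] (h : Even (Nat.card N)) : Γ.t ∈ N := by
  obtain ⟨S, -, -, -, hZ⟩ := Γ.syl
  have h1 : (S : Subgroup G) ⊓ N ≠ ⊥ := (sylIn_inf_normal S N).ne_bot h.two_dvd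
  obtain ⟨y, hy, hy1, -, hy2⟩ := CL.NE.step S.2 (B := ⊥) (F := (S : Subgroup G) ⊓ N) bot_le inf_le_left
    (fun g _ x hx => by simp [mem_bot.1 hx]) (fun g hg x hx =>
      mem_inf.2 ⟨mul_mem (mul_mem hg hx.1) (inv_mem hg), (inferInstance : N.Normal).conj_mem x hx.2 g⟩)
    (by rwa [le_bot_iff])
  rcases hZ y hy.1 (fun s hs => by
    have := inv_mul_eq_one.1 (mem_bot.1 (hy2 s hs))
    exact (eq_mul_inv_iff_mul_eq.1 this)) with e | e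
  · exact absurd (mem_bot.2 e) hy1
  · exact e ▸ hy.2

section Sq

omit [Finite G]

/-- Inner elements whose first block has square determinant. -/
def FbSq (g : G) : Prop := ∃ x : LL F, IsSquare x.A.det ∧ g = Γ.ψ x

theorem fb_sq_iff {x : LL F} : Γ.FbSq (Γ.ψ x) ↔ IsSquare x.A.det := by
  refine ⟨fun ⟨y, hy, e⟩ => ?_, fun h => ⟨x, h, rfl⟩⟩
  obtain ⟨c, h1, -⟩ := Γ.eq_iff.1 e
  rw [h1, det_smul, Fintype.card_fin]
  exact (IsSquare.sq c).mul hy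

theorem fb_sq_of_mem_Y {g : G} (h : g ∈ Γ.two.Y) : Γ.FbSq g := by
  obtain ⟨a, b, rfl⟩ := Γ.two.mem_Y.1 h
  exact ⟨i1 a * i2 b, by simp, (map_mul Γ.ψ _ _).symm⟩

theorem fb_tw_sq (k : LL F) (h) {g : G} : (Γ.tw k h).FbSq g ↔ Γ.FbSq g := by
  have e : ∀ (k x : LL F), (cj1 k x).A.det = x.A.det := fun k x =>
    det_conj ((isUnit_iff_isUnit_det _).2 k.detA.isUnit) _
  exact ⟨fun ⟨x, hx, e1⟩ => ⟨cj1 k x, by rwa [e], e1⟩,
    fun ⟨x, hx, e1⟩ => ⟨cj1 k⁻¹ x, by rwa [e], by rw [tw_ψ, cj1_cj1, e1]⟩⟩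

/-- The subgroup of index at most two in the centraliser. -/
def FbM : Subgroup G where
  carrier := {g | ∃ x : LL F, IsSquare x.A.det ∧ (g = Γ.ψ x ∨ g = Γ.ψ x * Γ.n)}
  one_mem' := ⟨1, by simp, Or.inl (map_one _).symm⟩
  mul_mem' := by
    rintro _ _ ⟨x, hx, rfl | rfl⟩ ⟨y, hy, rfl | rfl⟩
    · exact ⟨x * y, by rw [mul_A, det_mul]; exact hx.mul hy, Or.inl (map_mul _ _ _).symm⟩
    · exact ⟨x * y, by rw [mul_A, det_mul]; exact hx.mul hy, Or.inr (by rw [map_mul, mul_assoc])⟩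
    · exact ⟨x * sw y, by rw [mul_A, det_mul]; exact hx.mul ((FB.isSquare_B y).2 hy),
        Or.inr (by rw [mul_assoc, n_mul, map_mul, mul_assoc])⟩
    · exact ⟨x * sw y, by rw [mul_A, det_mul]; exact hx.mul ((FB.isSquare_B y).2 hy),
        Or.inl (Γ.mul_out x y)⟩
  inv_mem' := by
    have e : ∀ x : LL F, IsSquare x.A.det → IsSquare x⁻¹.A.det := fun x hx => by
      rw [inv_A, det_nonsing_inv, Ring.inverse_eq_inv']; exact hx.inv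
    rintro _ ⟨x, hx, rfl | rfl⟩
    · exact ⟨x⁻¹, e x hx, Or.inl (map_inv _ _).symm⟩
    · exact ⟨sw x⁻¹, (FB.isSquare_B _).2 (e x hx), Or.inr (by
        rw [_root_.mul_inv_rev, n_inv, ← map_inv, n_mul])⟩

theorem fb_mul_mem_MSq {a b : G} (ha : Commute a Γ.t) (hb : Commute b Γ.t) (h1 : a ∉ Γ.FbM)
    (h2 : b ∉ Γ.FbM) : a * b ∈ Γ.FbM := by
  obtain ⟨x, hx⟩ := Γ.comm_iff.1 ha
  obtain ⟨y, hy⟩ := Γ.comm_iff.1 hb
  have x1 : ¬ IsSquare x.A.det := fun e => h1 ⟨x, e, hx⟩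
  have y1 : ¬ IsSquare y.A.det := fun e => h2 ⟨y, e, hy⟩
  have y2 : ¬ IsSquare y.B.det := fun e => y1 ((FB.isSquare_B y).1 e)
  rcases hx with rfl | rfl <;> rcases hy with rfl | rfl
  · exact ⟨x * y, by rw [mul_A, det_mul]; exact FB.isSquare_mul x1 y1, Or.inl (map_mul _ _ _).symm⟩
  · exact ⟨x * y, by rw [mul_A, det_mul]; exact FB.isSquare_mul x1 y1, Or.inr (by rw [map_mul, mul_assoc])⟩
  · exact ⟨x * sw y, by rw [mul_A, det_mul]; exact FB.isSquare_mul x1 y2,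
      Or.inr (by rw [mul_assoc, n_mul, map_mul, mul_assoc])⟩
  · exact ⟨x * sw y, by rw [mul_A, det_mul]; exact FB.isSquare_mul x1 y2, Or.inl (Γ.mul_out x y)⟩

theorem fb_conj_d_inner {g : G} (hg : Commute g Γ.t) :
    ∃ y, g * Γ.d * g⁻¹ = Γ.ψ y * Γ.d * (Γ.ψ y)⁻¹ := by
  obtain ⟨y, rfl | rfl⟩ := Γ.comm_iff.1 hg
  · exact ⟨y, rfl⟩
  · exact ⟨y, by rw [mul_assoc (Γ.ψ y), Γ.n_d.eq]; group⟩

theorem fb_not_sq_conj_d (h : ¬ IsSquare (-1 : F)) {g : G} (hg : Commute g Γ.t) : ¬ Γ.FbSq (g * Γ.d * g⁻¹) := by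
  obtain ⟨y, e⟩ := Γ.fb_conj_d_inner hg
  rw [e, d, ← map_inv, ← map_mul, ← map_mul, fb_sq_iff, mul_A, mul_A, inv_A,
    det_conj ((isUnit_iff_isUnit_det _).2 y.detA.isUnit)]
  simpa [det_fin_two_of] using h

theorem fb_conj_d_ne_out {g : G} (hg : Commute g Γ.t) (z : LL F) : g * Γ.d * g⁻¹ ≠ Γ.ψ z * Γ.n := by
  obtain ⟨y, e⟩ := Γ.fb_conj_d_inner hg
  rw [e, d, ← map_inv, ← map_mul, ← map_mul]
  exact Γ.out' _ _

/-- Outer involutions of `MSq`. -/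
theorem fb_out_sq (h : ¬ IsSquare (-1 : F)) {x : LL F} (hx : IsSquare x.A.det)
    (h2 : Γ.ψ x * Γ.n * (Γ.ψ x * Γ.n) = 1) :
    IsConj (Γ.ψ x * Γ.n) Γ.n ∨ IsConj (Γ.ψ x * Γ.n) (Γ.n * Γ.t) := by
  rw [mul_out, Γ.ker] at h2
  obtain ⟨c, h1, -⟩ := h2
  simp only [mul_A, sw_A] at h1
  obtain ⟨e, he⟩ := hx
  have e0 : e ≠ 0 := fun e0 => x.detA (by simp [he, e0])
  have hc : c * c = 1 := by
    have := congrArg det h1
    rw [det_mul, x.det, det_smul, det_one, Fintype.card_fin] at this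
    linear_combination -this
  obtain ⟨l, hl⟩ : ∃ l : F, l ^ 4 * (e * e) = 1 := by
    by_cases h3 : IsSquare e⁻¹
    · obtain ⟨l, hl⟩ := h3
      exact ⟨l, by rw [show l ^ 4 = (l * l) ^ 2 by ring, ← hl]; field_simp⟩
    · obtain ⟨l, hl⟩ := FB.isSquare_mul h h3
      exact ⟨l, by rw [show l ^ 4 = (l * l) ^ 2 by ring, ← hl]; field_simp⟩
  let y : LL F := ⟨l • 1, l • x.A, by
    rw [det_smul, det_smul, det_one, Fintype.card_fin, he]; linear_combination hl⟩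
  let z : LL F := ⟨1, c • 1, by rw [det_smul, det_one, Fintype.card_fin]; linear_combination hc⟩
  have key : Γ.ψ y * (Γ.ψ x * Γ.n) * (Γ.ψ y)⁻¹ = Γ.ψ z * Γ.n := by
    rw [mul_inv_eq_iff_eq_mul, mul_assoc, n_mul, ← mul_assoc, ← mul_assoc, ← map_mul, ← map_mul]
    congr 2
    exact LL.ext (by simp [y, z]) (by simp [y, z, h1, smul_comm l c])
  rcases mul_self_eq_one_iff.1 hc with rfl | rfl
  · refine Or.inl (isConj_iff.2 ⟨_, key.trans ?_⟩)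
    rw [show z = 1 from LL.ext rfl (by simp [z]), map_one, one_mul]
  · refine Or.inr (isConj_iff.2 ⟨_, key.trans ?_⟩)
    rw [Γ.n_t.eq, show z = i2 (-1) from LL.ext rfl (by simp [z])]
    exact congrArg (· * Γ.n) Γ.two.neg

theorem fb_ι₁_conj_nt {j : SL(2, F)} (hj : j * j = -1) :
    Γ.ι₁ j * (Γ.n * Γ.t) * (Γ.ι₁ j)⁻¹ = Γ.n * Γ.two.dia j := by
  have e1 : Γ.ι₁ j * Γ.n = Γ.n * Γ.ι₂ j := by rw [← Γ.n_ι₂ j, inv_mul_cancel_right]
  have e2 : Γ.t * (Γ.ι₁ j)⁻¹ = Γ.ι₁ j := by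
    rw [mul_inv_eq_iff_eq_mul, ← map_mul, hj]
  calc _ = Γ.ι₁ j * Γ.n * (Γ.t * (Γ.ι₁ j)⁻¹) := by group
    _ = _ := by rw [e1, e2, Two.dia_apply, mul_assoc, (Γ.two.comm j j).eq]

end Sq

theorem fb_nt_conj (hn : IsConj Γ.t Γ.n) : IsConj (Γ.n * Γ.t) (Γ.t * Γ.two.dia nn) := by
  obtain ⟨g, g1, -, g3⟩ := Γ.swap_n hn
  obtain ⟨j, hj⟩ := g3 nn
  have j2 : j * j = -1 := SK.sq_of_dia (Γ := Γ.two) (by
    rw [← hj, conj_mul, SK.dia_sq nn_mul_nn]; simp) (by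
    rw [← hj]; simpa using SK.dia_ne (Γ := Γ.two) nn_mul_nn)
  refine (isConj_iff.2 ⟨_, Γ.fb_ι₁_conj_nt j2⟩).trans (IsConj.symm (isConj_iff.2 ⟨g, ?_⟩))
  rw [← conj_mul, g1, hj]

theorem fb_swap_sq (h : ¬ IsSquare (-1 : F)) (hn : IsConj Γ.t Γ.n) {y : G} (h1 : Commute y Γ.t)
    (h2 : Commute y Γ.n) (h3 : Γ.FbSq y) :
    ∃ g, g * Γ.n * g⁻¹ = Γ.t ∧ (Γ.FbSq (g * y * g⁻¹) ∨ ∃ z, g * y * g⁻¹ = Γ.ψ z * Γ.n) := by
  obtain ⟨g, g1, g2, g3⟩ := Γ.swap_n hn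
  refine ⟨g, g2, ?_⟩
  obtain ⟨x, hx, rfl | rfl⟩ := Γ.cent_tn h1 h2
  · have h4 : x.A.det * x.A.det = 1 := by
      have := x.det
      rcases hx with e | e <;> simpa [e, det_neg] using this
    have h5 : x.A.det = 1 := (mul_self_eq_one_iff.1 h4).resolve_right fun e => h (e ▸ Γ.fb_sq_iff.1 h3)
    obtain ⟨r, hr⟩ : ∃ r : SL(2, F), r.1 = x.A := ⟨⟨x.A, h5⟩, rfl⟩
    obtain ⟨s, hs⟩ := g3 r
    rcases hx with e | e
    · have : Γ.ψ x = Γ.two.dia r := by rw [dia_eq]; exact congrArg _ (LL.ext hr.symm (e.trans hr.symm))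
      rw [this, hs]
      exact Or.inl (Γ.fb_sq_of_mem_Y (Two.dia_mem_Y s))
    · have : Γ.ψ x = Γ.t * Γ.two.dia r := by
        rw [dia_eq, t_mul]; exact Γ.eq_of_smul (-1) (by simp [hr]) (by simp [e, hr])
      rw [this, ← conj_mul, g1, hs, dia_eq, n_mul]
      exact Or.inr ⟨_, rfl⟩
  · obtain ⟨z, -, e⟩ := h3
    exact absurd e.symm (Γ.out' _ _)

theorem fb_not_Y (h : ¬ IsSquare (-1 : F)) (hd : ¬ IsConj Γ.t Γ.d) {x : G} (h1 : x * Γ.d * x⁻¹ ∈ Γ.two.Y)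
    (h2 : Commute (x * Γ.t * x⁻¹) Γ.t) : False := by
  obtain ⟨k, e | e⟩ := Γ.comm_iff.1 h2
  · rcases Γ.inn (x := k) (isConj_iff.2 ⟨x, e⟩) with e1 | ⟨y, e1⟩
    · exact Γ.fb_not_sq_conj_d h (mul_inv_eq_iff_eq_mul.1 (e.trans e1)) (Γ.fb_sq_of_mem_Y h1)
    · exact hd ((isConj_iff.2 ⟨x, e⟩).trans (isConj_iff.2 ⟨_, e1⟩).symm)
  · have h3 : Γ.ψ k * Γ.n * (Γ.ψ k * Γ.n) = 1 := by rw [← e, conj_mul, tt]; simp
    obtain ⟨g, g1, g2⟩ := (Γ.tw k h3).fb_swap_sq h (y := x * Γ.d * x⁻¹)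
      (by rw [tw_t, tw_n]; exact isConj_iff.2 ⟨x, e⟩)
      (by rw [tw_t]; exact Γ.two.mem_H.1 (Γ.two.Y_le_H h1)) (by rw [tw_n, ← e]; exact Γ.d_t.conj x)
      ((Γ.fb_tw_sq k h3).2 (Γ.fb_sq_of_mem_Y h1))
    rw [tw_t, tw_n, ← e] at g1
    have g3 : Commute (g * x) Γ.t := mul_inv_eq_iff_eq_mul.1 (Eq.trans (by group) g1)
    rw [show g * (x * Γ.d * x⁻¹) * g⁻¹ = g * x * Γ.d * (g * x)⁻¹ by group] at g2
    rcases g2 with g2 | ⟨z, g2⟩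
    · exact Γ.fb_not_sq_conj_d h g3 ((Γ.fb_tw_sq k h3).1 g2)
    · rw [tw_ψ, tw_n, ← mul_assoc, ← map_mul] at g2
      exact Γ.fb_conj_d_ne_out g3 _ g2

theorem fb_not_conj_Y (h : ¬ IsSquare (-1 : F)) (hd : ¬ IsConj Γ.t Γ.d) {y : G} (hy : y ∈ Γ.two.Y)
    (hc : IsConj Γ.d y) : False := by
  obtain ⟨S, mt, mn, hC, hZ, a, a2, ma⟩ := Γ.fb_syl'
  have nY : ∀ g, Commute g Γ.t → ∀ u ∈ Γ.two.Y, g * u * g⁻¹ ∈ Γ.two.Y := by
    intro g hg u hu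
    obtain ⟨s, s', rfl⟩ := Γ.two.mem_Y.1 hu
    rw [← conj_mul]
    obtain ⟨x, rfl | rfl⟩ := Γ.comm_iff.1 hg
    · obtain ⟨r, e⟩ := (Γ.fix_ψ x).1 s
      obtain ⟨r', e'⟩ := (Γ.fix_ψ x).2 s'
      exact Γ.two.mem_Y.2 ⟨r, r', by rw [e, e']⟩
    · obtain ⟨r, e⟩ := (Γ.swp_out x).1 s
      obtain ⟨r', e'⟩ := (Γ.swp_out x).2 s'
      exact Γ.two.mem_Y.2 ⟨r', r, by rw [e, e', (Γ.two.comm r' r).eq]⟩
  have tY : Γ.t ∈ Γ.two.Y := mem_sup_left ⟨_, rfl⟩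
  have two : ∀ u ∈ zpowers Γ.t, u = 1 ∨ u = Γ.t := fun u hu => eq_or_of_mem_zpowers Γ.tt hu
  obtain ⟨v, hv, v1, v2, v3⟩ := CL.NE.step S.2 (B := zpowers Γ.t) (F := (S : Subgroup G) ⊓ Γ.two.Y)
    (zpowers_le.2 ⟨mt, tY⟩) inf_le_left (fun g hg u hu => by
      rcases two u hu with rfl | rfl
      · simp
      · rw [(hC g hg).eq, mul_inv_cancel_right]; exact hu)
    (fun g hg u hu => mem_inf.2 ⟨mul_mem (mul_mem hg hu.1) (inv_mem hg), nY g (hC g hg) u hu.2⟩) (fun e => by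
      rcases two _ (e ⟨ma, mem_sup_left ⟨a, rfl⟩⟩) with e1 | e1
      · exact Γ.fb_ι₁_ne_ι₂ a2 1 (by rw [map_one]; exact e1)
      · exact Γ.fb_ι₁_ne_ι₂ a2 (-1) (e1.trans Γ.two.neg.symm))
  have vv : v * v = 1 := by
    refine (two _ v2).resolve_right fun e => v1 ?_
    have e1 : Γ.n * v * Γ.n⁻¹ = v * (v⁻¹ * (Γ.n * v * Γ.n⁻¹)) := by group
    have t1 : zpowers Γ.t ≤ Γ.two.L₁ := zpowers_le.2 ⟨_, rfl⟩
    have t2 : zpowers Γ.t ≤ Γ.two.L₂ := zpowers_le.2 ⟨_, Γ.two.neg⟩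
    have e2 : ∀ u, u ∈ Γ.two.L₁ → u ∈ Γ.two.L₂ → u ∈ zpowers Γ.t := fun u u1 u2 => by
      rcases Γ.two.pair.inf u u1 u2 with rfl | rfl
      exacts [one_mem _, mem_zpowers _]
    have e3 : Γ.n * v * Γ.n⁻¹ ∈ zpowers Γ.t := by
      rcases Γ.root h e with hr | hr
      · refine e2 _ (e1 ▸ mul_mem hr (t1 (v3 _ mn))) ?_
        obtain ⟨s, rfl⟩ := hr
        exact ⟨s, (Γ.n_ι₁ s).symm⟩
      · refine e2 _ ?_ (e1 ▸ mul_mem hr (t2 (v3 _ mn)))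
        obtain ⟨s, rfl⟩ := hr
        exact ⟨s, (Γ.n_ι₂ s).symm⟩
    convert mul_mem e3 (inv_mem (v3 _ mn)) using 1
    group
  obtain ⟨c, rfl⟩ := isConj_iff.1 hc
  obtain ⟨u, -, hu⟩ := Γ.two.pair.conj_invol hy (by rw [conj_mul, dd]; simp) (by simpa using Γ.d_ne)
    (fun e => hd (hc.trans (e ▸ IsConj.refl _)).symm) hv.2 vv (fun e => v1 (e ▸ one_mem _))
    (fun e => v1 (e ▸ mem_zpowers _))
  have hx : u * c * Γ.d * (u * c)⁻¹ = v := by rw [← hu]; group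
  generalize u * c = x at hx
  rcases FB.extremal S hv.1 (FB.relIndex_dvd fun p hp q hq p1 q1 => by
    have e : ∀ r ∈ (S : Subgroup G), r ∉ centralizer {v} → r * v * r⁻¹ = v * Γ.t := fun r hr r1 =>
      inv_mul_eq_iff_eq_mul.1 ((two _ (v3 r hr)).resolve_left fun e => r1
        (mem_centralizer_singleton_iff.2 (mul_inv_eq_iff_eq_mul.1 (inv_mul_eq_one.1 e).symm)))
    refine mem_centralizer_singleton_iff.2 (mul_inv_eq_iff_eq_mul.1 ?_)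
    calc _ = p * (q * v * q⁻¹) * p⁻¹ := by group
      _ = p * v * p⁻¹ * (p * Γ.t * p⁻¹) := by rw [e q hq q1, conj_mul]
      _ = v := by rw [e p hp p1, (hC p hp).eq, mul_inv_cancel_right, mul_assoc, tt, mul_one])
    with ⟨g, g1, g2⟩ | hs
  · rcases hZ _ g1 g2 with e | e
    · exact v1 (by rw [show v = 1 by simpa using e]; exact one_mem _)
    · exact hd ((isConj_iff.2 ⟨x, hx⟩).trans (isConj_iff.2 ⟨g, e⟩)).symm
  · obtain ⟨r, r1, r2⟩ := hs.exists_conj_le (R := zpowers (x * Γ.t * x⁻¹))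
      (CL.SylowAux.isPGroup_zpowers_two (by rw [conj_mul, tt]; simp))
      (zpowers_le.2 (mem_centralizer_singleton_iff.2 (by rw [← hx]; exact (Γ.d_t.conj x).symm.eq)))
    have r3 : r * (x * Γ.t * x⁻¹) * r⁻¹ ∈ (S : Subgroup G) := (r2 ⟨_, mem_zpowers _, rfl⟩).1
    refine Γ.fb_not_Y h hd (x := r * x) ?_ (by convert hC _ r3 using 1; group)
    rw [show r * x * Γ.d * (r * x)⁻¹ = r * (x * Γ.d * x⁻¹) * r⁻¹ by group, hx,
      mem_centralizer_singleton_iff.1 r1, mul_inv_cancel_right]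
    exact hv.2

variable (hG : ∀ H : Subgroup G, H.index ≠ 2)
include hG

/-- `t` is not isolated. -/
theorem exists_conj_ne : ∃ v, IsConj Γ.t v ∧ v ≠ Γ.t ∧ Commute v Γ.t := by
  by_contra! hne
  obtain ⟨O, -, hO, nO, tO⟩ := zstar_sub ⊤ (mem_top Γ.t) Γ.tt fun c _ hc => by
    by_contra e
    exact hne _ (isConj_iff.2 ⟨c, rfl⟩) e hc.symm
  have : O.Normal := ⟨fun o ho c => nO c trivial o ho⟩
  have h2 : (Γ.ψ.range ⊔ O).index ∣ 2 := index_dvd_two_iff'.2 ⟨Γ.n, fun b => by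
    have hm : b⁻¹ * (Γ.t * b * Γ.t⁻¹) ∈ O := by simpa [mul_assoc] using inv_mem (tO b⁻¹ trivial)
    obtain ⟨c, i, hi, h1, -, rfl⟩ := exists_fix_mul_inv Γ.tt (odd_of_mem hO hm)
    have hi' := mem_sup_right (S := Γ.ψ.range) (zpowers_le.2 hm hi)
    obtain ⟨x, rfl | rfl⟩ := Γ.comm_iff.1 h1.symm
    · exact Or.inr (mul_mem (mem_sup_left ⟨x, rfl⟩) hi')
    · refine Or.inl ?_
      rw [← mul_assoc, ← mul_assoc, n_mul, mul_assoc _ Γ.n Γ.n, Γ.n2, mul_one]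
      exact mul_mem (mem_sup_left ⟨_, rfl⟩) hi'⟩
  refine hG _ (((Nat.dvd_prime Nat.prime_two).1 h2).resolve_left fun e => ?_)
  obtain ⟨_, ⟨x, rfl⟩, o, ho, e1⟩ := mem_sup_of_normal_right.1 ((index_eq_one.1 e).ge (mem_top Γ.n))
  obtain ⟨k, hk⟩ := eq_pow_sq_of_odd (odd_of_mem hO ho)
  rw [eq_inv_mul_of_mul_eq e1, ← map_inv, mul_out, ← map_pow] at hk
  exact Γ.out' _ _ hk.symm

theorem fb_td_of_n' (hn : IsConj Γ.t Γ.n) : IsConj Γ.t Γ.d := by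
  by_cases h : IsSquare (-1 : F)
  · exact Γ.td_of_n h hn
  by_contra hd
  obtain ⟨S, -, -, hC, -⟩ := Γ.syl
  obtain ⟨g, hg, x, hx, e | e⟩ := CL.ThompsonTransfer.exists_conj_mem hG S (Q := (S : Subgroup G) ⊓ Γ.FbM)
    inf_le_left (FB.relIndex_dvd fun a ha b hb => Γ.fb_mul_mem_MSq (hC a ha) (hC b hb)) Γ.dd
  · have e1 : IsConj Γ.d (Γ.ψ x) := isConj_iff.2 ⟨g, e⟩
    rcases Γ.cls (x := x) (by rw [← e, conj_mul, dd]; simp) (by rw [← e]; simpa using Γ.d_ne) with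
      e2 | ⟨y, e2⟩ | ⟨-, e2⟩ | ⟨⟨a, ha⟩, -⟩
    · exact hd (e2 ▸ e1).symm
    · exact Γ.fb_not_sq_conj_d h (Γ.ψ_t y) (e2 ▸ Γ.fb_sq_iff.2 hx)
    · exact Γ.fb_not_conj_Y h hd e2 e1
    · exact h ⟨a * a, by linear_combination -ha⟩
  · have e1 : IsConj Γ.d (Γ.ψ x * Γ.n) := isConj_iff.2 ⟨g, e⟩
    rcases Γ.fb_out_sq h hx (by rw [← e, conj_mul, dd]; simp) with e2 | e2
    · exact hd (hn.trans (e1.trans e2).symm)
    · exact Γ.fb_not_conj_Y h hd (mul_mem (mem_sup_left ⟨_, rfl⟩) (Two.dia_mem_Y nn))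
        ((e1.trans e2).trans (Γ.fb_nt_conj hn))

/-- `t` is conjugate to `d`. -/
theorem td : IsConj Γ.t Γ.d := by
  obtain ⟨v, v1, v2, v3⟩ := Γ.exists_conj_ne hG
  have key : ∀ x, IsConj Γ.t (Γ.ψ x) → Γ.ψ x ≠ Γ.t → IsConj Γ.t Γ.d := fun x h1 h2 => by
    obtain ⟨y, e⟩ := (Γ.inn h1).resolve_left h2
    exact h1.trans (isConj_iff.2 ⟨_, e⟩).symm
  obtain ⟨k, rfl | rfl⟩ := Γ.comm_iff.1 v3
  · exact key k v1 v2
  · have h3 : Γ.ψ k * Γ.n * (Γ.ψ k * Γ.n) = 1 := by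
      obtain ⟨c, e⟩ := isConj_iff.1 v1
      rw [← e, conj_mul, tt]; simp
    have h4 := (Γ.tw k h3).fb_td_of_n' hG (by rwa [tw_t])
    have h5 := (Γ.tw k h3).d_ne_t
    rw [tw_t] at h4 h5
    exact key _ h4 h5

/-- Thompson transfer into `S ⊓ ψ.range`, `cls`, `td`. -/
theorem out5 (h1 : IsSquare (-1 : F)) (h8 : ∀ a : F, a ^ 4 ≠ -1) {x : LL F}
    (h : Γ.ψ x * Γ.n * (Γ.ψ x * Γ.n) = 1) : IsConj Γ.t (Γ.ψ x * Γ.n) := by
  obtain ⟨S, -, -, hC, -⟩ := Γ.syl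
  obtain ⟨g, -, y, e⟩ := CL.ThompsonTransfer.exists_conj_mem hG S (Q := (S : Subgroup G) ⊓ Γ.ψ.range)
    inf_le_left (FB.relIndex_dvd fun a ha b hb a1 b1 => by
      obtain ⟨u, rfl | rfl⟩ := Γ.comm_iff.1 (hC a ha)
      · exact absurd ⟨u, rfl⟩ a1
      obtain ⟨v, rfl | rfl⟩ := Γ.comm_iff.1 (hC b hb)
      · exact absurd ⟨v, rfl⟩ b1
      exact ⟨_, (Γ.mul_out u v).symm⟩) h
  have e1 : IsConj (Γ.ψ y) (Γ.ψ x * Γ.n) := (isConj_iff.2 ⟨g, e.symm⟩).symm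
  rcases Γ.cls (x := y) (by rw [e, conj_mul, h]; simp) (fun e2 => Γ.out' 1 x (by
      rw [map_one]; exact (by simpa using e.symm.trans e2 : _ = (1 : G)).symm)) with
    e2 | ⟨z, e2⟩ | ⟨e2, -⟩ | ⟨⟨a, ha⟩, -⟩
  · exact e2 ▸ e1
  · exact (Γ.td hG).trans ((isConj_iff.2 ⟨_, e2⟩).trans e1)
  · exact absurd h1 e2
  · exact absurd ha (h8 a)

end Dat

end CL.L4
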