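import Cfsg.Agent.INV.L4.FusA
import Cfsg.Agent.INV.L4.Api
import Cfsg.Agent.INV.R2.Sig3A
import Cfsg.Agent.INV.GW.DFactsA7

/-!
The largest normal `p`-subgroup of the centraliser of a root group.
-/

set_option autoImplicit false

namespace CL.L4

open Matrix Subgroup Cfsg CL.ABG CL.GL2 CL.R2 CL.L4.LL
open scoped MatrixGroups

theorem four_syl {G : Type*} [Group G] [Finite G] {O : Subgroup G} (hO : Odd (Nat.card O)) {t d : G}
    (ht : orderOf t = 2) (hd : orderOf d = 2) (hc : Commute t d) (hne : t ≠ d)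
    (nt : ∀ y ∈ O, t * y * t⁻¹ ∈ O) (nd : ∀ y ∈ O, d * y * d⁻¹ ∈ O) {p : ℕ} [hp : Fact p.Prime]
    (h0 : ∀ y ∈ O, Commute t y → (∃ m, y ^ p ^ m = 1) → ∀ c ∈ O, Commute c y)
    (h1 : ∀ y ∈ O, Commute y d ∨ Commute y (t * d) → t * y * t⁻¹ = y⁻¹ → ∃ m, y ^ p ^ m = 1) :
    ∃ M : Subgroup G, IsPGroup p M ∧ (∀ x, x ∈ M ↔ x ∈ O ∧ ∃ m, x ^ p ^ m = 1) ∧
      ∀ y ∈ O, t * y * t⁻¹ = y⁻¹ → y ∈ M := by
  have : Fact (Nat.Prime 2) := ⟨Nat.prime_two⟩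
  have t2 := CL.Inv.mul_self_of_orderOf_two ht
  have w2 := CL.Inv.isPGroup_closure_pair t2 (CL.Inv.mul_self_of_orderOf_two hd) hc
  have hcop : (Nat.card (closure ({t, d} : Set G))).Coprime (Nat.card O) :=
    (CL.coprime_card_of_isPGroup w2 (Nat.coprime_two_right.2 hO)).symm
  have hK : closure ({t, d} : Set G) ≤ normalizer (O : Set G) := (closure_le _).2 (by
    rintro _ (rfl | rfl)
    exacts [mem_normalizer_fintype nt, mem_normalizer_fintype nd])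
  have key : ∀ (r : ℕ) [Fact r.Prime], ∃ R : Sylow r O, t ∈ normalizer (R.1.map O.subtype : Set G) ∧
      d ∈ normalizer (R.1.map O.subtype : Set G) := fun r _ => by
    obtain ⟨R, hR⟩ := CL.coprime_exists_invariant_sylow _ O hK hcop (.inl (CL.isSolvable_of_isPGroup w2)) r
    exact ⟨R, hR (subset_closure (.inl rfl)), hR (subset_closure (.inr rfl))⟩
  have pel : ∀ {r : ℕ} (R : Sylow r O), ∀ y ∈ R.1.map O.subtype, ∃ k, y ^ r ^ k = 1 := fun R y hy =>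
    ((R.2.map O.subtype) ⟨y, hy⟩).imp fun _ => congrArg Subtype.val
  obtain ⟨P, p1, -⟩ := key p
  have hcop : P.1.index.Coprime ((centralizer {t}).subgroupOf O).index := by
    refine Nat.coprime_of_dvd fun r hr d1 d2 => ?_
    have : Fact r.Prime := ⟨hr⟩
    have hrp : r ≠ p := by rintro rfl; exact P.not_dvd_index d1
    obtain ⟨R, r1, r2⟩ := key r
    have hRO : R.1.map O.subtype ≤ O := map_subtype_le _
    have hR : Odd (Nat.card (R.1.map O.subtype)) := hO.of_dvd_nat (card_dvd_of_le hRO)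
    have le : ∀ v, Commute t v → v = d ∨ v = t * d →
        R.1.map O.subtype ⊓ centralizer {v} ≤ centralizer {t} := fun v tv hv y hy => by
      obtain ⟨c, -, i, hi, e1, e2, rfl⟩ := exists_fix_mul_inv' (hR.of_dvd_nat (card_dvd_of_le inf_le_left)) t2
        (fun y hy => ⟨conj_mem_of_norm r1 hy.1, mem_centralizer_singleton_iff.2
          ((tv.mul_left (mem_centralizer_singleton_iff.1 hy.2)).mul_left tv.inv_left)⟩) hy
      obtain ⟨m, hm⟩ := h1 i (hRO hi.1) (by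
        have : Commute i v := mem_centralizer_singleton_iff.1 hi.2
        rcases hv with rfl | rfl
        exacts [.inl this, .inr this]) e2
      obtain ⟨k, hk⟩ := pel R i hi.1
      rw [orderOf_eq_one_iff.1 (Nat.eq_one_of_dvd_coprimes (((Nat.coprime_primes hr hp.out).2 hrp).pow k m)
        (orderOf_dvd_of_pow_eq_one hk) (orderOf_dvd_of_pow_eq_one hm)), mul_one]
      exact mem_centralizer_singleton_iff.2 e1.symm
    exact R.not_dvd_index (d2.trans (index_dvd_of_le fun y hy => GW.A7.le_of_four hR ht hd hc hne r1 r2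
      inf_le_right (le _ hc (.inl rfl)) (le _ ((Commute.refl t).mul_right hc) (.inr rfl)) ⟨y, hy, rfl⟩))
  have dec : ∀ y ∈ O, ∃ a ∈ P.1.map O.subtype, ∃ b ∈ O, Commute b t ∧ y = a * b := fun y hy => by
    obtain ⟨a, ha, b, hb, e⟩ := CL.exists_mul_eq_of_coprime_index _ _ hcop ⟨y, hy⟩
    exact ⟨a, ⟨a, ha, rfl⟩, b, b.2, mem_centralizer_singleton_iff.1 hb, congrArg Subtype.val e⟩
  have inv : ∀ y ∈ O, t * y * t⁻¹ = y⁻¹ → y ∈ P.1.map O.subtype := fun y hy hi => by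
    obtain ⟨k, hk⟩ := eq_pow_sq_of_odd (odd_of_mem hO hy)
    obtain ⟨a, ha, b, -, hb, e⟩ := dec y hy
    refine hk ▸ pow_mem ?_ k
    nth_rw 2 [← inv_inv y]
    rw [← hi, e, ← conj_mul, hb.symm.mul_inv_cancel, _root_.mul_inv_rev, ← mul_assoc, mul_inv_cancel_right]
    exact mul_mem ha (inv_mem (conj_mem_of_norm p1 ha))
  have hPO : P.1.map O.subtype ≤ O := map_subtype_le _
  have nP : P.1.Normal := ⟨fun m hm y => by
    obtain ⟨a, ha, b, hb, bt, e⟩ := dec y y.2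
    obtain ⟨c, hc, i, hi, e1, e2, e3⟩ := exists_fix_mul_inv' (hO.of_dvd_nat (card_dvd_of_le hPO)) t2
      (fun _ => conj_mem_of_norm p1) ⟨m, hm, rfl⟩
    have : (y : G) * m * (y : G)⁻¹ ∈ P.1.map O.subtype := by
      rw [e, SK.conj_assoc', show (m : G) = c * i from e3, ← conj_mul (b := b),
        (h0 c (hPO hc) e1 (pel P c hc) b hb).mul_inv_cancel]
      refine mul_mem (mul_mem ha (mul_mem hc (inv _ (mul_mem (mul_mem hb (hPO hi)) (inv_mem hb)) ?_))) (inv_mem ha)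
      rw [← SK.conj_assoc', ← bt.eq, SK.conj_assoc', e2, _root_.conj_inv]
    obtain ⟨z, hz, e⟩ := this
    exact (Subtype.ext e : z = y * m * y⁻¹) ▸ hz⟩
  refine ⟨_, P.2.map _, fun x => ⟨fun h => ⟨hPO h, pel P x h⟩, fun ⟨hx, m, hm⟩ => ?_⟩, inv⟩
  have := Sylow.unique_of_normal P nP
  obtain ⟨k, -, hk⟩ := (Nat.dvd_prime_pow hp.out).1
    (orderOf_dvd_of_pow_eq_one (x := (⟨x, hx⟩ : O)) (Subtype.ext hm))
  obtain ⟨Q, hQ⟩ := (IsPGroup.of_card ((Nat.card_zpowers _).trans hk)).exists_le_sylow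
  exact ⟨_, Subsingleton.elim Q P ▸ hQ (mem_zpowers _), rfl⟩

theorem tri {F : Type*} [Field F] (two : (2 : F) ≠ 0) (p : ℕ) [Fact p.Prime] [CharP F p] {K : Subgroup SL(2, F)}
    (hK : DgInv K) (h1 : -1 ∉ K) {a b c e : F} {h : a * e - b * c = 1} (hm : mkS a b c e h ∈ K) : b * c = 0 := by
  have h2 := mul_mem hm (inv_mem (hK (-1) (by simp) h hm))
  rw [mkS_inv, mkS_mul] at h2
  have := hK.up_or_lo (odd_char two p) h1 (a := a * e + b * c) (b := a * b + b * a) (c := c * e + e * c)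
    (h := by linear_combination (a * e - b * c + 1) * h) (by convert h2 using 1; rw [mkS_inj]; simp [mul_comm, add_comm])
  simp only [up, lo, mkS_inj] at this
  exact mul_left_cancel₀ two (by linear_combination this.elim (·.1) (·.1) - h)

/-- Upper or lower unipotent. -/
def UL {F : Type*} [Field F] (s : SL(2, F)) : Prop := (∃ r, s = up r) ∨ ∃ r, s = lo r

theorem ul_of {F : Type*} [Field F] [Fintype F] (two : (2 : F) ≠ 0) (p : ℕ) [Fact p.Prime] [CharP F p] {K : Subgroup SL(2, F)}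
    (hK : DgInv K) (h1 : -1 ∉ K) {s : SL(2, F)} (ho : Odd (orderOf s)) (hi : DM * s.1 = s⁻¹.1 * DM) {l : Fˣ}
    (hl : (l : F) ^ 2 ≠ 1) (hm : dg l * s * (dg l)⁻¹ * s⁻¹ ∈ K) : UL s := by
  classical
  obtain ⟨a, b, c, e, h, rfl⟩ := exists_mkS s
  have hi' := hi
  rw [mkS_inv, coe_mkS, coe_mkS, DM, mat_ext_iff] at hi'
  simp at hi'
  obtain rfl : a = e := hi'.1
  rw [dg, mkS_inv, mkS_inv, mkS_mul, mkS_mul, mkS_mul] at hm
  have h2 := tri two p hK h1 hm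
  simp only [Units.val_inv_eq_inv_val] at h2
  field_simp at h2
  refine up_or_lo two hi (unip_of_det two ho (α := a) (y := !![0, b; c, 0]) (by simp [coe_mkS, one_fin_two])
    (by simp) ?_)
  by_cases ha : a = 0
  · have := eq_one_of_odd_of_two ho (k := 2) (by
      rw [show 2 ^ 2 = 2 * 2 from rfl, pow_mul, sq (mkS _ _ _ _ _), sq_eq_neg_one_of_trace (by simp [coe_mkS, ha])]
      simp)
    rw [one_eq_mkS, mkS_inj] at this
    exact absurd (ha.symm.trans this.1) zero_ne_one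
  · rw [det_fin_two_of]
    exact mul_left_cancel₀ (mul_ne_zero l.ne_zero (mul_ne_zero (pow_ne_zero 2 ha) (pow_ne_zero 2 (sub_ne_zero.2 hl))))
      (by linear_combination h2)

theorem ul_two {G F : Type*} [Group G] [Finite G] [Field F] [Fintype F] (Θ : Two G F F) (p : ℕ) [Fact p.Prime]
    [CharP F p] (h3 : Fintype.card F ≠ 3) {K : Subgroup G} (hK : Odd (Nat.card K)) (hd : DgInv (K.comap Θ.ι₁))
    (hT : ∀ c, ∀ y ∈ K, Θ.ι₁ (dg c) * y * (Θ.ι₁ (dg c))⁻¹ ∈ K) {u v : SL(2, F)} (hx : Θ.ι₁ u * Θ.ι₂ v ∈ K)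
    (ho : Odd (orderOf u)) (hi : DM * u.1 = u⁻¹.1 * DM) : UL u := by
  obtain ⟨l, l0, hl⟩ := R2.exists_sq_ne Θ.odd₁ h3
  refine ul_of Θ.two₁ p hd (fun h => ?_) ho hi (l := Units.mk0 l l0) hl ?_
  · exact absurd (Θ.orderOf_j ▸ odd_of_mem hK h) (by decide)
  · have := mul_mem (hT (Units.mk0 l l0) _ hx) (inv_mem hx)
    rw [← conj_mul, (Θ.comm _ v).mul_inv_cancel, _root_.mul_inv_rev, ← mul_assoc, mul_inv_cancel_right] at this
    simpa [mem_comap] using this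

theorem UL.ppow {G F : Type*} [Group G] [Field F] (p : ℕ) [CharP F p] {u : SL(2, F)} (h : UL u)
    (ι : SL(2, F) →* G) : ∃ m, ι u ^ p ^ m = 1 := by
  rcases h with ⟨r, rfl⟩ | ⟨r, rfl⟩
  exacts [ppow_up p ι r, by rw [lo_eq, map_mul, map_mul, map_inv]; exact ppow_conj _ (ppow_up p ι _)]

namespace Dat

variable {G F : Type*} [Group G] [Finite G] [Field F] [Fintype F] (Γ : Dat G F) (p : ℕ) [Fact p.Prime] [CharP F p]
  {K : Subgroup G} {x : G}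

theorem unip (h3 : Fintype.card F ≠ 3) (hK : Odd (Nat.card K)) (hT : ∀ τ ∈ Γ.T, ∀ y ∈ K, τ * y * τ⁻¹ ∈ K)
    (hx : x ∈ K) (h1 : Commute x Γ.t) (h2 : Γ.d * x * Γ.d⁻¹ = x⁻¹) :
    ∃ u v, UL u ∧ UL v ∧ x = Γ.ι₁ u * Γ.ι₂ v := by
  obtain ⟨p, hp⟩ := CharP.exists F
  have : Fact p.Prime := ⟨CharP.char_is_prime F p⟩
  have ho := odd_of_mem hK hx
  have hY : x ∈ Γ.two.Y := by
    obtain ⟨y, rfl⟩ := Γ.inn_of_odd h1 ho
    obtain ⟨k, hk⟩ := eq_pow_sq_of_odd ho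
    obtain ⟨c, c1, c2⟩ := (Γ.sq_inn (x := dgl 1 (-1) 1 (-1) (by ring) * y)).1 (by
      rw [d_inv] at h2
      rw [map_mul, ← d, ← mul_assoc, h2, inv_mul_cancel])
    have c3 := congrArg det c1
    have c4 := congrArg det c2
    simp only [mul_A, mul_B, dgl_A, dgl_B, det_mul, det_fin_two_of, det_smul, Fintype.card_fin, det_one] at c3 c4
    refine hk ▸ pow_mem (map_mul Γ.ψ y y ▸ Γ.mem_Y_of_det (c := y.A.det) (det_mul _ _) ?_) k
    linear_combination (y.A.det ^ 2) * (c3 - c4) + (y.A.det * y.B.det + 1) * y.det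
  obtain ⟨u, v, rfl, o1, o2⟩ := Two.exists_odd_of_mem_Y ho hY
  obtain ⟨u', e1, f1⟩ := (Γ.acts₁ (dgl 1 (-1) 1 (-1) (by ring))).ex u
  obtain ⟨v', e2, f2⟩ := (Γ.acts₂ (dgl 1 (-1) 1 (-1) (by ring))).ex v
  rw [map_one_equiv] at e1 e2
  rw [← conj_mul, d, f1, f2, ((Γ.two.comm u v).mul_inv), ← map_inv, ← map_inv] at h2
  obtain ⟨rfl, rfl⟩ := (Two.mul_eq_iff.1 h2).resolve_right fun e => Two.odd_neg Γ.two_ne (orderOf_inv u ▸ o1) (by
    rw [← e.1, ← orderOf_injective _ Γ.two.inj₁, ← f1, ← MulAut.conj_apply, MulEquiv.orderOf_eq,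
      orderOf_injective _ Γ.two.inj₁]
    exact o1)
  refine ⟨u, v, ul_two Γ.two p h3 hK (fun l hl a b c e h hm => ?_) (fun c => hT _ (Γ.dg₁_mem_T c)) hx o1 e1.symm,
    ul_two Γ.two.swap p h3 hK (fun l hl a b c e h hm => ?_) (fun c => hT _ (Γ.dg₂_mem_T c))
      ((Γ.two.comm u v).eq ▸ hx) o2 e2.symm, rfl⟩
  · have := hT _ (Γ.mem_T.2 ⟨l, 1, l⁻¹, 1, by field_simp, rfl⟩) _ hm
    rwa [Γ.conj₁ _ (s' := mkS a (l * b) (l⁻¹ * c) e (by field_simp; linear_combination h))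
      (by simp [coe_mkS, mul_comm, hl])] at this
  · have := hT _ (Γ.mem_T.2 ⟨l⁻¹, 1, l, 1, by field_simp, rfl⟩) _ hm
    rwa [show Γ.two.swap.ι₁ = Γ.ι₂ from rfl, Γ.conj₂ _ (s' := mkS a (l * b) (l⁻¹ * c) e
      (by field_simp; linear_combination h)) (by simp [coe_mkS, mul_comm, hl])] at this

theorem unip' (h3 : Fintype.card F ≠ 3) (hK : Odd (Nat.card K)) (hT : ∀ τ ∈ Γ.T, ∀ y ∈ K, τ * y * τ⁻¹ ∈ K)
    {k : G} (hk : k ∈ normalizer (Γ.T : Set G)) (e : k * (Γ.t * Γ.d) * k⁻¹ = Γ.t) (hx : x ∈ K)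
    (h1 : Commute x (k * Γ.t * k⁻¹)) (h2 : Γ.t * x * Γ.t⁻¹ = x⁻¹) :
    ∃ u v, UL u ∧ UL v ∧ x = k * (Γ.ι₁ u * Γ.ι₂ v) * k⁻¹ := by
  have h4 : Commute (k⁻¹ * x * k) Γ.t := by simpa [mul_assoc] using h1.conj k⁻¹
  obtain ⟨u, v, hu, hv, e⟩ := Γ.unip (K := K.comap (MulAut.conj k).toMonoidHom) (x := k⁻¹ * x * k) h3
    (hK.of_dvd_nat (card_comap_dvd_of_injective _ _ (MulAut.conj k).injective))
    (fun τ hτ y hy => by simpa [mem_comap, mul_assoc] using hT _ (conj_mem_of_norm hk hτ) _ hy)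
    (by simpa [mem_comap, mul_assoc] using hx) h4 (by
      have h5 : Γ.t * Γ.d * (k⁻¹ * x * k) * (Γ.t * Γ.d)⁻¹ = (k⁻¹ * x * k)⁻¹ := by
        rw [show (k⁻¹ * x * k)⁻¹ = k⁻¹ * x⁻¹ * k by group, ← h2]; nth_rw 3 4 [← e]; group
      rwa [← Γ.d_t.eq, SK.conj_assoc', h4.symm.mul_inv_cancel] at h5)
  exact ⟨u, v, hu, hv, by rw [← e]; group⟩

theorem eq_t (hc : IsConj Γ.t x) (h1 : Commute x Γ.t) (h2 : Commute x (Γ.ι₂ (up 1))) : x = Γ.t := by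
  obtain ⟨p, hp⟩ := CharP.exists F
  have : Fact p.Prime := ⟨CharP.char_is_prime F p⟩
  obtain ⟨y, rfl | rfl⟩ := Γ.comm_iff.1 h1
  · obtain h | ⟨z, h⟩ := Γ.inn hc
    · exact h
    have := Γ.eq_one_of_d p (x := (Γ.ψ z)⁻¹ * Γ.ι₂ (up 1) * (Γ.ψ z)⁻¹⁻¹)
      (((Γ.ψ_t z).inv_left.mul_left (Γ.two.comm₂ _)).mul_left (Γ.ψ_t z).inv_left.inv_left)
      (by simpa [← h, mul_assoc] using h2.symm.conj (Γ.ψ z)⁻¹) (ppow_conj _ (ppow_up p _ _))
    rw [conj_eq_one_iff, map_eq_one_iff _ Γ.two.inj₂, up_eq_one] at this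
    exact absurd this one_ne_zero
  · exact absurd h2.mul_inv_cancel ((Γ.swp_out y).not_up one_ne_zero)

omit [Finite G] in
theorem td_norm {O : Subgroup G} (h : ∀ k, (∀ u, ∃ v, k * Γ.ι₂ (up u) * k⁻¹ = Γ.ι₂ (up v)) → ∀ x ∈ O, k * x * k⁻¹ ∈ O) :
    ∀ τ ∈ Γ.T, ∀ y ∈ O, τ * y * τ⁻¹ ∈ O := fun _ hτ =>
  let ⟨_, hc⟩ := Γ.act₂ hτ; h _ fun u => ⟨_, (hc u).1⟩

variable {Γ} {g : G}

omit [Finite G] in
theorem Fr.kt (h : Γ.Fr g) : Γ.ι₁ nn * g * Γ.t * (Γ.ι₁ nn * g)⁻¹ = Γ.d := by rw [SK.conj_assoc', h.gt, n₁_td]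

omit [Finite G] in
theorem Fr.ke (h : Γ.Fr g) : Γ.ι₁ nn * g * (Γ.t * Γ.d) * (Γ.ι₁ nn * g)⁻¹ = Γ.t := by
  rw [SK.conj_assoc', h.ge, (Γ.two.comm₁ _).mul_inv_cancel]

theorem Fr.exists_oc (h : Γ.Fr g) (h3 : Fintype.card F ≠ 3) : ∃ M, Γ.two.OC M ∧ IsPGroup p M := by
  let U := (SwA.Up F).map Γ.ι₂
  have hU : ∀ {x}, x ∈ U ↔ ∃ u, Γ.ι₂ (up u) = x :=
    ⟨by rintro ⟨_, ⟨u, rfl⟩, rfl⟩; exact ⟨u, rfl⟩, by rintro ⟨u, rfl⟩; exact ⟨_, ⟨u, rfl⟩, rfl⟩⟩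
  let N := normalizer (U : Set G)
  have hC : ∀ {x}, x ∈ centralizer (U : Set G) ↔ ∀ u, Commute x (Γ.ι₂ (up u)) :=
    ⟨fun h u => (h _ (hU.2 ⟨u, rfl⟩)).symm, fun h _ hy => by
      obtain ⟨u, rfl⟩ := hU.1 hy; exact (h u).symm⟩
  have hj : Γ.t ∈ centralizer (U : Set G) := hC.2 fun _ => Two.j_comm₂ _
  have hn : ∀ h ∈ N, ∀ x ∈ centralizer (U : Set G), h * x * h⁻¹ ∈ centralizer (U : Set G) :=
    fun h hh x => conj_mem_of_norm (normalizer_le_normalizer_centralizer U hh)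
  let O := (oddCore N).map N.subtype
  have ho : Odd (Nat.card O) := by
    rw [card_map_of_injective N.subtype_injective]; exact CL.Rec.odd_card_oddCore
  have on : ∀ c ∈ N, ∀ o ∈ O, c * o * c⁻¹ ∈ O := by
    rintro c hc _ ⟨o, ho, rfl⟩
    exact ⟨_, (inferInstance : (oddCore N).Normal).conj_mem o ho ⟨c, hc⟩, rfl⟩
  have oz : ∀ c ∈ N, Γ.t * c * Γ.t⁻¹ * c⁻¹ ∈ O := fun c hc =>
    ⟨_, CL.Iso.zstar_elt (k := 1) (x := (⟨Γ.t, centralizer_le_normalizer _ hj⟩ : N))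
      (Subtype.ext (by simpa [sq] using Γ.tt)) (fun g hg => Subtype.ext (Γ.eq_t (isConj_iff.2 ⟨g, rfl⟩)
        (Commute.symm (congrArg Subtype.val hg)) (hC.1 (hn g g.2 _ hj) 1))) ⟨c, hc⟩, rfl⟩
  have uO : ∀ u, Γ.ι₂ (up u) ∈ O := fun u => ⟨⟨_, le_normalizer (hU.2 ⟨u, rfl⟩)⟩,
    CL.le_pPrimeCore (p := 2) (N := U.subgroupOf N) (by
      rw [Nat.card_congr (subgroupOfEquivOfLe le_normalizer).toEquiv, card_map_of_injective Γ.two.inj₂,
        SwA.card_Up, Nat.card_eq_fintype_card, Nat.coprime_two_right]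
      exact Γ.odd) (hU.2 ⟨u, rfl⟩), rfl⟩
  replace ho := ho.of_dvd_nat (card_dvd_of_le (inf_le_left (b := centralizer (U : Set G))))
  have nrm : ∀ k, (∀ u, ∃ v, k * Γ.ι₂ (up u) * k⁻¹ = Γ.ι₂ (up v)) →
      ∀ x ∈ O ⊓ centralizer (U : Set G), k * x * k⁻¹ ∈ O ⊓ centralizer (U : Set G) := fun k hk x hx => by
    have : k ∈ N := mem_normalizer_fintype fun x hx => by
      obtain ⟨u, rfl⟩ := hU.1 hx
      exact hU.2 ((hk u).imp fun _ => Eq.symm)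
    exact ⟨on k this x hx.1, hn k this x hx.2⟩
  have fix : ∀ x ∈ O ⊓ centralizer (U : Set G), Commute x Γ.t → (∃ m, x ^ p ^ m = 1) → ∃ u, x = Γ.ι₂ (up u) := by
    intro x hx h1 h2
    obtain ⟨u, v, hu, hv, rfl⟩ := Γ.ppow p h1 h2
    have po : ∀ {s : SL(2, F)}, s ^ p = 1 → Odd (orderOf s) := fun e =>
      odd_of_ppow (m := 1) (odd_char Γ.two_ne p) (by rwa [pow_one])
    have h4 := Two.comm_of_odd ho (fun s => nrm _ fun r => ⟨r, (Γ.two.comm s _).mul_inv_cancel⟩) hx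
      ((Two.fix_ι₁ u).mul (Two.fix_ι₂ v)).1
    have h5 : u = 1 := by
      refine R2.eq_one_of_odd_of_sq (po hu) (Subtype.ext ?_)
      have e := ((Two.lin_mul u v).1.scalar Γ.two.inj₁ h4).2
      have e' := u.2
      change u.1 * u.1 = 1
      rw [e, det_scal] at e'
      rw [e, smul_mul_smul, e', one_smul, one_mul]
    rw [h5, map_one, one_mul] at hx ⊢
    have h6 := (hC.1 hx.2 1).mul_inv_cancel
    rw [← map_inv, ← map_mul, ← map_mul] at h6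
    obtain ⟨r, rfl | rfl⟩ := eq_up_of_comm Γ.two_ne one_ne_zero (.inl (Γ.two.inj₂ h6))
    exacts [⟨r, rfl⟩, (Two.odd_neg Γ.two_ne (po (up_pow_char r)) (po hv)).elim]
  obtain ⟨M, hp, hM, inv⟩ := four_syl (p := p) ho Γ.two.orderOf_j (orderOf_eq_prime (by rw [sq, dd]) Γ.d_ne)
    Γ.d_t.symm Γ.d_ne_t.symm (Γ.td_norm nrm _ Γ.t_mem_T) (Γ.td_norm nrm _ Γ.d_mem_T)
    (fun y hy h1 h2 c hc => by obtain ⟨u, rfl⟩ := fix y hy h1.symm h2; exact hC.1 hc.2 u) (fun y hy h1 h2 => by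
      obtain ⟨k, u, v, hu, hv, rfl⟩ : ∃ k u v, UL u ∧ UL v ∧ y = k * (Γ.ι₁ u * Γ.ι₂ v) * k⁻¹ :=
        h1.elim (fun h1 => ⟨_, Γ.unip' h3 ho (Γ.td_norm nrm) (mul_mem Γ.n₁_norm h.gT) h.ke hy (h.kt ▸ h1) h2⟩)
          fun h1 => ⟨_, Γ.unip' h3 ho (Γ.td_norm nrm) h.gT h.ge hy (h.gt ▸ h1) h2⟩
      exact ppow_conj _ (ppow_mul (Γ.two.comm u v) (hu.ppow p _) (hv.ppow p _)))
  refine ⟨M, ⟨ho.of_dvd_nat (card_dvd_of_le fun x hx => ((hM x).1 hx).1), fun x hx => hC.1 ((hM x).1 hx).1.2,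
    fun u => (hM _).2 ⟨⟨uO u, hC.2 fun v => (up_comm u v).map _⟩, ppow_up p _ u⟩,
    fun k hk x hx => (hM _).2 ⟨nrm k hk x ((hM x).1 hx).1, ppow_conj k ((hM x).1 hx).2⟩,
    fun x h1 h2 h3 => inv x ⟨?_, hC.2 h2⟩ h3, fun x hx hc => fix x ((hM x).1 hx).1 hc ((hM x).1 hx).2⟩, hp⟩
  have h4 := oz _ (inv_mem (centralizer_le_normalizer _ (hC.2 h2)))
  rw [← _root_.conj_inv, h3, inv_inv] at h4
  obtain ⟨k, hk⟩ := eq_pow_sq_of_odd h1
  exact hk ▸ pow_mem h4 k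

end Dat

end CL.L4
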