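import Cfsg.Agent.INV.L4.RadA
import Cfsg.Agent.INV.L4.A2

/-!
A conjugate of `U₁ U₂` centralising `U₁ U₂`.
-/

set_option autoImplicit false

namespace CL.L4

open Matrix Subgroup Cfsg CL.ABG CL.R2 CL.L4.LL
open scoped MatrixGroups

theorem lo_add' {F : Type*} [Field F] (r s : F) : lo (r + s) = lo r * lo s := by
  simp only [lo, mkS_mul, mkS_inj]; refine ⟨?_, ?_, ?_, ?_⟩ <;> ring

theorem lo_zero' {F : Type*} [Field F] : lo (0 : F) = 1 := one_eq_mkS.symm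

theorem root_all {G F : Type*} [Group G] [Field F] {Q T : Subgroup G} {f : F → G}
    (add : ∀ r s, f (r + s) = f r * f s) (hT : ∀ τ ∈ T, ∀ x ∈ Q, τ * x * τ⁻¹ ∈ Q) {y σ : G} {m r : F} (hσ : σ ∈ T)
    (h1 : Commute σ y) (h2 : σ * f r * σ⁻¹ = f (m * r)) (hm : m ≠ 1) (hr : r ≠ 0) (hx : f r * y ∈ Q)
    (tr : ∀ l ≠ 0, ∃ τ ∈ T, ∀ r, τ * f r * τ⁻¹ = f (l * r)) (s : F) : f s ∈ Q := by
  have h3 := mul_mem (hT σ hσ _ hx) (inv_mem hx)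
  rw [← conj_mul, h1.mul_inv_cancel, h2, show m * r = (m - 1) * r + r by ring, add, _root_.mul_inv_rev,
    ← mul_assoc, mul_inv_cancel_right, mul_inv_cancel_right] at h3
  have h4 := mul_ne_zero (sub_ne_zero.2 hm) hr
  by_cases hs : s = 0
  · have := add 0 0
    rw [add_zero, left_eq_mul] at this
    rw [hs, this]; exact one_mem _
  obtain ⟨τ, hτ, e⟩ := tr _ (div_ne_zero hs h4)
  have := hT τ hτ _ h3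
  rwa [e, div_mul_cancel₀ _ h4] at this

theorem neg_mem {G F : Type*} [Group G] [Field F] {Q : Subgroup G} {ι : SL(2, F) →* G} (h1 : ∀ s, ι (up s) ∈ Q)
    (h2 : ∀ s, ι (lo s) ∈ Q) : ι (-1) ∈ Q := by
  have := mul_mem (mul_mem (h1 1) (h2 (-1))) (h1 1)
  simpa only [neg_one_eq_sq, map_mul] using mul_mem this this

namespace Dat

variable {G F : Type*} [Group G] [Finite G] [Field F] [Fintype F] (Γ : Dat G F) {Q M : Subgroup G} {g k x z : G}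

omit [Finite G] in
theorem roots₁ (h3 : Fintype.card F ≠ 3) (hT : ∀ τ ∈ Γ.T, ∀ x ∈ Q, τ * x * τ⁻¹ ∈ Q) {u v : SL(2, F)}
    (hx : Γ.ι₁ u * Γ.ι₂ v ∈ Q) {r : F} (hr : r ≠ 0) :
    (u = up r → ∀ s, Γ.ι₁ (up s) ∈ Q) ∧ (u = lo r → ∀ s, Γ.ι₁ (lo s) ∈ Q) := by
  obtain ⟨l, l0, hl⟩ := R2.exists_sq_ne Γ.odd h3
  let c := Units.mk0 l l0
  constructor <;> rintro rfl
  · exact root_all (f := fun r => Γ.ι₁ (up r)) (fun r s => by rw [up_add, map_mul]) hT (Γ.dg₁_mem_T c)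
      (Γ.two.comm _ v) (by rw [ι₁_dg, dgl_up₁]) (by simpa [c, ← sq] using hl) hr hx fun l hl =>
        ⟨_, Γ.mem_T.2 ⟨l, 1, l⁻¹, 1, by field_simp, rfl⟩, fun r => by rw [dgl_up₁]; congr 2; field_simp⟩
  · exact root_all (f := fun r => Γ.ι₁ (lo r)) (fun r s => by rw [lo_add', map_mul]) hT (Γ.dg₁_mem_T c)
      (Γ.two.comm _ v) (by rw [ι₁_dg, dgl_lo₁]) (by simpa [c, ← sq] using hl) hr hx fun l hl =>
        ⟨_, Γ.mem_T.2 ⟨1, l, l⁻¹, 1, by field_simp, rfl⟩, fun r => by rw [dgl_lo₁]; congr 2; field_simp⟩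

/-- The conjugate of a subgroup. -/
abbrev cm (Q : Subgroup G) (k : G) : Subgroup G := Q.comap (MulAut.conj k).toMonoidHom

omit [Finite G] in
theorem cm_T (hT : ∀ τ ∈ Γ.T, ∀ x ∈ Q, τ * x * τ⁻¹ ∈ Q) (hk : k ∈ normalizer (Γ.T : Set G)) :
    ∀ τ ∈ Γ.T, ∀ x ∈ cm Q k, τ * x * τ⁻¹ ∈ cm Q k := fun τ hτ y hy => by
  simpa [mem_comap, mul_assoc] using hT _ (conj_mem_of_norm hk hτ) _ hy

theorem roots₂ (h3 : Fintype.card F ≠ 3) (hT : ∀ τ ∈ Γ.T, ∀ x ∈ Q, τ * x * τ⁻¹ ∈ Q) {u v : SL(2, F)}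
    (hx : Γ.ι₁ u * Γ.ι₂ v ∈ Q) {r : F} (hr : r ≠ 0) :
    (v = up r → ∀ s, Γ.ι₂ (up s) ∈ Q) ∧ (v = lo r → ∀ s, Γ.ι₂ (lo s) ∈ Q) := by
  have := Γ.roots₁ h3 (Γ.cm_T hT Γ.n_norm) (u := v) (v := u) (by
    change Γ.n * _ * Γ.n⁻¹ ∈ Q
    rwa [← conj_mul, n_ι₁, n_ι₂, ← (Γ.two.comm u v).eq]) hr
  exact ⟨fun e s => Γ.n_ι₁ _ ▸ this.1 e s, fun e s => Γ.n_ι₁ _ ▸ this.2 e s⟩

/-- The centraliser of `U₁ U₂`. -/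
def CP : Subgroup G where
  carrier := {x | ∀ a, Commute x (Γ.ι₁ (up a)) ∧ Commute x (Γ.ι₂ (up a))}
  one_mem' _ := ⟨.one_left _, .one_left _⟩
  mul_mem' h h' a := ⟨(h a).1.mul_left (h' a).1, (h a).2.mul_left (h' a).2⟩
  inv_mem' h a := ⟨(h a).1.inv_left, (h a).2.inv_left⟩

omit [Finite G] in
theorem CP_T : ∀ τ ∈ Γ.T, ∀ x ∈ Γ.CP, τ * x * τ⁻¹ ∈ Γ.CP := fun τ hτ x hx a => by
  obtain ⟨c, h1⟩ := Γ.act₁ hτ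
  obtain ⟨c', h2⟩ := Γ.act₂ hτ
  exact ⟨by simpa [(h1 _).1] using (hx ((c⁻¹ : Fˣ) * a)).1.conj τ,
    by simpa [(h2 _).1] using (hx ((c'⁻¹ : Fˣ) * a)).2.conj τ⟩

omit [Finite G] in
theorem cm_CP (hk : k ∈ normalizer (Γ.T : Set G)) (h : ∃ τ ∈ Γ.T, k⁻¹ * Γ.n * k = τ * z) (hx : x ∈ cm Γ.CP k) :
    z * x * z⁻¹ ∈ cm Γ.CP k := by
  obtain ⟨τ, hτ, e⟩ := h
  rw [← inv_mul_eq_iff_eq_mul.2 e, SK.conj_assoc']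
  refine Γ.cm_T Γ.CP_T hk _ (inv_mem hτ) _ fun a => ?_
  have := hx a
  simp only [MulEquiv.coe_toMonoidHom, MulAut.conj_apply] at this ⊢
  rw [show k * (k⁻¹ * Γ.n * k * x * (k⁻¹ * Γ.n * k)⁻¹) * k⁻¹ = Γ.n * (k * x * k⁻¹) * Γ.n⁻¹ by group]
  exact ⟨Γ.n_ι₂ _ ▸ this.2.conj _, Γ.n_ι₁ _ ▸ this.1.conj _⟩

omit [Finite G] in
theorem e_up₁ (r : F) : Γ.t * Γ.d * Γ.ι₁ (up r) * (Γ.t * Γ.d)⁻¹ = Γ.ι₁ (up (-r)) := by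
  rw [SK.conj_assoc', d_up₁, (Γ.two.comm₁ _).symm.mul_inv_cancel]

omit [Finite G] in
theorem e_up₂ (r : F) : Γ.t * Γ.d * Γ.ι₂ (up r) * (Γ.t * Γ.d)⁻¹ = Γ.ι₂ (up (-r)) := by
  rw [SK.conj_assoc', d_up₂, (Γ.two.comm₂ _).symm.mul_inv_cancel]

omit [Finite G] in
theorem e_t : Commute (Γ.t * Γ.d) Γ.t := (Commute.refl _).mul_left Γ.d_t

variable {Γ}

theorem exists_c (p : ℕ) [Fact p.Prime] [CharP F p] (H : Γ.two.OC M) (hp : IsPGroup p M) (hs : Γ.Sg) :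
    ∃ c ∈ M, c ≠ 1 ∧ c ∈ Γ.CP ∧ (Commute c Γ.d ∨ Commute c (Γ.t * Γ.d)) := by
  obtain ⟨x, x1, xo, xi, xc⟩ := hs
  let P : Subgroup G :=
    { carrier := {y | ∃ a b, y = Γ.ι₁ (up a) * Γ.ι₂ (up b)}
      one_mem' := ⟨0, 0, by simp [up_zero]⟩
      mul_mem' := by rintro _ _ ⟨a, b, rfl⟩ ⟨c, d, rfl⟩; exact ⟨_, _, Two.uu_mul a b c d⟩
      inv_mem' := by
        rintro _ ⟨a, b, rfl⟩; exact ⟨-a, -b, by rw [(Γ.two.comm _ _).mul_inv, up_neg, up_neg, map_inv, map_inv]⟩ }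
  have pt : ∀ y ∈ P, Commute Γ.t y := by
    rintro _ ⟨a, b, rfl⟩; exact (Two.j_comm₁ _).mul_right (Two.j_comm₂ _)
  have k : ∀ {y}, Odd (orderOf y) → Γ.t * y * Γ.t⁻¹ = y⁻¹ → Commute Γ.t y → y = 1 := fun h1 h2 h3 =>
    R2.eq_one_of_odd_of_sq h1 (eq_inv_iff_mul_eq_one.1 (h3.mul_inv_cancel.symm.trans h2))
  obtain ⟨m, m1, ⟨j, mp⟩, mi, mc⟩ := exists_inv_cent (odd_char Γ.two_ne p) (U := P) Γ.tt hp
    (by rintro ⟨_, a, b, rfl⟩; exact (Two.uu_ppow p a b).imp fun _ => Subtype.ext)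
    (by rintro _ ⟨a, b, rfl⟩
        exact mem_normalizer_fintype fun y => H.nrm_of_comm fun u => by
          simpa [up_zero] using Two.uu_comm (Γ := Γ.two) a b 0 u)
    (fun _ => H.nrm_j) pt (fun y hy hc => let ⟨u, e⟩ := H.fix y hy hc.symm; ⟨0, u, by simp [up_zero, e]⟩)
    fun h => x1 (k xo xi (pt x (h (H.mem x xo xc xi))))
  have mo := odd_of_ppow (odd_char Γ.two_ne p) mp
  have mP : m ∈ Γ.CP := fun a => ⟨mc _ ⟨a, 0, by simp [up_zero]⟩, mc _ ⟨0, a, by simp [up_zero]⟩⟩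
  obtain ⟨c, hc, c', hc', u, e1, e2, rfl⟩ := H.exists_mul (K := M ⊓ Γ.CP) inf_le_left Γ.dd Γ.d_t
    (fun y hy => ⟨Γ.td_norm H.nrm _ Γ.d_mem_T y hy.1, Γ.CP_T _ Γ.d_mem_T y hy.2⟩)
    (fun y hy => ⟨H.nrm_j hy.1, Γ.CP_T _ Γ.t_mem_T y hy.2⟩) ⟨H.mem m mo (fun u => (mP u).2) mi, mP⟩
  by_cases h1 : c = 1
  · refine ⟨c', hc'.1, fun h2 => m1 (k mo mi ?_), hc'.2, .inr e2⟩
    rw [h1, h2, one_mul, one_mul]; exact Two.j_comm₂ _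
  · exact ⟨c, hc.1, h1, hc.2, .inl e1⟩

theorem some_root (h3 : Fintype.card F ≠ 3) (hT : ∀ τ ∈ Γ.T, ∀ x ∈ Q, τ * x * τ⁻¹ ∈ Q) {u v : SL(2, F)}
    (hx : Γ.ι₁ u * Γ.ι₂ v ∈ Q) (hu : UL u) (hv : UL v) (h1 : Γ.ι₁ u * Γ.ι₂ v ≠ 1) :
    ((∀ s, Γ.ι₁ (up s) ∈ Q) ∨ ∀ s, Γ.ι₁ (lo s) ∈ Q) ∨ (∀ s, Γ.ι₂ (up s) ∈ Q) ∨ ∀ s, Γ.ι₂ (lo s) ∈ Q := by
  by_cases h : u = 1
  · have : v ≠ 1 := fun e => h1 (by simp [h, e])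
    refine .inr (hv.imp ?_ ?_) <;> rintro ⟨r, rfl⟩
    exacts [(Γ.roots₂ h3 hT hx fun e => this (by rw [e, up_zero])).1 rfl,
      (Γ.roots₂ h3 hT hx fun e => this (by rw [e, lo_zero'])).2 rfl]
  · refine .inl (hu.imp ?_ ?_) <;> rintro ⟨r, rfl⟩
    exacts [(Γ.roots₁ h3 hT hx fun e => h (by rw [e, up_zero])).1 rfl,
      (Γ.roots₁ h3 hT hx fun e => h (by rw [e, lo_zero'])).2 rfl]

theorem Fr.exists_cp (p : ℕ) [Fact p.Prime] [CharP F p] (h : Γ.Fr g) (h3 : Fintype.card F ≠ 3) (H : Γ.two.OC M)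
    (hp : IsPGroup p M) (hs : Γ.Sg) :
    ∃ g', Γ.Fr g' ∧ ∀ s, g' * Γ.ι₁ (up s) * g'⁻¹ ∈ Γ.CP ∧ g' * Γ.ι₂ (up s) * g'⁻¹ ∈ Γ.CP := by
  obtain ⟨c, hc, c1, cP, e | e⟩ := exists_c p H hp hs
  · have hk := mul_mem Γ.n₁_norm h.gT
    obtain ⟨u, v, hu, hv, rfl⟩ := Γ.unip' h3 H.odd (Γ.td_norm H.nrm) hk h.ke hc (h.kt ▸ e)
      (H.inv_of_comm Γ.d_up₂ Γ.d_t hc e)
    have W := fun x => Γ.cm_CP (x := x) hk h.rel.2.2.1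
    have : Γ.t ∈ cm Γ.CP (Γ.ι₁ nn * g) := by
      rcases some_root h3 (Γ.cm_T Γ.CP_T hk) cP hu hv (mt conj_eq_one_iff.2 c1) with (k | k) | k | k
      · exact neg_mem k fun s => by simpa [w_ι₁, A2.nn_up] using W _ (k (-s))
      · exact neg_mem (fun s => by simpa [w_ι₁, A2.nn_lo] using W _ (k (-s))) k
      all_goals rw [t, Two.j, ← Γ.two.neg]
      · exact neg_mem k fun s => by simpa [w_ι₂, A2.nn_up] using W _ (k (-s))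
      · exact neg_mem (fun s => by simpa [w_ι₂, A2.nn_lo] using W _ (k (-s))) k
    have := up_inj.1 (Γ.two.inj₁ (((show Γ.d ∈ Γ.CP from h.kt ▸ this) 1).1.mul_inv_cancel.symm.trans (Γ.d_up₁ 1)))
    exact absurd (by linear_combination this) Γ.two_ne
  · obtain ⟨u, v, hu, hv, rfl⟩ := Γ.unip' h3 H.odd (Γ.td_norm H.nrm) h.gT h.ge hc (h.gt ▸ e)
      (H.inv_of_comm Γ.e_up₂ Γ.e_t hc e)
    have W := fun x => Γ.cm_CP (x := x) h.gT h.rel.1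
    have K : (∀ s, Γ.ι₁ (lo s) ∈ cm Γ.CP g ∧ Γ.ι₂ (lo s) ∈ cm Γ.CP g) → ∃ g', Γ.Fr g' ∧
        ∀ s, g' * Γ.ι₁ (up s) * g'⁻¹ ∈ Γ.CP ∧ g' * Γ.ι₂ (up s) * g'⁻¹ ∈ Γ.CP := fun k =>
      ⟨_, h.mul_w, fun s => by rw [SK.conj_assoc', SK.conj_assoc', w_ι₁, w_ι₂, A2.nn_up]; exact k _⟩
    rcases some_root h3 (Γ.cm_T Γ.CP_T h.gT) cP hu hv (mt conj_eq_one_iff.2 c1) with (k | k) | k | k
    exacts [⟨g, h, fun s => ⟨k s, Γ.n_ι₁ _ ▸ W _ (k s)⟩⟩, K fun s => ⟨k s, Γ.n_ι₁ _ ▸ W _ (k s)⟩,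
      ⟨g, h, fun s => ⟨Γ.n_ι₂ _ ▸ W _ (k s), k s⟩⟩, K fun s => ⟨Γ.n_ι₂ _ ▸ W _ (k s), k s⟩]

end Dat

end CL.L4
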